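import Mathlib

/-!
The three-primes lemma for prime graphs, from the fixed-point lemma for a Frobenius action.
-/

set_option autoImplicit false

namespace CfsgLib.Recog

/-- If `E` has no non-trivial fixed point on the abelian group `M`, the element `x` of prime order
normalising `E` neither, and `x` centralises no non-trivial element of `E`, then `|E|` kills `M`. -/
theorem pow_card_eq_one_of_frobenius {H M : Type*} [Group H] [CommGroup M] (φ : H →* MulAut M)
    (E : Subgroup H) [Finite E] (x : H) {r : ℕ} (hr : r.Prime) (hxr : x ^ r = 1)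
    (hnorm : ∀ e ∈ E, x * e * x⁻¹ ∈ E) (hsemi : ∀ e ∈ E, x * e * x⁻¹ = e → e = 1)
    (hE : ∀ v : M, (∀ e ∈ E, φ e v = v) → v = 1) (hx : ∀ v : M, φ x v = v → v = 1) (v : M) :
    v ^ Nat.card E = 1 := by
  classical
  haveI : Fintype E := Fintype.ofFinite E
  -- powers of `x` normalise `E`
  have hnormi : ∀ i : ℕ, ∀ e ∈ E, x ^ i * e * (x ^ i)⁻¹ ∈ E := by
    intro i
    induction i with
    | zero => intro e he; simpa using he
    | succ i ih =>
      intro e he
      have h1 : x ^ (i + 1) * e * (x ^ (i + 1))⁻¹ = x * (x ^ i * e * (x ^ i)⁻¹) * x⁻¹ := by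
        rw [pow_succ']; group
      rw [h1]
      exact hnorm _ (ih e he)
  have hsemii : ∀ i : ℕ, ¬ r ∣ i → ∀ e ∈ E, x ^ i * e * (x ^ i)⁻¹ = e → e = 1 := by
    intro i hi e he h
    obtain ⟨j, hj⟩ := Nat.exists_mul_mod_eq_one_of_coprime
      ((hr.coprime_iff_not_dvd.2 hi).symm) hr.one_lt
    have hc : Commute (x ^ i) e := mul_inv_eq_iff_eq_mul.1 h
    have hc2 : Commute x e := by
      have h2 := hc.pow_left j
      have hdiv := Nat.div_add_mod (i * j) r
      rw [hj.2] at hdiv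
      rw [← pow_mul, ← hdiv, pow_succ, pow_mul, hxr, one_pow, one_mul] at h2
      exact h2
    exact hsemi e he (mul_inv_eq_iff_eq_mul.2 hc2)
  have hnormE : ∀ w : M, (∏ e : E, φ (e : H) w) = 1 := by
    intro w
    refine hE _ fun f hf => ?_
    rw [map_prod]
    exact Fintype.prod_equiv (Equiv.mulLeft ⟨f, hf⟩) _ _
      (fun e => by rw [Equiv.coe_mulLeft, Subgroup.coe_mul, map_mul]; rfl)
  have hcyc : ∀ e : E, ∏ i ∈ Finset.range r, φ (((e : H) * x * (e : H)⁻¹) ^ i) v = 1 := by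
    intro e
    set y := (e : H) * x * (e : H)⁻¹ with hy
    set P := ∏ i ∈ Finset.range r, φ (y ^ i) v with hP
    have hfixP : φ y P = P := by
      have h1 : φ y P = ∏ i ∈ Finset.range r, φ (y ^ (i + 1)) v := by
        rw [hP, map_prod]
        refine Finset.prod_congr rfl fun i _ => ?_
        rw [pow_succ' y i, map_mul φ y (y ^ i)]
        rfl
      have h2 : φ (y ^ r) v = v := by
        rw [hy, conj_pow, hxr, mul_one, mul_inv_cancel, map_one]; rfl
      have h3 := (Finset.prod_range_succ' (fun i => φ (y ^ i) v) r).symm.trans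
        (Finset.prod_range_succ (fun i => φ (y ^ i) v) r)
      simp only [pow_zero, map_one, MulAut.one_apply, h2] at h3
      rw [h1]
      exact mul_right_cancel h3
    have hfix' : φ x (φ (e : H)⁻¹ P) = φ (e : H)⁻¹ P := by
      have h4 : x * (e : H)⁻¹ = (e : H)⁻¹ * y := by rw [hy]; group
      rw [← MulAut.mul_apply, ← map_mul, h4, map_mul, MulAut.mul_apply, hfixP]
    exact (MulEquiv.map_eq_one_iff (φ (e : H)⁻¹)).1 (hx _ hfix')
  have htot : ∏ i ∈ Finset.range r, ∏ e : E, φ (((e : H) * x * (e : H)⁻¹) ^ i) v = 1 := by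
    rw [Finset.prod_comm]
    exact Finset.prod_eq_one fun e _ => hcyc e
  rw [Finset.prod_eq_single_of_mem 0 (Finset.mem_range.2 hr.pos)] at htot
  · simpa [Nat.card_eq_fintype_card] using htot
  · intro i hi hi0
    have hri : ¬ r ∣ i := fun h => hi0 (Nat.eq_zero_of_dvd_of_lt h (Finset.mem_range.1 hi))
    let θ : E → E := fun e =>
      ⟨(e : H) * (x ^ i * (e : H)⁻¹ * (x ^ i)⁻¹), mul_mem e.2 (hnormi i _ (inv_mem e.2))⟩
    have hθ : Function.Injective θ := by
      intro e f hef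
      have h1 : (e : H) * (x ^ i * (e : H)⁻¹ * (x ^ i)⁻¹) = (f : H) * (x ^ i * (f : H)⁻¹ * (x ^ i)⁻¹) :=
        congrArg Subtype.val hef
      have h2 : x ^ i * ((e : H)⁻¹ * f) * (x ^ i)⁻¹ = (e : H)⁻¹ * f := by
        calc x ^ i * ((e : H)⁻¹ * f) * (x ^ i)⁻¹
            = (e : H)⁻¹ * ((e : H) * (x ^ i * (e : H)⁻¹ * (x ^ i)⁻¹)) *
                (x ^ i * f * (x ^ i)⁻¹) := by group
          _ = (e : H)⁻¹ * ((f : H) * (x ^ i * (f : H)⁻¹ * (x ^ i)⁻¹)) *
                (x ^ i * f * (x ^ i)⁻¹) := by rw [h1]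
          _ = (e : H)⁻¹ * f := by group
      have h3 := hsemii i hri _ (mul_mem (inv_mem e.2) f.2) h2
      exact Subtype.ext (inv_mul_eq_one.1 h3)
    have hval : ∀ e : E, φ (((e : H) * x * (e : H)⁻¹) ^ i) v = φ (θ e : H) (φ (x ^ i) v) := by
      intro e
      rw [← MulAut.mul_apply, ← map_mul]
      congr 2
      rw [conj_pow]
      simp [θ, mul_assoc]
    simp only [hval]
    exact ((Finite.injective_iff_bijective.1 hθ).prod_comp
      (fun e : E => φ (e : H) (φ (x ^ i) v))).trans (hnormE _)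

variable {G : Type*} [Group G]

theorem exists_orderOf_mul_of_commute {a b : G} {p q : ℕ} (hp : p.Prime) (hq : q.Prime)
    (hpq : p ≠ q) (ha : orderOf a = p) (hb : orderOf b = q) (h : Commute a b) :
    ∃ g : G, orderOf g = p * q :=
  ⟨a * b, by rw [h.orderOf_mul_eq_mul_orderOf_of_coprime
    (by rw [ha, hb]; exact (Nat.coprime_primes hp hq).2 hpq), ha, hb]⟩

theorem exists_orderOf_prime_of_pGroup {q : ℕ} [Fact q.Prime] [Finite G] {Q : Subgroup G}
    (hQ : IsPGroup q Q) {a : G} (ha : a ∈ Q) (ha1 : a ≠ 1) :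
    ∃ k : ℕ, orderOf (a ^ k) = q := by
  obtain ⟨n, hn⟩ := IsPGroup.iff_orderOf.1 hQ ⟨a, ha⟩
  rw [← Subgroup.orderOf_coe] at hn
  rcases n with _ | n
  · exact absurd (orderOf_eq_one_iff.1 hn) ha1
  · exact ⟨q ^ n, by
      rw [orderOf_pow, hn, Nat.gcd_eq_right (pow_dvd_pow q n.le_succ), pow_succ',
        Nat.mul_div_cancel _ (pow_pos (Fact.out (p := q.Prime)).pos n)]⟩

/-- A `p`-group normalised by a non-trivial `q`-group `Q` and an element of order `r` that
normalises `Q`: two of the three primes are adjacent. -/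
theorem adjacent_of_tower [Finite G] {p q r : ℕ} [Fact p.Prime] [Fact q.Prime] (hr : r.Prime)
    (hpq : p ≠ q) (hpr : p ≠ r) (hqr : q ≠ r) {P Q : Subgroup G} (hP : IsPGroup p P) (hP1 : P ≠ ⊥)
    (hQ : IsPGroup q Q) (hQ1 : Q ≠ ⊥) {x : G} (hx : orderOf x = r)
    (hQP : Q ≤ Subgroup.normalizer (P : Set G)) (hxP : x ∈ Subgroup.normalizer (P : Set G))
    (hxQ : x ∈ Subgroup.normalizer (Q : Set G)) :
    (∃ g : G, orderOf g = p * q) ∨ (∃ g : G, orderOf g = p * r) ∨ (∃ g : G, orderOf g = q * r) := by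
  by_contra hcon
  push Not at hcon
  obtain ⟨h1, h2, h3⟩ := hcon
  let N := Subgroup.normalizer (P : Set G)
  haveI : (P.subgroupOf N).Normal := Subgroup.normal_in_normalizer
  let Pn := P.subgroupOf N
  have hPn : IsPGroup p Pn := hP.comap_of_injective N.subtype N.subtype_injective
  haveI : (Subgroup.center Pn).Characteristic := inferInstance
  let M : Subgroup N := (Subgroup.center Pn).map Pn.subtype
  haveI : M.Normal := inferInstance
  letI : CommGroup M := { (inferInstance : Group M) with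
    mul_comm := by
      rintro ⟨_, a, ha, rfl⟩ ⟨_, b, hb, rfl⟩
      apply Subtype.ext
      change Pn.subtype a * Pn.subtype b = Pn.subtype b * Pn.subtype a
      rw [← map_mul, ← map_mul, Subgroup.mem_center_iff.1 hb a] }
  haveI : Nontrivial Pn := by
    rw [Subgroup.nontrivial_iff_ne_bot]
    intro h
    apply hP1
    have h' := congrArg (Subgroup.map N.subtype) h
    rwa [Subgroup.map_subgroupOf_eq_of_le Subgroup.le_normalizer, Subgroup.map_bot] at h'
  have hne : M ≠ ⊥ := by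
    rw [Ne, Subgroup.map_eq_bot_iff_of_injective _ Pn.subtype_injective]
    exact (Subgroup.nontrivial_iff_ne_bot _).1 hPn.center_nontrivial
  have hMp : IsPGroup p M := (hPn.to_subgroup _).map Pn.subtype
  let E : Subgroup N := Q.subgroupOf N
  let xn : N := ⟨x, hxP⟩
  obtain ⟨z, hzM, hz1⟩ : ∃ z ∈ M, z ≠ 1 := by
    by_contra h
    push Not at h
    exact hne (eq_bot_iff.2 fun z hz => Subgroup.mem_bot.2 (h z hz))
  have noFixP : ∀ {m : N}, m ∈ M → ∀ {a : G} {s : ℕ}, s.Prime → p ≠ s → orderOf a = s →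
      Commute (m : G) a → (∀ g : G, orderOf g ≠ p * s) → m = 1 := by
    intro m hm a s hs hps ha hc hno
    by_contra hm1
    obtain ⟨k, hk⟩ := exists_orderOf_prime_of_pGroup (G := N) hMp hm hm1
    rw [← Subgroup.orderOf_coe, Subgroup.coe_pow] at hk
    obtain ⟨g, hg⟩ := exists_orderOf_mul_of_commute (Fact.out : p.Prime) hs hps hk ha (hc.pow_left k)
    exact hno g hg
  have hsemi : ∀ e ∈ E, xn * e * xn⁻¹ = e → e = 1 := by
    intro e he hcomm
    by_contra he1
    have he1' : (e : G) ≠ 1 := fun h => he1 (Subtype.ext h)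
    obtain ⟨k, hk⟩ := exists_orderOf_prime_of_pGroup hQ (Subgroup.mem_subgroupOf.1 he) he1'
    have hc : Commute (e : G) x :=
      (congrArg Subtype.val (mul_inv_eq_iff_eq_mul.1 hcomm) : x * (e : G) = (e : G) * x).symm
    obtain ⟨g, hg⟩ := exists_orderOf_mul_of_commute (Fact.out : q.Prime) hr hqr hk hx (hc.pow_left k)
    exact h3 g hg
  have hfixE : ∀ v : M, (∀ e ∈ E, (MulAut.conjNormal : N →* MulAut M) e v = v) → v = 1 := by
    intro v hv
    obtain ⟨a, haQ, ha1⟩ : ∃ a ∈ Q, a ≠ 1 := by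
      by_contra h
      push Not at h
      exact hQ1 (eq_bot_iff.2 fun a ha => Subgroup.mem_bot.2 (h a ha))
    obtain ⟨k, hk⟩ := exists_orderOf_prime_of_pGroup hQ haQ ha1
    have hv' := congrArg Subtype.val (hv ⟨a, hQP haQ⟩ (Subgroup.mem_subgroupOf.2 haQ))
    rw [MulAut.conjNormal_apply] at hv'
    have hc : Commute ((v : N) : G) a :=
      (congrArg Subtype.val (mul_inv_eq_iff_eq_mul.1 hv') : a * ((v : N) : G) = ((v : N) : G) * a).symm
    exact Subtype.ext (noFixP v.2 (Fact.out : q.Prime) hpq hk (hc.pow_right k) h1)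
  have hfixx : ∀ v : M, (MulAut.conjNormal : N →* MulAut M) xn v = v → v = 1 := by
    intro v hv
    have hv' := congrArg Subtype.val hv
    rw [MulAut.conjNormal_apply] at hv'
    have hc : Commute ((v : N) : G) x :=
      (congrArg Subtype.val (mul_inv_eq_iff_eq_mul.1 hv') : x * ((v : N) : G) = ((v : N) : G) * x).symm
    exact Subtype.ext (noFixP v.2 hr hpr hx hc h2)
  have hcard := pow_card_eq_one_of_frobenius (MulAut.conjNormal : N →* MulAut M) E xn hr
    (Subtype.ext (by rw [← hx]; exact pow_orderOf_eq_one x))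
    (fun e he => Subgroup.mem_subgroupOf.2
      ((Subgroup.mem_normalizer_iff.1 hxQ e).1 (Subgroup.mem_subgroupOf.1 he)))
    hsemi hfixE hfixx ⟨z, hzM⟩
  obtain ⟨nQ, hnQ⟩ := IsPGroup.iff_card.1 (hQ.comap_of_injective N.subtype N.subtype_injective)
  obtain ⟨nM, hnM⟩ := IsPGroup.iff_card.1 hMp
  have hd1 : orderOf (⟨z, hzM⟩ : M) ∣ q ^ nQ := by
    rw [← hnQ]
    exact orderOf_dvd_of_pow_eq_one hcard
  have hd2 : orderOf (⟨z, hzM⟩ : M) ∣ p ^ nM := hnM ▸ orderOf_dvd_natCard _
  have h5 := Nat.eq_one_of_dvd_coprimes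
    (Nat.Coprime.pow nQ nM ((Nat.coprime_primes Fact.out Fact.out).2 hpq.symm)) hd1 hd2
  exact hz1 (congrArg Subtype.val (orderOf_eq_one_iff.1 h5))

theorem index_dvd_card_normalizer [Finite G] (H : Subgroup G) [H.Normal] {p : ℕ} [Fact p.Prime]
    (P : Sylow p H) :
    H.index ∣ Nat.card (Subgroup.normalizer (((P : Subgroup H).map H.subtype : Subgroup G) : Set G)) := by
  set N := Subgroup.normalizer (((P : Subgroup H).map H.subtype : Subgroup G) : Set G)
  have h : N ⊔ H = ⊤ := Sylow.normalizer_sup_eq_top P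
  have h2 : H.relIndex N = H.index := by
    rw [← Subgroup.relIndex_sup_right, h, Subgroup.relIndex_top_right]
  rw [← h2]
  exact Subgroup.index_dvd_card _

/-- Distinct primes `p ∣ |K|`, `q ∣ |M / K|`, `r ∣ |G / M|`: two of them are adjacent. -/
theorem adjacent_of_series [Finite G] (K M : Subgroup G) [K.Normal] [M.Normal] (hKM : K ≤ M)
    {p q r : ℕ} (hp : p.Prime) (hq : q.Prime) (hr : r.Prime) (hpq : p ≠ q) (hpr : p ≠ r)
    (hqr : q ≠ r) (hpK : p ∣ Nat.card K) (hqM : q ∣ K.relIndex M) (hrG : r ∣ M.index) :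
    (∃ g : G, orderOf g = p * q) ∨ (∃ g : G, orderOf g = p * r) ∨ (∃ g : G, orderOf g = q * r) := by
  haveI : Fact p.Prime := ⟨hp⟩
  haveI : Fact q.Prime := ⟨hq⟩
  haveI : Fact r.Prime := ⟨hr⟩
  let P : Sylow p K := default
  set Pg := (P : Subgroup K).map K.subtype with hPg
  set N := Subgroup.normalizer (Pg : Set G) with hN
  have hsup : N ⊔ K = ⊤ := Sylow.normalizer_sup_eq_top P
  have hKN : (K.subgroupOf N).index = K.index := by
    change K.relIndex N = K.index
    rw [← Subgroup.relIndex_sup_right, hsup, Subgroup.relIndex_top_right]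
  have hMN : (M.subgroupOf N).index = M.index := by
    change M.relIndex N = M.index
    rw [← Subgroup.relIndex_sup_right, top_le_iff.1 (hsup.ge.trans (sup_le_sup_left hKM N)),
      Subgroup.relIndex_top_right]
  have hqMN : q ∣ Nat.card (M.subgroupOf N) := by
    have e : Nat.card (M.subgroupOf N) * M.index =
        Nat.card (K.subgroupOf N) * K.relIndex M * M.index := by
      rw [mul_assoc, Subgroup.relIndex_mul_index hKM, ← hKN, Subgroup.card_mul_index, ← hMN,
        Subgroup.card_mul_index]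
    rw [Nat.eq_of_mul_eq_mul_right (Nat.pos_of_ne_zero Subgroup.index_ne_zero_of_finite) e]
    exact dvd_mul_of_dvd_right hqM _
  let Q : Sylow q (M.subgroupOf N) := default
  set Qn := (Q : Subgroup (M.subgroupOf N)).map (M.subgroupOf N).subtype with hQn
  have hrN : r ∣ Nat.card (Subgroup.normalizer (Qn : Set N)) := by
    have h := index_dvd_card_normalizer (M.subgroupOf N) Q
    rw [hMN] at h
    exact hrG.trans h
  obtain ⟨⟨x, hxQ⟩, hx⟩ := exists_prime_orderOf_dvd_card' r hrN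
  rw [← Subgroup.orderOf_coe, ← Subgroup.orderOf_coe] at hx
  refine adjacent_of_tower (p := p) (q := q) hr hpq hpr hqr (P := Pg) (Q := Qn.map N.subtype)
    (P.isPGroup'.map _) ?_ ((Q.isPGroup'.map _).map _) ?_ (x := (x : G)) hx ?_ x.2 ?_
  · rw [Ne, hPg, Subgroup.map_eq_bot_iff_of_injective _ K.subtype_injective]
    exact P.ne_bot_of_dvd_card hpK
  · rw [Ne, Subgroup.map_eq_bot_iff_of_injective _ N.subtype_injective, hQn,
      Subgroup.map_eq_bot_iff_of_injective _ (M.subgroupOf N).subtype_injective]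
    exact Q.ne_bot_of_dvd_card hqMN
  · exact Subgroup.map_subtype_le _
  · exact Subgroup.le_normalizer_map N.subtype ⟨x, hxQ, rfl⟩

theorem exists_orderOf_mul_of_comm_quotient [Finite G] (H K : Subgroup G) (hKH : K ≤ H)
    [hn : (K.subgroupOf H).Normal] (hab : ∀ a ∈ H, ∀ b ∈ H, a * b * a⁻¹ * b⁻¹ ∈ K)
    {r s : ℕ} (hr : r.Prime) (hs : s.Prime) (hrs : r ≠ s) (hrH : r ∣ K.relIndex H)
    (hsH : s ∣ K.relIndex H) : ∃ g : G, orderOf g = r * s := by
  haveI : Fact r.Prime := ⟨hr⟩
  haveI : Fact s.Prime := ⟨hs⟩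
  obtain ⟨a, ha⟩ := exists_prime_orderOf_dvd_card' (G := H ⧸ K.subgroupOf H) r hrH
  obtain ⟨b, hb⟩ := exists_prime_orderOf_dvd_card' (G := H ⧸ K.subgroupOf H) s hsH
  have hc : Commute a b := by
    induction a using QuotientGroup.induction_on with | _ a => ?_
    induction b using QuotientGroup.induction_on with | _ b => ?_
    change ((a * b : H) : H ⧸ K.subgroupOf H) = ((b * a : H) : H ⧸ K.subgroupOf H)
    rw [QuotientGroup.eq]
    have h1 := hab _ (inv_mem b.2) _ (inv_mem a.2)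
    simpa [Subgroup.mem_subgroupOf, mul_assoc] using h1
  obtain ⟨c, hcd⟩ := exists_orderOf_mul_of_commute hr hs hrs ha hb hc
  induction c using QuotientGroup.induction_on with | _ c => ?_
  obtain ⟨k, hk⟩ : r * s ∣ orderOf (c : G) := by
    rw [← hcd, Subgroup.orderOf_coe]
    exact orderOf_map_dvd (QuotientGroup.mk' (K.subgroupOf H)) c
  have hpos : 0 < orderOf (c : G) := orderOf_pos _
  rw [hk] at hpos
  refine ⟨(c : G) ^ k, ?_⟩
  rw [orderOf_pow, hk, Nat.gcd_mul_left_left,
    Nat.mul_div_cancel _ (Nat.pos_of_mul_pos_left hpos)]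

/-- Two primes dividing a solvable normal subgroup and a third prime dividing the index: two of
the three are adjacent. -/
theorem adjacent_of_solvable_normal [Finite G] (K : Subgroup G) [K.Normal] (hK : Group.IsSolvable K)
    {r s t : ℕ} (hr : r.Prime) (hs : s.Prime) (ht : t.Prime) (hrs : r ≠ s) (hrt : r ≠ t)
    (hst : s ≠ t) (hrK : r ∣ Nat.card K) (hsK : s ∣ Nat.card K) (htG : t ∣ K.index) :
    (∃ g : G, orderOf g = r * s) ∨ (∃ g : G, orderOf g = r * t) ∨ (∃ g : G, orderOf g = s * t) := by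
  obtain ⟨n, hn⟩ := hK.solvable
  let D : ℕ → Subgroup G := fun n => (derivedSeries K n).map K.subtype
  have hD0 : D 0 = K := by simp [D, ← MonoidHom.range_eq_map, Subgroup.range_subtype]
  have hDn : Nat.card (D n) = 1 := by simp [D, hn]
  classical
  have hex : ∃ n, ¬ r ∣ Nat.card (D n) ∧ ¬ s ∣ Nat.card (D n) :=
    ⟨n, by rw [hDn]; exact hr.not_dvd_one, by rw [hDn]; exact hs.not_dvd_one⟩
  obtain ⟨j, hj⟩ : ∃ j, Nat.find hex = j + 1 :=
    ⟨Nat.find hex - 1, (Nat.succ_pred_eq_of_pos (Nat.pos_of_ne_zero fun h0 => by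
      have h1 := (Nat.find_spec hex).1
      rw [h0, hD0] at h1
      exact h1 hrK)).symm⟩
  have hstep : D (j + 1) ≤ D j := Subgroup.map_mono (derivedSeries_antitone K j.le_succ)
  haveI : (D j).Normal := by
    haveI : (derivedSeries K j).Characteristic := inferInstance
    infer_instance
  haveI : (D (j + 1)).Normal := by
    haveI : (derivedSeries K (j + 1)).Characteristic := inferInstance
    infer_instance
  obtain ⟨hr1, hs1⟩ := hj ▸ Nat.find_spec hex
  have hj0 : r ∣ Nat.card (D j) ∨ s ∣ Nat.card (D j) := by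
    have := Nat.find_min hex (show j < Nat.find hex by omega)
    tauto
  have hDK : D j ≤ K := Subgroup.map_subtype_le _
  by_cases hboth : r ∣ Nat.card (D j) ∧ s ∣ Nat.card (D j)
  · left
    have hcard := Subgroup.card_mul_index ((D (j + 1)).subgroupOf (D j))
    rw [Nat.card_congr (Subgroup.subgroupOfEquivOfLe hstep).toEquiv] at hcard
    refine exists_orderOf_mul_of_comm_quotient (D j) (D (j + 1)) hstep ?_ hr hs hrs
      (((hr.dvd_mul.1 (hcard.symm ▸ hboth.1))).resolve_left hr1)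
      (((hs.dvd_mul.1 (hcard.symm ▸ hboth.2))).resolve_left hs1)
    rintro _ ⟨a, ha, rfl⟩ _ ⟨b, hb, rfl⟩
    refine ⟨a * b * a⁻¹ * b⁻¹, ?_, by simp⟩
    rw [derivedSeries_succ]
    exact Subgroup.commutator_mem_commutator ha hb
  · have hrel : Nat.card (D j) * (D j).relIndex K = Nat.card K := by
      rw [← Nat.card_congr (Subgroup.subgroupOfEquivOfLe hDK).toEquiv]
      exact Subgroup.card_mul_index _
    rcases hj0 with hrj | hsj
    · have hsj : ¬ s ∣ Nat.card (D j) := fun h => hboth ⟨hrj, h⟩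
      exact adjacent_of_series (D j) K hDK hr hs ht hrs hrt hst hrj
        ((hs.dvd_mul.1 (hrel.symm ▸ hsK)).resolve_left hsj) htG
    · have hrj : ¬ r ∣ Nat.card (D j) := fun h => hboth ⟨h, hsj⟩
      rcases adjacent_of_series (D j) K hDK hs hr ht hrs.symm hst hrt hsj
        ((hr.dvd_mul.1 (hrel.symm ▸ hrK)).resolve_left hrj) htG with h | h | h
      · exact Or.inl (by rwa [mul_comm])
      · exact Or.inr (Or.inr h)
      · exact Or.inr (Or.inl h)

/-- A solvable group has no three pairwise non-adjacent primes. -/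
theorem adjacent_of_isSolvable [Finite G] (hG : Group.IsSolvable G) {r s t : ℕ} (hr : r.Prime)
    (hs : s.Prime) (ht : t.Prime) (hrs : r ≠ s) (hrt : r ≠ t) (hst : s ≠ t)
    (hrG : r ∣ Nat.card G) (hsG : s ∣ Nat.card G) (htG : t ∣ Nat.card G) :
    (∃ g : G, orderOf g = r * s) ∨ (∃ g : G, orderOf g = r * t) ∨ (∃ g : G, orderOf g = s * t) := by
  obtain ⟨n, hn⟩ := hG.solvable
  classical
  let D : ℕ → Subgroup G := derivedSeries G
  have hex : ∃ n, ¬ (r ∣ Nat.card (D n) ∧ s ∣ Nat.card (D n) ∧ t ∣ Nat.card (D n)) :=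
    ⟨n, fun h => hr.not_dvd_one (by simpa [D, hn] using h.1)⟩
  obtain ⟨j, hj⟩ : ∃ j, Nat.find hex = j + 1 :=
    ⟨Nat.find hex - 1, (Nat.succ_pred_eq_of_pos (Nat.pos_of_ne_zero fun h0 => by
      have h1 := Nat.find_spec hex
      rw [h0] at h1
      exact h1 (by simp [D, hrG, hsG, htG]))).symm⟩
  obtain ⟨hrj, hsj, htj⟩ := not_not.1 (Nat.find_min hex (show j < Nat.find hex by omega))
  have h1 := hj ▸ Nat.find_spec hex
  have hstep : D (j + 1) ≤ D j := derivedSeries_antitone G j.le_succ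
  haveI : (D (j + 1)).Normal := derivedSeries_normal G (j + 1)
  haveI : ((D (j + 1)).subgroupOf (D j)).Normal := inferInstance
  have hab : ∀ a ∈ D j, ∀ b ∈ D j, a * b * a⁻¹ * b⁻¹ ∈ D (j + 1) := fun a ha b hb => by
    change _ ∈ derivedSeries G (j + 1)
    rw [derivedSeries_succ]
    exact Subgroup.commutator_mem_commutator ha hb
  have hcard := Subgroup.card_mul_index ((D (j + 1)).subgroupOf (D j))
  rw [Nat.card_congr (Subgroup.subgroupOfEquivOfLe hstep).toEquiv] at hcard
  have up : ∀ {x : ℕ}, x.Prime → x ∣ Nat.card (D j) → ¬ x ∣ Nat.card (D (j + 1)) →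
      x ∣ (D (j + 1)).relIndex (D j) := fun hx hxj hx1 =>
    (hx.dvd_mul.1 (hcard.symm ▸ hxj)).resolve_left hx1
  have two : ∀ {x y : ℕ}, x.Prime → y.Prime → x ≠ y → x ∣ Nat.card (D j) → y ∣ Nat.card (D j) →
      ¬ x ∣ Nat.card (D (j + 1)) → ¬ y ∣ Nat.card (D (j + 1)) → ∃ g : G, orderOf g = x * y :=
    fun hx hy hxy hxj hyj hx1 hy1 =>
      exists_orderOf_mul_of_comm_quotient (D j) (D (j + 1)) hstep hab hx hy hxy
        (up hx hxj hx1) (up hy hyj hy1)
  have one : ∀ {x y z : ℕ}, x.Prime → y.Prime → z.Prime → x ≠ y → x ≠ z → y ≠ z →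
      x ∣ Nat.card (D (j + 1)) → y ∣ Nat.card (D (j + 1)) → z ∣ Nat.card (D j) →
      ¬ z ∣ Nat.card (D (j + 1)) →
      (∃ g : G, orderOf g = x * y) ∨ (∃ g : G, orderOf g = x * z) ∨ (∃ g : G, orderOf g = y * z) := by
    intro x y z hx hy hz hxy hxz hyz hx1 hy1 hzj hz1
    haveI : Group.IsSolvable G := hG
    have e := Nat.card_congr (Subgroup.subgroupOfEquivOfLe hstep).toEquiv
    rcases adjacent_of_solvable_normal ((D (j + 1)).subgroupOf (D j)) inferInstance hx hy hz hxy
      hxz hyz (e ▸ hx1) (e ▸ hy1) (up hz hzj hz1) with ⟨g, hg⟩ | ⟨g, hg⟩ | ⟨g, hg⟩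
    · exact Or.inl ⟨g, by rwa [Subgroup.orderOf_coe]⟩
    · exact Or.inr (Or.inl ⟨g, by rwa [Subgroup.orderOf_coe]⟩)
    · exact Or.inr (Or.inr ⟨g, by rwa [Subgroup.orderOf_coe]⟩)
  by_cases hr1 : r ∣ Nat.card (D (j + 1))
  · by_cases hs1 : s ∣ Nat.card (D (j + 1))
    · exact one hr hs ht hrs hrt hst hr1 hs1 htj (fun h => h1 ⟨hr1, hs1, h⟩)
    · by_cases ht1 : t ∣ Nat.card (D (j + 1))
      · rcases one hr ht hs hrt hrs hst.symm hr1 ht1 hsj hs1 with h | h | h
        · exact Or.inr (Or.inl h)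
        · exact Or.inl h
        · exact Or.inr (Or.inr (by rwa [mul_comm]))
      · exact Or.inr (Or.inr (two hs ht hst hsj htj hs1 ht1))
  · by_cases hs1 : s ∣ Nat.card (D (j + 1))
    · by_cases ht1 : t ∣ Nat.card (D (j + 1))
      · rcases one hs ht hr hst hrs.symm hrt.symm hs1 ht1 hrj hr1 with h | h | h
        · exact Or.inr (Or.inr h)
        · exact Or.inl (by rwa [mul_comm])
        · exact Or.inr (Or.inl (by rwa [mul_comm]))
      · exact Or.inr (Or.inl (two hr ht hrt hrj htj hr1 ht1))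
    · exact Or.inl (two hr hs hrs hrj hsj hr1 hs1)

end CfsgLib.Recog
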