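import Cfsg.Agent.Lib.Recog.CarmichaelBound

/-!
Carmichael's presentation of the alternating groups.
-/

set_option autoImplicit false
set_option maxHeartbeats 400000

namespace CfsgLib.Recog

open Equiv

variable {α : Type*} [DecidableEq α]

theorem pow_three_swap_mul_swap {a b c : α} (hab : a ≠ b) (hbc : b ≠ c) (hac : a ≠ c) :
    (swap a b * swap b c) ^ 3 = 1 := by
  ext z
  simp only [pow_succ, pow_zero, one_mul, Perm.mul_apply, Perm.one_apply]
  by_cases za : z = a <;> by_cases zb : z = b <;> by_cases zc : z = c <;>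
    simp [swap_apply_def, *] <;> grind

theorem sq_swap_mul_swap {a b c d : α} (hac : a ≠ c) (had : a ≠ d) (hbc : b ≠ c) (hbd : b ≠ d) :
    (swap a b * swap c d) ^ 2 = 1 := by
  have h : Commute (swap a b) (swap c d) := by
    change swap a b * swap c d = swap c d * swap a b
    rw [swap_mul_eq_mul_swap (f := swap c d), Perm.inv_def, symm_swap,
      swap_apply_of_ne_of_ne hac had, swap_apply_of_ne_of_ne hbc hbd]
  rw [h.mul_pow, sq, sq, swap_mul_self, swap_mul_self, one_mul]

variable (m : ℕ)

/-- The point `i` of `Fin (m + 2)`. -/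
def pt (i : ℕ) : Fin (m + 2) := Fin.ofNat (m + 2) i

/-- Carmichael's generators of the alternating group on `m + 2` points. -/
def carmichaelGen (i : Fin m) : Perm (Fin (m + 2)) :=
  if i.val = 0 then swap (pt m 0) (pt m 1) * swap (pt m 1) (pt m 2)
  else swap (pt m 0) (pt m 1) * swap (pt m (i + 1)) (pt m (i + 2))

theorem pt_ne {i j : ℕ} (hi : i < m + 2) (hj : j < m + 2) (h : i ≠ j) : pt m i ≠ pt m j := by
  intro e
  have e' := congrArg Fin.val e
  simp [pt, Fin.ofNat, Nat.mod_eq_of_lt hi, Nat.mod_eq_of_lt hj] at e'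
  exact h e'

theorem carmichaelGen_mem (i : Fin m) : carmichaelGen m i ∈ alternatingGroup (Fin (m + 2)) := by
  have := i.isLt
  rw [carmichaelGen, Perm.mem_alternatingGroup]
  have h01 := pt_ne m (show 0 < m + 2 by omega) (show 1 < m + 2 by omega) zero_ne_one
  have h12 := pt_ne m (show 1 < m + 2 by omega) (show 2 < m + 2 by omega) (by omega)
  have hii := pt_ne m (show i.val + 1 < m + 2 by omega) (show i.val + 2 < m + 2 by omega) (by omega)
  split_ifs <;> simp [Perm.sign_swap', h01, h12, hii]

/-- The relators. -/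
def carmichaelRelators : Set (FreeGroup (Fin m)) :=
  {g | ∃ i : Fin m, i.val = 0 ∧ g = FreeGroup.of i ^ 3} ∪
    {g | ∃ i : Fin m, 1 ≤ i.val ∧ g = FreeGroup.of i ^ 2} ∪
    {g | ∃ i j : Fin m, j.val = i.val + 1 ∧ g = (FreeGroup.of i * FreeGroup.of j) ^ 3} ∪
    {g | ∃ i j : Fin m, i.val + 1 < j.val ∧ g = (FreeGroup.of i * FreeGroup.of j) ^ 2}

theorem lift_carmichaelGen_eq_one : ∀ r ∈ carmichaelRelators m,
    FreeGroup.lift (fun i => carmichaelGen m i) r = 1 := by
  have h01 : ∀ {i : ℕ}, i < m → pt m 0 ≠ pt m 1 := fun _ => pt_ne m (by omega) (by omega) (by omega)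
  have c02 : ∀ {i : ℕ}, i < m → swap (pt m 0) (pt m 1) * swap (pt m 1) (pt m 2) * swap (pt m 0) (pt m 1) =
      swap (pt m 0) (pt m 2) := fun {i} hi => by
    have h := swap_apply_apply (swap (pt m 0) (pt m 1)) (pt m 1) (pt m 2)
    rw [swap_apply_right, swap_inv, swap_apply_of_ne_of_ne
      (pt_ne m (show 2 < m + 2 by omega) (show 0 < m + 2 by omega) (by omega))
      (pt_ne m (show 2 < m + 2 by omega) (show 1 < m + 2 by omega) (by omega))] at h
    exact h.symm
  rintro r (((⟨i, hi, rfl⟩ | ⟨i, hi, rfl⟩) | ⟨i, j, hij, rfl⟩) | ⟨i, j, hij, rfl⟩) <;>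
    simp only [map_pow, map_mul, FreeGroup.lift_apply_of]
  · have := i.isLt
    rw [carmichaelGen, if_pos hi]
    exact pow_three_swap_mul_swap (h01 i.isLt) (pt_ne m (by omega) (by omega) (by omega))
      (pt_ne m (by omega) (by omega) (by omega))
  · have := i.isLt
    rw [carmichaelGen, if_neg (by omega)]
    exact sq_swap_mul_swap (pt_ne m (by omega) (by omega) (by omega))
      (pt_ne m (by omega) (by omega) (by omega)) (pt_ne m (by omega) (by omega) (by omega))
      (pt_ne m (by omega) (by omega) (by omega))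
  · have := j.isLt
    rw [carmichaelGen, carmichaelGen, if_neg (show ¬ j.val = 0 by omega)]
    by_cases hi0 : i.val = 0
    · rw [if_pos hi0, hij, hi0, ← mul_assoc, c02 i.isLt]
      exact pow_three_swap_mul_swap (pt_ne m (by omega) (by omega) (by omega))
        (pt_ne m (by omega) (by omega) (by omega)) (pt_ne m (by omega) (by omega) (by omega))
    · rw [if_neg hi0, hij]
      set s := swap (pt m 0) (pt m 1)
      set t := swap (pt m (i + 1)) (pt m (i + 2))
      have hst : s * t = t * s := by
        have h := sq_swap_mul_swap (a := pt m 0) (b := pt m 1) (c := pt m (i + 1)) (d := pt m (i + 2))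
          (pt_ne m (by omega) (by omega) (by omega)) (pt_ne m (by omega) (by omega) (by omega))
          (pt_ne m (by omega) (by omega) (by omega)) (pt_ne m (by omega) (by omega) (by omega))
        rw [sq] at h
        calc s * t = (s * t)⁻¹ := eq_inv_of_mul_eq_one_left h
          _ = t * s := by rw [mul_inv_rev, swap_inv, swap_inv]
      have e : s * t * (s * swap (pt m (i + 1 + 1)) (pt m (i + 1 + 2))) =
          t * swap (pt m (i + 2)) (pt m (i + 3)) := by
        rw [hst, mul_assoc, ← mul_assoc s s, swap_mul_self, one_mul]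
      rw [e]
      exact pow_three_swap_mul_swap (pt_ne m (by omega) (by omega) (by omega))
        (pt_ne m (by omega) (by omega) (by omega)) (pt_ne m (by omega) (by omega) (by omega))
  · have := j.isLt
    rw [carmichaelGen, carmichaelGen, if_neg (show ¬ j.val = 0 by omega)]
    by_cases hi0 : i.val = 0
    · rw [if_pos hi0, ← mul_assoc, c02 i.isLt]
      exact sq_swap_mul_swap (pt_ne m (by omega) (by omega) (by omega))
        (pt_ne m (by omega) (by omega) (by omega)) (pt_ne m (by omega) (by omega) (by omega))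
        (pt_ne m (by omega) (by omega) (by omega))
    · rw [if_neg hi0]
      set s := swap (pt m 0) (pt m 1)
      set t := swap (pt m (i + 1)) (pt m (i + 2))
      have hst : s * t = t * s := by
        have h := sq_swap_mul_swap (a := pt m 0) (b := pt m 1) (c := pt m (i + 1)) (d := pt m (i + 2))
          (pt_ne m (by omega) (by omega) (by omega)) (pt_ne m (by omega) (by omega) (by omega))
          (pt_ne m (by omega) (by omega) (by omega)) (pt_ne m (by omega) (by omega) (by omega))
        rw [sq] at h
        calc s * t = (s * t)⁻¹ := eq_inv_of_mul_eq_one_left h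
          _ = t * s := by rw [mul_inv_rev, swap_inv, swap_inv]
      have e : s * t * (s * swap (pt m (j + 1)) (pt m (j + 2))) =
          t * swap (pt m (j + 1)) (pt m (j + 2)) := by
        rw [hst, mul_assoc, ← mul_assoc s s, swap_mul_self, one_mul]
      rw [e]
      exact sq_swap_mul_swap (pt_ne m (by omega) (by omega) (by omega))
        (pt_ne m (by omega) (by omega) (by omega)) (pt_ne m (by omega) (by omega) (by omega))
        (pt_ne m (by omega) (by omega) (by omega))

/-- Carmichael's generators generate the alternating group. -/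
theorem alternatingGroup_le_closure (hm : 1 ≤ m) :
    alternatingGroup (Fin (m + 2)) ≤ Subgroup.closure (Set.range (carmichaelGen m)) := by
  set R := Subgroup.closure (Set.range (carmichaelGen m)) with hR
  set s := swap (pt m 0) (pt m 1) with hs
  have hgen : ∀ i : Fin m, carmichaelGen m i ∈ R := fun i => Subgroup.subset_closure ⟨i, rfl⟩
  have hnorm : Subgroup.zpowers s ≤ Subgroup.normalizer (R : Set (Perm (Fin (m + 2)))) := by
    rw [Subgroup.zpowers_le, Subgroup.mem_normalizer_iff]
    have hcl : ∀ g ∈ R, s * g * s⁻¹ ∈ R := by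
      intro g hg
      induction hg using Subgroup.closure_induction with
      | mem g hg =>
        obtain ⟨i, rfl⟩ := hg
        have := i.isLt
        rw [hs, swap_inv]
        by_cases hi : i.val = 0
        · have e : s * carmichaelGen m i * s = (carmichaelGen m i)⁻¹ := by
            rw [carmichaelGen, if_pos hi, hs, mul_inv_rev, swap_inv, swap_inv,
              ← mul_assoc, swap_mul_self, one_mul]
          rw [← hs, e]
          exact inv_mem (hgen i)
        · have h := sq_swap_mul_swap (a := pt m 0) (b := pt m 1) (c := pt m (i + 1)) (d := pt m (i + 2))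
            (pt_ne m (by omega) (by omega) (by omega)) (pt_ne m (by omega) (by omega) (by omega))
            (pt_ne m (by omega) (by omega) (by omega)) (pt_ne m (by omega) (by omega) (by omega))
          have e : s * carmichaelGen m i * s = carmichaelGen m i := by
            rw [sq] at h
            rw [carmichaelGen, if_neg hi, ← hs, ← mul_assoc, hs, swap_mul_self, one_mul]
            conv_rhs => rw [eq_inv_of_mul_eq_one_left h, mul_inv_rev, swap_inv, swap_inv]
          rw [← hs, e]
          exact hgen i
      | one => simp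
      | mul a b _ _ ha hb => simpa [mul_assoc] using mul_mem ha hb
      | inv a _ ha => simpa [mul_assoc] using inv_mem ha
    intro g
    refine ⟨hcl g, fun hg => ?_⟩
    have h := hcl _ hg
    rw [hs, swap_inv] at h
    simpa [mul_assoc, ← hs, ← mul_assoc s s, show s * s = 1 from swap_mul_self _ _] using h
  have htop : R ⊔ Subgroup.zpowers s = ⊤ := by
    rw [eq_top_iff]
    intro g _
    have hall : ∀ k : Fin (m + 1), swap k.castSucc k.succ ∈ R ⊔ Subgroup.zpowers s := by
      intro k
      have hk := k.isLt
      have e1 : k.castSucc = pt m k := Fin.ext (by simp [pt, Fin.ofNat]; rw [Nat.mod_eq_of_lt (by omega)])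
      have e2 : k.succ = pt m (k + 1) := Fin.ext (by simp [pt, Fin.ofNat]; rw [Nat.mod_eq_of_lt (by omega)])
      rw [e1, e2]
      have hsm : s ∈ R ⊔ Subgroup.zpowers s := Subgroup.mem_sup_right (Subgroup.mem_zpowers s)
      rcases Nat.eq_zero_or_pos k.val with hk0 | hk0
      · rw [hk0]; exact hsm
      rcases Nat.eq_or_lt_of_le hk0 with hk1 | hk1
      · have h := mul_mem hsm (Subgroup.mem_sup_left (hgen ⟨0, hm⟩))
        rw [carmichaelGen, if_pos rfl, ← mul_assoc, hs, swap_mul_self, one_mul] at h
        rw [show k.val = 1 from hk1.symm]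
        exact h
      · have h := mul_mem hsm (Subgroup.mem_sup_left (hgen ⟨k.val - 1, by omega⟩))
        rw [carmichaelGen, if_neg (show ¬ k.val - 1 = 0 by omega), ← mul_assoc, hs, swap_mul_self,
          one_mul] at h
        simp only [show k.val - 1 + 1 = k.val by omega, show k.val - 1 + 2 = k.val + 1 by omega] at h
        exact h
    have hle : Submonoid.closure (Set.range fun k : Fin (m + 1) => swap k.castSucc k.succ) ≤
        (R ⊔ Subgroup.zpowers s).toSubmonoid := Submonoid.closure_le.2 (by
      rintro _ ⟨k, rfl⟩; exact hall k)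
    rw [Perm.mclosure_swap_castSucc_succ] at hle
    exact hle (Submonoid.mem_top g)
  haveI : R.Normal := by
    rw [← Subgroup.normalizer_eq_top_iff, ← top_le_iff, ← htop]
    exact sup_le Subgroup.le_normalizer hnorm
  refine Perm.alternatingGroup_le_of_index_le_two ?_
  rw [← Subgroup.relIndex_top_right, ← htop, Subgroup.relIndex_sup_left]
  refine le_trans (Nat.le_of_dvd ?_ (Subgroup.relIndex_dvd_card R (Subgroup.zpowers s))) ?_
  · exact Nat.card_pos
  · rw [Nat.card_zpowers]
    refine Nat.le_of_dvd two_pos (orderOf_dvd_of_pow_eq_one ?_)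
    rw [hs, sq, swap_mul_self]

/-- Carmichael's presentation. -/
theorem presentation_alternating (hm : 1 ≤ m) :
    Nonempty (PresentedGroup (carmichaelRelators m) ≃* alternatingGroup (Fin (m + 2))) := by
  let x : ℕ → PresentedGroup (carmichaelRelators m) :=
    fun i => if h : i < m then PresentedGroup.of ⟨i, h⟩ else 1
  have hx : ∀ i : Fin m, x i = PresentedGroup.of i := fun i => by simp [x, i.isLt]
  have hrel : ∀ r ∈ carmichaelRelators m, PresentedGroup.mk (carmichaelRelators m) r = 1 :=
    fun r hr => PresentedGroup.one_of_mem hr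
  have hR : CarmichaelRels x m := by
    refine ⟨fun h0 => ?_, fun i h1 hi => ?_, fun i hi => ?_, fun i j h1 hj => ?_⟩
    · rw [show x 0 = PresentedGroup.of ⟨0, h0⟩ from hx ⟨0, h0⟩]
      simpa [PresentedGroup.of] using hrel _ (Or.inl (Or.inl (Or.inl ⟨⟨0, h0⟩, rfl, rfl⟩)))
    · rw [show x i = PresentedGroup.of ⟨i, hi⟩ from hx ⟨i, hi⟩, ← sq]
      simpa [PresentedGroup.of] using hrel _ (Or.inl (Or.inl (Or.inr ⟨⟨i, hi⟩, h1, rfl⟩)))
    · rw [show x i = PresentedGroup.of ⟨i, by omega⟩ from hx ⟨i, by omega⟩,
        show x (i + 1) = PresentedGroup.of ⟨i + 1, hi⟩ from hx ⟨i + 1, hi⟩]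
      simpa [PresentedGroup.of] using
        hrel _ (Or.inl (Or.inr ⟨⟨i, by omega⟩, ⟨i + 1, hi⟩, rfl, rfl⟩))
    · rw [show x i = PresentedGroup.of ⟨i, by omega⟩ from hx ⟨i, by omega⟩,
        show x j = PresentedGroup.of ⟨j, hj⟩ from hx ⟨j, hj⟩]
      simpa [PresentedGroup.of] using hrel _ (Or.inr ⟨⟨i, by omega⟩, ⟨j, hj⟩, h1, rfl⟩)
  obtain ⟨hfin, hle⟩ := card_closure_le m hR
  have htop : Subgroup.closure (x '' Set.Iio m) = ⊤ := by
    rw [← top_le_iff, ← PresentedGroup.closure_range_of]
    exact Subgroup.closure_mono (by rintro _ ⟨i, rfl⟩; exact ⟨i, i.isLt, hx i⟩)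
  rw [htop] at hfin hle
  haveI : Finite (PresentedGroup (carmichaelRelators m)) :=
    Finite.of_equiv _ (Subgroup.topEquiv (G := PresentedGroup (carmichaelRelators m))).toEquiv
  rw [Subgroup.card_top] at hle
  let a : Fin m → alternatingGroup (Fin (m + 2)) := fun i => ⟨carmichaelGen m i, carmichaelGen_mem m i⟩
  let φ : PresentedGroup (carmichaelRelators m) →* alternatingGroup (Fin (m + 2)) :=
    PresentedGroup.toGroup (f := a) (fun r hr => by
      refine Subtype.ext ?_
      have e : (alternatingGroup (Fin (m + 2))).subtype.comp (FreeGroup.lift a) =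
          FreeGroup.lift (fun i => carmichaelGen m i) := FreeGroup.ext_hom _ _ fun i => by simp [a]
      rw [show ((FreeGroup.lift a r : alternatingGroup (Fin (m + 2))) : Perm (Fin (m + 2))) =
        ((alternatingGroup (Fin (m + 2))).subtype.comp (FreeGroup.lift a)) r from rfl, e,
        lift_carmichaelGen_eq_one m r hr]
      rfl)
  have hsurj : Function.Surjective φ := by
    rintro ⟨g, hg⟩
    have hle' : Subgroup.closure (Set.range (carmichaelGen m)) ≤
        φ.range.map (alternatingGroup (Fin (m + 2))).subtype := by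
      rw [Subgroup.closure_le]
      rintro _ ⟨i, rfl⟩
      exact ⟨a i, ⟨PresentedGroup.of i, PresentedGroup.toGroup.of _⟩, rfl⟩
    obtain ⟨z, ⟨w, rfl⟩, hz⟩ := hle' (alternatingGroup_le_closure m hm hg)
    exact ⟨w, Subtype.ext hz⟩
  refine ⟨MulEquiv.ofBijective φ ((Nat.bijective_iff_surjective_and_card φ).2
    ⟨hsurj, le_antisymm ?_ (Nat.card_le_card_of_surjective φ hsurj)⟩)⟩
  have h2 := two_mul_nat_card_alternatingGroup (α := Fin (m + 2))
  rw [Nat.card_perm, Nat.card_fin] at h2
  omega

end CfsgLib.Recog
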