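import Cfsg.Agent.S0003
import Cfsg.Agent.S0493
import Cfsg.Agent.Lib.Chars.PermChar
import Cfsg.Agent.Lib.CharsMore.ItoDegree
import Cfsg.Agent.Lib.Small.Order60
import Cfsg.Prelude.Def_DegreeGraph

/-!
Groups of order 60: solvability, the Sylow 5-subgroups and a character of degree 5.
-/

set_option autoImplicit false
set_option maxHeartbeats 400000

namespace CfsgLib.Recog

universe u

open Cfsg

theorem isSolvable_of_card_lt_sixty {G : Type u} [Group G] [Finite G] (h : Nat.card G < 60) :
    Group.IsSolvable G := by
  induction hn : Nat.card G using Nat.strong_induction_on generalizing G with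
  | _ n ih =>
    subst hn
    rcases subsingleton_or_nontrivial G with hs | hs
    · infer_instance
    by_cases hsimp : IsSimpleGroup G
    · by_cases hc : IsCyclic G
      · exact isSolvable_of_comm fun a b => (IsCyclic.commGroup (α := G)).mul_comm a b
      · exact absurd (Cfsg.Agent.S0493.result hc (by omega)) h.ne
    · obtain ⟨N, hN, hb, ht⟩ : ∃ N : Subgroup G, N.Normal ∧ N ≠ ⊥ ∧ N ≠ ⊤ := by
        by_contra hall
        push_neg at hall
        exact hsimp ⟨fun N hN => or_iff_not_imp_left.2 (hall N hN)⟩
      haveI := hN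
      have h1 := N.card_mul_index
      have hN2 : 1 < Nat.card N := (Subgroup.one_lt_card_iff_ne_bot N).2 hb
      have hi : 1 < N.index := Subgroup.one_lt_index_of_ne_top ht
      have hNlt : Nat.card N < Nat.card G := by nlinarith
      have hQlt : N.index < Nat.card G := by nlinarith
      haveI := ih _ hNlt (G := N) (by omega) rfl
      haveI := ih _ hQlt (G := G ⧸ N) (by rw [← Subgroup.index]; omega) rfl
      exact Group.isSolvable_of_ker_le_range N.subtype (QuotientGroup.mk' N) (by simp)

theorem card_sylow_five {G : Type u} [Group G] [Finite G] (h : Nat.card G = 60) :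
    (∀ P : Sylow 5 G, Nat.card (P : Subgroup G) = 5) ∧
      (Nat.card (Sylow 5 G) = 1 ∨ Nat.card (Sylow 5 G) = 6) := by
  haveI := Fact.mk Nat.prime_five
  have hP : ∀ P : Sylow 5 G, Nat.card (P : Subgroup G) = 5 := fun P => by
    rw [P.card_eq_multiplicity, h]
    rw [show (60 : ℕ) = 5 * 12 from rfl, Nat.factorization_mul (by norm_num) (by norm_num),
      Finsupp.add_apply, Nat.Prime.factorization_self Nat.prime_five,
      Nat.factorization_eq_zero_of_not_dvd (by norm_num), add_zero, pow_one]
  refine ⟨hP, ?_⟩
  obtain ⟨P⟩ : Nonempty (Sylow 5 G) := inferInstance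
  have h1 : Nat.card (Sylow 5 G) ∣ 12 := by
    have h2 := P.card_dvd_index
    have h3 := (P : Subgroup G).card_mul_index
    rw [hP, h] at h3
    rwa [show (P : Subgroup G).index = 12 by omega] at h2
  have h4 : Nat.card (Sylow 5 G) % 5 = 1 := card_sylow_modEq_one 5 G
  have h5 : Nat.card (Sylow 5 G) ≤ 12 := Nat.le_of_dvd (by norm_num) h1
  interval_cases Nat.card (Sylow 5 G) <;> omega

/-- A group of order 60 with six Sylow 5-subgroups is simple. -/
theorem isSimpleGroup_of_six {G : Type u} [Group G] [Finite G] (h : Nat.card G = 60)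
    (h6 : Nat.card (Sylow 5 G) = 6) : IsSimpleGroup G := by
  haveI := Fact.mk Nat.prime_five
  have hns : ¬ Group.IsSolvable G := by
    intro hs
    obtain ⟨H, hH⟩ := Cfsg.Agent.S0003.result (G := G) 15 4 h (by norm_num)
    obtain ⟨P⟩ : Nonempty (Sylow 5 H) := inferInstance
    have hPc : Nat.card (P : Subgroup H) = 5 := by
      rw [P.card_eq_multiplicity, hH, show (15 : ℕ) = 5 * 3 from rfl,
        Nat.factorization_mul (by norm_num) (by norm_num), Finsupp.add_apply,
        Nat.Prime.factorization_self Nat.prime_five,
        Nat.factorization_eq_zero_of_not_dvd (by norm_num), add_zero, pow_one]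
    have hPn : Nat.card (Sylow 5 H) = 1 := by
      have h2 := P.card_dvd_index
      have h3 := (P : Subgroup H).card_mul_index
      rw [hPc, hH] at h3
      rw [show (P : Subgroup H).index = 3 by omega] at h2
      have h4 : Nat.card (Sylow 5 H) % 5 = 1 := card_sylow_modEq_one 5 H
      have h5 : Nat.card (Sylow 5 H) ≤ 3 := Nat.le_of_dvd (by norm_num) h2
      omega
    haveI : Subsingleton (Sylow 5 H) := (Nat.card_eq_one_iff_unique.1 hPn).1
    haveI : (P : Subgroup H).Normal := P.normal_of_subsingleton
    set Q := (P : Subgroup H).map H.subtype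
    have hQ : Nat.card Q = 5 ^ (Nat.card G).factorization 5 := by
      rw [Subgroup.card_map_of_injective H.subtype_injective, hPc, h,
        show (60 : ℕ) = 5 * 12 from rfl, Nat.factorization_mul (by norm_num) (by norm_num),
        Finsupp.add_apply, Nat.Prime.factorization_self Nat.prime_five,
        Nat.factorization_eq_zero_of_not_dvd (by norm_num), add_zero, pow_one]
    have hle : H ≤ Subgroup.normalizer (Q : Set G) := by
      have := Subgroup.le_normalizer_map H.subtype (H := (P : Subgroup H))
      rwa [Subgroup.normalizer_eq_top, ← MonoidHom.range_eq_map, Subgroup.range_subtype] at this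
    have h7 := Subgroup.index_dvd_of_le hle
    rw [show H.index = 4 by have := H.card_mul_index; rw [hH, h] at this; omega] at h7
    have h8 := (Sylow.ofCard Q hQ).card_eq_index_normalizer
    change Nat.card (Sylow 5 G) = (Subgroup.normalizer (Q : Set G)).index at h8
    rw [h6] at h8
    rw [← h8] at h7
    norm_num at h7
  haveI : Nontrivial G := Finite.one_lt_card_iff_nontrivial.1 (by omega)
  refine ⟨fun N hN => ?_⟩
  by_contra hall
  push_neg at hall
  haveI := hN
  have h1 := N.card_mul_index
  have hN2 : 1 < Nat.card N := (Subgroup.one_lt_card_iff_ne_bot N).2 hall.1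
  have hi : 1 < N.index := Subgroup.one_lt_index_of_ne_top hall.2
  haveI := isSolvable_of_card_lt_sixty (G := N) (by nlinarith)
  haveI := isSolvable_of_card_lt_sixty (G := G ⧸ N) (by rw [← Subgroup.index]; nlinarith)
  exact hns (Group.isSolvable_of_ker_le_range N.subtype (QuotientGroup.mk' N) (by simp))

/-- Five divides the degree of an irreducible character exactly when there are six Sylow
5-subgroups. -/
theorem five_mem_degreePrimes_iff {G : Type u} [Group G] [Finite G] (h : Nat.card G = 60) :
    5 ∈ degreePrimes G ↔ Nat.card (Sylow 5 G) = 6 := by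
  haveI := Fact.mk Nat.prime_five
  haveI := Fintype.ofFinite G
  obtain ⟨hP, hn⟩ := card_sylow_five h
  obtain ⟨P⟩ : Nonempty (Sylow 5 G) := inferInstance
  refine ⟨fun ⟨_, d, ⟨χ, hχ⟩, hd⟩ => hn.resolve_left fun h1 => ?_, fun h6 => ?_⟩
  · haveI : Subsingleton (Sylow 5 G) := (Nat.card_eq_one_iff_unique.1 h1).1
    haveI : (P : Subgroup G).Normal := P.normal_of_subsingleton
    haveI : IsCyclic (P : Subgroup G) := isCyclic_of_prime_card (hP P)
    haveI := Fintype.ofFinite (P : Subgroup G)
    obtain ⟨k, hk, hki⟩ := CfsgLib.CharsMore.ito_degree_dvd (N := (P : Subgroup G))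
      (fun a ha b hb => congrArg Subtype.val
        ((IsCyclic.commGroup (α := (P : Subgroup G))).mul_comm ⟨a, ha⟩ ⟨b, hb⟩)) χ.2
    have hdk : d = k := by
      rw [← hχ, Cfsg.charDegree, hk, Complex.natCast_re, Nat.floor_natCast]
    have h3 := (P : Subgroup G).card_mul_index
    rw [hP, h] at h3
    rw [show (P : Subgroup G).index = 12 by omega, ← hdk] at hki
    exact absurd (hd.trans hki) (by norm_num)
  · have h2 : MulAction.IsMultiplyPretransitive G (Sylow 5 G) 2 := by
      rw [MulAction.is_two_pretransitive_iff]
      intro a b c d hab hcd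
      obtain ⟨g, rfl⟩ := MulAction.exists_smul_eq G a c
      have hne : g • b ≠ g • a := fun h' => hab (MulAction.injective g h').symm
      -- the orbit of a Sylow subgroup on the others
      set Pc := g • a
      have horb : ∀ Q : Sylow 5 G, Q ≠ Pc →
          MulAction.orbit (Pc : Subgroup G) Q = {R : Sylow 5 G | R ≠ Pc} := by
        intro Q hQ
        refine Set.eq_of_subset_of_ncard_le ?_ ?_ (Set.toFinite _)
        · rintro _ ⟨x, rfl⟩ he
          refine hQ ?_
          have hx : (x : G) • Pc = Pc := Sylow.smul_eq_iff_mem_normalizer.2 (Subgroup.le_normalizer x.2)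
          exact MulAction.injective (x : G) ((show (x : G) • Q = Pc from he).trans hx.symm)
        · have hc : {R : Sylow 5 G | R ≠ Pc}.ncard = 5 := by
            have h3 := Set.ncard_add_ncard_compl ({Pc} : Set (Sylow 5 G))
            rw [Set.ncard_singleton, h6] at h3
            change ({Pc}ᶜ : Set (Sylow 5 G)).ncard = 5
            omega
          rw [hc, ← MulAction.index_stabilizer]
          refine Nat.le_of_eq ((Nat.prime_five.eq_one_or_self_of_dvd _ ?_).resolve_left fun h1 => ?_).symm
          · exact (Subgroup.index_dvd_card _).trans (hP Pc).dvd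
          · rw [Subgroup.index_eq_one] at h1
            refine hQ ?_
            have hle : (Pc : Subgroup G) ≤ Subgroup.normalizer ((Q : Subgroup G) : Set G) := fun x hx =>
              Sylow.smul_eq_iff_mem_normalizer.1
                (h1.ge (Subgroup.mem_top (⟨x, hx⟩ : (Pc : Subgroup G))))
            have hPQ : (Pc : Subgroup G) ≤ Q := inf_eq_left.1
              ((Pc.isPGroup'.inf_normalizer_sylow Q).symm.trans (inf_eq_left.2 hle))
            exact Sylow.ext (Subgroup.eq_of_le_of_card_ge hPQ (by rw [hP, hP])).symm
      have hd : d ∈ MulAction.orbit (Pc : Subgroup G) (g • b) := by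
        rw [horb _ hne]; exact hcd.symm
      obtain ⟨x, hx⟩ := hd
      refine ⟨(x : G) * g, ?_, ?_⟩
      · rw [← smul_smul]
        exact Sylow.smul_eq_iff_mem_normalizer.2 (Subgroup.le_normalizer x.2)
      · rw [← smul_smul]; exact hx
    have hirr := (CfsgLib.Chars.isIrr_fixedBy_sub_one_iff (G := G) (X := Sylow 5 G)
      (by omega)).2 h2
    refine ⟨Nat.prime_five, 5, ⟨⟨_, hirr⟩, ?_⟩, dvd_rfl⟩
    have h7 : Nat.card (MulAction.fixedBy (Sylow 5 G) (1 : G)) = 6 := by
      rw [← h6]
      exact Nat.card_congr ((Equiv.setCongr (Set.eq_univ_of_forall fun x => one_smul G x)).trans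
        (Equiv.Set.univ _))
    simp only [Cfsg.charDegree, h7]
    norm_num

end CfsgLib.Recog
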