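import Mathlib

/-!
The action of a group of matrices on column vectors, as a hom to `MulAut`.
-/

set_option autoImplicit false

namespace CfsgLib.Recog

variable {n : Type*} [Fintype n] [DecidableEq n] {F : Type*} [CommRing F]

/-- `GL n F` acting on `Multiplicative (n → F)`. -/
def mulVecAct : GL n F →* MulAut (Multiplicative (n → F)) where
  toFun g := AddEquiv.toMultiplicative
    { toFun := fun v => (g : Matrix n n F).mulVec v
      invFun := fun v => ((g⁻¹ : GL n F) : Matrix n n F).mulVec v
      left_inv := fun v => by simp [Matrix.mulVec_mulVec, ← Units.val_mul]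
      right_inv := fun v => by simp [Matrix.mulVec_mulVec, ← Units.val_mul]
      map_add' := fun v w => Matrix.mulVec_add _ v w }
  map_one' := by
    apply MulEquiv.ext
    intro v
    exact congrArg Multiplicative.ofAdd (Matrix.one_mulVec v.toAdd)
  map_mul' g h := by
    apply MulEquiv.ext
    intro v
    exact congrArg Multiplicative.ofAdd
      (Matrix.mulVec_mulVec v.toAdd (g : Matrix n n F) (h : Matrix n n F)).symm

theorem mulVecAct_apply (g : GL n F) (v : Multiplicative (n → F)) :
    (mulVecAct g v).toAdd = (g : Matrix n n F).mulVec v.toAdd := rfl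

theorem pow_char_eq_one (p : ℕ) [CharP F p] (v : Multiplicative (n → F)) : v ^ p = 1 := by
  apply Multiplicative.toAdd.injective
  funext i
  change p • v.toAdd i = 0
  rw [nsmul_eq_mul, CharP.cast_eq_zero, zero_mul]

/-- A matrix with a non-zero fixed vector has eigenvalue `1`. -/
theorem det_sub_one_eq_zero [IsDomain F] {g : GL n F} {v : Multiplicative (n → F)} (hv : v ≠ 1)
    (h : mulVecAct g v = v) : ((g : Matrix n n F) - 1).det = 0 := by
  rw [← Matrix.exists_mulVec_eq_zero_iff]
  refine ⟨v.toAdd, fun h0 => hv (Multiplicative.toAdd.injective h0), ?_⟩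
  have := congrArg Multiplicative.toAdd h
  rw [mulVecAct_apply] at this
  rw [Matrix.sub_mulVec, this, Matrix.one_mulVec, sub_self]

theorem orderOf_dvd_of_matrix_pow {G : Subgroup (GL n F)} {g : G} {k : ℕ}
    (h : ((g : GL n F) : Matrix n n F) ^ k = 1) : orderOf g ∣ k := by
  rw [orderOf_dvd_iff_pow_eq_one]
  apply Subtype.ext
  apply Units.ext
  simpa using h

end CfsgLib.Recog
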