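import Cfsg.Agent.Lib.Recog.Unbounded
import Cfsg.Agent.Lib.Recog.LinearAction

/-!
`SL₂` in characteristic `2`: it equals `PSL₂`, and fixed vectors force order at most `2`.
-/

set_option autoImplicit false

namespace CfsgLib.Recog

variable {F : Type*} [Field F] [CharP F 2]

theorem center_SL_two_eq_bot : Subgroup.center (Matrix.SpecialLinearGroup (Fin 2) F) = ⊥ := by
  rw [eq_bot_iff]
  intro A hA
  obtain ⟨r, hr, hA'⟩ := Matrix.SpecialLinearGroup.mem_center_iff.1 hA
  have hr1 : r = 1 := by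
    rw [Fintype.card_fin] at hr
    have : (r - 1) ^ 2 = 0 := by
      rw [CharTwo.sub_eq_add, CharTwo.add_sq, hr, one_pow, CharTwo.add_self_eq_zero]
    exact sub_eq_zero.1 (eq_zero_of_pow_eq_zero this)
  rw [Subgroup.mem_bot]
  apply Subtype.ext
  rw [← hA', hr1]
  simp [Matrix.SpecialLinearGroup.coe_one]

/-- `PSL₂ ≅ SL₂` in characteristic `2`. -/
noncomputable def pslEquivSL :
    Matrix.SpecialLinearGroup (Fin 2) F ≃* Matrix.ProjectiveSpecialLinearGroup (Fin 2) F :=
  (QuotientGroup.quotientBot (G := Matrix.SpecialLinearGroup (Fin 2) F)).symm.trans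
    (QuotientGroup.quotientMulEquivOfEq center_SL_two_eq_bot.symm)

/-- The natural action of `SL₂`. -/
def slAct : Matrix.SpecialLinearGroup (Fin 2) F →* MulAut (Multiplicative (Fin 2 → F)) :=
  mulVecAct.comp Matrix.SpecialLinearGroup.toGL

theorem slAct_apply (g : Matrix.SpecialLinearGroup (Fin 2) F) (v : Multiplicative (Fin 2 → F)) :
    (slAct g v).toAdd = (g : Matrix (Fin 2) (Fin 2) F).mulVec v.toAdd := rfl

theorem sq_eq_trace_mul_add (g : Matrix.SpecialLinearGroup (Fin 2) F) :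
    (g : Matrix (Fin 2) (Fin 2) F) ^ 2 =
      (g : Matrix (Fin 2) (Fin 2) F).trace • (g : Matrix (Fin 2) (Fin 2) F) + 1 := by
  have hd : (g : Matrix (Fin 2) (Fin 2) F).det = 1 := g.2
  rw [Matrix.det_fin_two] at hd
  have h20 : (2 : F) = 0 := CharTwo.two_eq_zero
  set M := (g : Matrix (Fin 2) (Fin 2) F)
  ext i j
  fin_cases i <;> fin_cases j <;>
    simp [pow_two, Matrix.mul_apply, Matrix.trace_fin_two, Fin.sum_univ_two]
  · linear_combination -hd + (-1 : F) * h20
  · ring
  · ring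
  · linear_combination -hd + (-1 : F) * h20

theorem orderOf_dvd_two_of_fixed {g : Matrix.SpecialLinearGroup (Fin 2) F}
    {v : Multiplicative (Fin 2 → F)} (hv : v ≠ 1) (h : slAct g v = v) : orderOf g ∣ 2 := by
  have h0 := det_sub_one_eq_zero hv (g := Matrix.SpecialLinearGroup.toGL g) h
  change ((g : Matrix (Fin 2) (Fin 2) F) - 1).det = 0 at h0
  have hd : (g : Matrix (Fin 2) (Fin 2) F).det = 1 := g.2
  have h20 : (2 : F) = 0 := CharTwo.two_eq_zero
  have ht : (g : Matrix (Fin 2) (Fin 2) F).trace = 0 := by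
    rw [Matrix.det_fin_two] at h0 hd
    rw [Matrix.trace_fin_two]
    simp at h0
    linear_combination -h0 + hd + h20
  rw [orderOf_dvd_iff_pow_eq_one]
  apply Subtype.ext
  rw [Matrix.SpecialLinearGroup.coe_pow, sq_eq_trace_mul_add, ht]
  simp

theorem exists_involution_SL_two :
    ∃ g : Matrix.SpecialLinearGroup (Fin 2) F, orderOf g = 2 := by
  have hsq : ∀ u : Matrix.SpecialLinearGroup (Fin 2) F,
      (u : Matrix (Fin 2) (Fin 2) F) = !![1, 1; 0, 1] → u ^ 2 = 1 ∧ u ≠ 1 := by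
    intro u hu
    refine ⟨Subtype.ext ?_, fun h => ?_⟩
    · rw [Matrix.SpecialLinearGroup.coe_pow, Matrix.SpecialLinearGroup.coe_one, hu]
      ext i j
      fin_cases i <;> fin_cases j <;> simp [pow_two, CharTwo.add_self_eq_zero, Matrix.mul_apply, Fin.sum_univ_two]
    · have h0 := congrFun (congrFun hu 0) 1
      rw [h] at h0
      simp at h0
  obtain ⟨h1, h2⟩ := hsq ⟨!![1, 1; 0, 1], by simp [Matrix.det_fin_two]⟩ rfl
  exact ⟨_, orderOf_eq_prime h1 h2⟩

end CfsgLib.Recog
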