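import Cfsg.Agent.Lib.Recog.QuadPower

/-!
The element orders of `PGL₂` and `PSL₂` over a finite field.
-/

set_option autoImplicit false

namespace CfsgLib.Recog

theorem exists_orderOf_of_dvd {G : Type*} [Group G] {x : G} {N n : ℕ} (hx : orderOf x = N)
    (hN : N ≠ 0) (h : n ∣ N) : ∃ y : G, orderOf y = n := by
  refine ⟨x ^ (N / n), ?_⟩
  rw [orderOf_pow' x (Nat.div_ne_zero_iff_of_dvd h |>.2 ⟨hN, ne_zero_of_dvd_ne_zero hN h⟩), hx,
    Nat.gcd_eq_right (Nat.div_dvd_of_dvd h), Nat.div_div_self h hN]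

variable {F : Type*} [Field F]

theorem mem_center_GL_two_iff {g : GL (Fin 2) F} :
    g ∈ Subgroup.center (GL (Fin 2) F) ↔ ∃ c : F, (g : Matrix (Fin 2) (Fin 2) F) = c • 1 := by
  rw [Matrix.GeneralLinearGroup.mem_center_iff_val_eq_scalar]
  constructor
  · rintro ⟨c, hc⟩
    exact ⟨c, by rw [← hc, Matrix.scalar_apply, Matrix.smul_one_eq_diagonal]⟩
  · rintro ⟨c, hc⟩
    exact ⟨c, by rw [hc, Matrix.scalar_apply, Matrix.smul_one_eq_diagonal]⟩

theorem mem_center_SL_two_iff {g : Matrix.SpecialLinearGroup (Fin 2) F} :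
    g ∈ Subgroup.center (Matrix.SpecialLinearGroup (Fin 2) F) ↔
      ∃ c : F, (g : Matrix (Fin 2) (Fin 2) F) = c • 1 := by
  rw [Matrix.SpecialLinearGroup.mem_center_iff]
  constructor
  · rintro ⟨c, -, hc⟩
    exact ⟨c, by rw [← hc, Matrix.scalar_apply, Matrix.smul_one_eq_diagonal]⟩
  · rintro ⟨c, hc⟩
    refine ⟨c, ?_, by rw [hc, Matrix.scalar_apply, Matrix.smul_one_eq_diagonal]⟩
    have hd : (g : Matrix (Fin 2) (Fin 2) F).det = 1 := g.2
    rw [hc, Matrix.det_smul, Matrix.det_one, mul_one] at hd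
    exact hd

theorem sq_eq_one_mem_center (h2 : (2 : F) ≠ 0) {y : Matrix.SpecialLinearGroup (Fin 2) F}
    (hy : y ^ 2 = 1) : y ∈ Subgroup.center (Matrix.SpecialLinearGroup (Fin 2) F) := by
  rw [mem_center_SL_two_iff]
  set M : Matrix (Fin 2) (Fin 2) F := (y : Matrix (Fin 2) (Fin 2) F) with hM
  have hm : M ^ 2 = 1 := by
    rw [hM, ← Matrix.SpecialLinearGroup.coe_pow, hy, Matrix.SpecialLinearGroup.coe_one]
  have hd : M.det = 1 := y.2
  have h := sq_sub_trace_mul_add_det M
  rw [hm, hd, one_smul] at h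
  have ht : M.trace ≠ 0 := by
    intro h0
    rw [h0, zero_smul, sub_zero] at h
    have h00 := congrFun (congrFun h 0) 0
    simp at h00
    rw [one_add_one_eq_two] at h00
    exact h2 h00
  have htr : M.trace • M = (2 : F) • 1 := by
    rw [two_smul]; linear_combination (norm := abel) -(1 : ℤ) • h
  exact ⟨M.trace⁻¹ * 2, by rw [← smul_smul, ← htr, smul_smul, inv_mul_cancel₀ ht, one_smul]⟩

variable [Fintype F]

/-- `gcd(2, q - 1)`, the order of the centre of `SL₂`. -/
def dTwo (F : Type*) [Fintype F] : ℕ := if Even (Fintype.card F) then 1 else 2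

theorem dTwo_dvd_card_sub_one : dTwo F ∣ Fintype.card F - 1 := by
  unfold dTwo
  split
  · exact one_dvd _
  · next h =>
    obtain ⟨k, hk⟩ := Nat.not_even_iff_odd.1 h
    exact ⟨k, by omega⟩

theorem dTwo_dvd_card_add_one : dTwo F ∣ Fintype.card F + 1 := by
  unfold dTwo
  split
  · exact one_dvd _
  · next h =>
    obtain ⟨k, hk⟩ := Nat.not_even_iff_odd.1 h
    exact ⟨k + 1, by omega⟩

theorem dTwo_cases :
    (dTwo F = 1 ∧ (2 : F) = 0) ∨ (dTwo F = 2 ∧ (2 : F) ≠ 0) := by
  obtain ⟨p, hp⟩ := CharP.exists F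
  obtain ⟨n, hpr, hc⟩ := FiniteField.card F p
  have h2 : (2 : F) = 0 ↔ p = 2 := by
    rw [show (2 : F) = ((2 : ℕ) : F) by norm_num, CharP.cast_eq_zero_iff F p,
      Nat.prime_dvd_prime_iff_eq hpr Nat.prime_two]
  by_cases hp2 : p = 2
  · refine Or.inl ⟨if_pos ?_, h2.2 hp2⟩
    rw [hc, hp2, Nat.even_pow]
    exact ⟨even_two, n.pos.ne'⟩
  · refine Or.inr ⟨if_neg ?_, fun h => hp2 (h2.1 h)⟩
    rw [hc, Nat.even_pow]
    exact fun h => hp2 (hpr.even_iff.1 h.1)

theorem pow_dTwo_eq_one_mem_center {y : Matrix.SpecialLinearGroup (Fin 2) F}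
    (hy : y ^ dTwo F = 1) : y ∈ Subgroup.center (Matrix.SpecialLinearGroup (Fin 2) F) := by
  rcases dTwo_cases (F := F) with ⟨h, -⟩ | ⟨h, h2⟩
  · rw [h, pow_one] at hy
    rw [hy]; exact one_mem _
  · rw [h] at hy
    exact sq_eq_one_mem_center h2 hy

theorem pow_dTwo_eq_one_of_sq {c : F} (hc : c ^ 2 = 1) : c ^ dTwo F = 1 := by
  rcases dTwo_cases (F := F) with ⟨h, h2⟩ | ⟨h, -⟩
  · rw [h, pow_one]
    have h0 : (c - 1) ^ 2 = 0 := by linear_combination hc + (1 - c) * h2
    exact sub_eq_zero.1 (eq_zero_of_pow_eq_zero h0)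
  · rw [h]; exact hc

/-- If `g ^ m = 1` in `SL₂`, the image in `PSL₂` is killed by `m / d`. -/
theorem orderOf_PSL_mk_dvd {g : Matrix.SpecialLinearGroup (Fin 2) F} {m : ℕ} (hm : dTwo F ∣ m)
    (h : g ^ m = 1) :
    orderOf (QuotientGroup.mk' (Subgroup.center (Matrix.SpecialLinearGroup (Fin 2) F)) g) ∣
      m / dTwo F := by
  rw [orderOf_dvd_iff_pow_eq_one, ← map_pow]
  refine (QuotientGroup.eq_one_iff _).2 (pow_dTwo_eq_one_mem_center ?_)
  rw [← pow_mul, Nat.div_mul_cancel hm, h]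

variable (p : ℕ) [hp : Fact p.Prime] [CharP F p]

include hp in
theorem exists_card_eq_pow : ∃ n, 0 < n ∧ Fintype.card F = p ^ n := by
  obtain ⟨n, -, hn⟩ := FiniteField.card F p
  exact ⟨n, n.pos, hn⟩

theorem orderOf_PGL_two_dvd (g : GL (Fin 2) F) :
    orderOf (QuotientGroup.mk' (Subgroup.center (GL (Fin 2) F)) g) ∣ p ∨
    orderOf (QuotientGroup.mk' (Subgroup.center (GL (Fin 2) F)) g) ∣ Fintype.card F - 1 ∨
    orderOf (QuotientGroup.mk' (Subgroup.center (GL (Fin 2) F)) g) ∣ Fintype.card F + 1 := by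
  have key : ∀ m : ℕ, (∃ c : F, (g : Matrix (Fin 2) (Fin 2) F) ^ m = c • 1) →
      orderOf (QuotientGroup.mk' (Subgroup.center (GL (Fin 2) F)) g) ∣ m := by
    intro m hm
    rw [orderOf_dvd_iff_pow_eq_one, ← map_pow]
    refine (QuotientGroup.eq_one_iff _).2 (mem_center_GL_two_iff.2 ?_)
    rwa [Units.val_pow_eq_pow_val]
  rcases pow_card_cases p (g : Matrix (Fin 2) (Fin 2) F) with ⟨c, hc⟩ | h | h
  · exact Or.inl (key _ ⟨c, hc⟩)
  · refine Or.inr (Or.inl (key _ ⟨1, ?_⟩))
    have h' : g ^ (Fintype.card F - 1) * g = 1 * g := by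
      rw [← pow_succ, Nat.sub_add_cancel Fintype.card_pos, one_mul]
      exact Units.ext h
    rw [one_smul, ← Units.val_pow_eq_pow_val, mul_right_cancel h', Units.val_one]
  · exact Or.inr (Or.inr (key _ ⟨_, by rw [pow_succ', h, trace_smul_one_sub_mul]⟩))

theorem orderOf_PSL_two_dvd (g : Matrix.SpecialLinearGroup (Fin 2) F) :
    orderOf (QuotientGroup.mk' (Subgroup.center (Matrix.SpecialLinearGroup (Fin 2) F)) g) ∣ p ∨
    orderOf (QuotientGroup.mk' (Subgroup.center (Matrix.SpecialLinearGroup (Fin 2) F)) g) ∣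
      (Fintype.card F - 1) / dTwo F ∨
    orderOf (QuotientGroup.mk' (Subgroup.center (Matrix.SpecialLinearGroup (Fin 2) F)) g) ∣
      (Fintype.card F + 1) / dTwo F := by
  have hd : (g : Matrix (Fin 2) (Fin 2) F).det = 1 := g.2
  rcases pow_card_cases p (g : Matrix (Fin 2) (Fin 2) F) with ⟨c, hc⟩ | h | h
  · refine Or.inl ?_
    rw [orderOf_dvd_iff_pow_eq_one, ← map_pow]
    refine (QuotientGroup.eq_one_iff _).2 (mem_center_SL_two_iff.2 ⟨c, ?_⟩)
    rw [Matrix.SpecialLinearGroup.coe_pow, hc]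
  · refine Or.inr (Or.inl (orderOf_PSL_mk_dvd dTwo_dvd_card_sub_one ?_))
    have h' : g ^ (Fintype.card F - 1) * g = 1 * g := by
      rw [← pow_succ, Nat.sub_add_cancel Fintype.card_pos, one_mul]
      exact Subtype.ext (by rw [Matrix.SpecialLinearGroup.coe_pow, h])
    exact mul_right_cancel h'
  · refine Or.inr (Or.inr (orderOf_PSL_mk_dvd dTwo_dvd_card_add_one (Subtype.ext ?_)))
    rw [Matrix.SpecialLinearGroup.coe_pow, Matrix.SpecialLinearGroup.coe_one, pow_succ', h,
      trace_smul_one_sub_mul, hd, one_smul]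

/-- An embedding of the field with `q²` elements into `2 × 2` matrices. -/
theorem exists_nonsplit_embedding :
    ∃ (φ : FiniteField.Extension F p 2 →ₐ[F] Matrix (Fin 2) (Fin 2) F)
      (ζ : (FiniteField.Extension F p 2)ˣ),
        Function.Injective φ ∧ orderOf ζ = Fintype.card F ^ 2 - 1 := by
  obtain ⟨ζ, hζ⟩ := IsCyclic.exists_ofOrder_eq_natCard (α := (FiniteField.Extension F p 2)ˣ)
  refine ⟨Algebra.leftMulMatrix
    (Module.finBasisOfFinrankEq F _ (FiniteField.finrank_extension F p 2)), ζ,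
    Algebra.leftMulMatrix_injective _, ?_⟩
  rw [hζ, Nat.card_units, FiniteField.natCard_extension, Nat.card_eq_fintype_card]

include hp in
theorem exists_orderOf_eq_card_add_one_PGL :
    ∃ g : GL (Fin 2) F ⧸ Subgroup.center (GL (Fin 2) F), orderOf g = Fintype.card F + 1 := by
  obtain ⟨φ, ζ, hinj, hζ⟩ := exists_nonsplit_embedding (F := F) p
  let g : GL (Fin 2) F := Units.map φ.toRingHom.toMonoidHom ζ
  refine ⟨QuotientGroup.mk' _ g, ?_⟩
  have h1 : Fintype.card F + 1 ∣ orderOf (QuotientGroup.mk' (Subgroup.center (GL (Fin 2) F)) g) := by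
    have hk := pow_orderOf_eq_one (QuotientGroup.mk' (Subgroup.center (GL (Fin 2) F)) g)
    rw [← map_pow, QuotientGroup.mk'_apply, QuotientGroup.eq_one_iff, mem_center_GL_two_iff] at hk
    obtain ⟨c, hc⟩ := hk
    generalize orderOf (QuotientGroup.mk' (Subgroup.center (GL (Fin 2) F)) g) = k at hc
    have hc' : φ ((ζ : FiniteField.Extension F p 2) ^ k) = φ (algebraMap F _ c) := by
      rw [AlgHom.commutes, Algebra.algebraMap_eq_smul_one, map_pow]; exact hc
    have hc2 := hinj hc'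
    have hc0 : c ≠ 0 := by
      rintro rfl
      rw [map_zero] at hc2
      exact pow_ne_zero _ ζ.ne_zero hc2
    have hpow : ζ ^ (k * (Fintype.card F - 1)) = 1 := Units.ext (by
      rw [Units.val_pow_eq_pow_val, pow_mul, hc2, ← map_pow,
        FiniteField.pow_card_sub_one_eq_one c hc0, map_one, Units.val_one])
    rw [← orderOf_dvd_iff_pow_eq_one, hζ, mul_comm k,
      show Fintype.card F ^ 2 - 1 = (Fintype.card F - 1) * (Fintype.card F + 1) by
        rw [mul_comm, ← Nat.sq_sub_sq, one_pow]] at hpow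
    exact (Nat.mul_dvd_mul_iff_left (by have := Fintype.one_lt_card (α := F); omega)).1 hpow
  obtain ⟨n, hn, hq⟩ := exists_card_eq_pow (F := F) p
  have hpq : p ≤ Fintype.card F := hq ▸ Nat.le_self_pow hn.ne' p
  have h2 := hp.out.two_le
  rcases orderOf_PGL_two_dvd p g with h | h | h
  · have := Nat.le_of_dvd (by omega) (h1.trans h)
    omega
  · have := Nat.le_of_dvd (by omega) (h1.trans h)
    omega
  · exact Nat.dvd_antisymm h h1

theorem exists_orderOf_eq_card_sub_one_PGL :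
    ∃ g : GL (Fin 2) F ⧸ Subgroup.center (GL (Fin 2) F), orderOf g = Fintype.card F - 1 := by
  obtain ⟨ζ, hζ⟩ := IsCyclic.exists_ofOrder_eq_natCard (α := Fˣ)
  rw [Nat.card_units, Nat.card_eq_fintype_card] at hζ
  let D : F × F →* Matrix (Fin 2) (Fin 2) F :=
    { toFun := fun x => Matrix.diagonal ![x.1, x.2]
      map_one' := by ext i j; fin_cases i <;> fin_cases j <;> simp
      map_mul' := fun x y => by
        rw [Matrix.diagonal_mul_diagonal]; congr 1; ext i; fin_cases i <;> rfl }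
  let g : GL (Fin 2) F := Units.map D (MulEquiv.prodUnits.symm (ζ, (1 : Fˣ)))
  refine ⟨QuotientGroup.mk' _ g, (orderOf_eq_iff (by have := Fintype.one_lt_card (α := F); omega)).2
    ⟨?_, fun m hm h0 hh => ?_⟩⟩
  · have : g ^ (Fintype.card F - 1) = 1 := by
      rw [← map_pow, ← map_pow, Prod.pow_mk, one_pow, ← hζ, pow_orderOf_eq_one, Prod.mk_one_one,
        map_one, map_one]
    rw [← map_pow, this, map_one]
  · rw [← map_pow, QuotientGroup.mk'_apply, QuotientGroup.eq_one_iff, mem_center_GL_two_iff] at hh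
    obtain ⟨c, hc⟩ := hh
    rw [← map_pow, ← map_pow, Prod.pow_mk, one_pow] at hc
    have h11 := congrFun (congrFun hc 1) 1
    have h00 := congrFun (congrFun hc 0) 0
    simp [D, MulEquiv.prodUnits] at h11 h00
    rw [← h11] at h00
    have : ζ ^ m = 1 := Units.ext (by simpa using h00)
    rw [← orderOf_dvd_iff_pow_eq_one, hζ] at this
    have := Nat.le_of_dvd h0 this
    omega

theorem exists_orderOf_eq_char_PGL :
    ∃ g : GL (Fin 2) F ⧸ Subgroup.center (GL (Fin 2) F), orderOf g = p := by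
  refine ⟨QuotientGroup.mk' _
    (Matrix.GeneralLinearGroup.mkOfDetNeZero !![1, 1; 0, 1] (by simp [Matrix.det_fin_two])),
    orderOf_eq_prime ?_ ?_⟩
  · rw [← map_pow]
    refine (QuotientGroup.eq_one_iff _).2 (mem_center_GL_two_iff.2 ⟨1, ?_⟩)
    rw [Units.val_pow_eq_pow_val]
    change (!![1, 1; 0, 1] : Matrix (Fin 2) (Fin 2) F) ^ p = _
    have h0 : ((!![1, 1; 0, 1] : Matrix (Fin 2) (Fin 2) F) - 1) ^ 2 = 0 := by
      ext i j; fin_cases i <;> fin_cases j <;> simp [pow_two, Matrix.mul_apply, Fin.sum_univ_two]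
    have h1 := pow_eq_zero_of_le hp.out.two_le h0
    rw [sub_pow_char_of_commute (p := p) (Commute.one_right _), one_pow, sub_eq_zero] at h1
    rw [h1, one_smul]
  · intro h
    obtain ⟨c, hc⟩ := mem_center_GL_two_iff.1 ((QuotientGroup.eq_one_iff _).1 h)
    have h01 := congrFun (congrFun hc 0) 1
    simp [Matrix.GeneralLinearGroup.mkOfDetNeZero] at h01

theorem range_orderOf_PGL_two :
    Set.range (orderOf : GL (Fin 2) F ⧸ Subgroup.center (GL (Fin 2) F) → ℕ) =
      {n | n = p ∨ n ∣ Fintype.card F - 1 ∨ n ∣ Fintype.card F + 1} := by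
  ext n
  constructor
  · rintro ⟨x, rfl⟩
    obtain ⟨g, rfl⟩ := QuotientGroup.mk'_surjective _ x
    rcases orderOf_PGL_two_dvd p g with h | h
    · rcases (Nat.dvd_prime hp.out).1 h with h | h
      · exact Or.inr (Or.inl (by rw [h]; exact one_dvd _))
      · exact Or.inl h
    · exact Or.inr h
  · have h2 := Fintype.one_lt_card (α := F)
    rintro (rfl | h | h)
    · exact exists_orderOf_eq_char_PGL _
    · obtain ⟨x, hx⟩ := exists_orderOf_eq_card_sub_one_PGL (F := F)
      exact exists_orderOf_of_dvd hx (by omega) h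
    · obtain ⟨x, hx⟩ := exists_orderOf_eq_card_add_one_PGL (F := F) p
      exact exists_orderOf_of_dvd hx (by omega) h

theorem exists_orderOf_eq_card_sub_one_PSL :
    ∃ g : Matrix.ProjectiveSpecialLinearGroup (Fin 2) F,
      orderOf g = (Fintype.card F - 1) / dTwo F := by
  obtain ⟨ζ, hζ⟩ := IsCyclic.exists_ofOrder_eq_natCard (α := Fˣ)
  rw [Nat.card_units, Nat.card_eq_fintype_card] at hζ
  let D : F × F →* Matrix (Fin 2) (Fin 2) F :=
    { toFun := fun x => Matrix.diagonal ![x.1, x.2]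
      map_one' := by ext i j; fin_cases i <;> fin_cases j <;> simp
      map_mul' := fun x y => by
        rw [Matrix.diagonal_mul_diagonal]; congr 1; ext i; fin_cases i <;> rfl }
  let g : Matrix.SpecialLinearGroup (Fin 2) F :=
    ⟨D ((ζ : F), ((ζ⁻¹ : Fˣ) : F)), by simp [D]⟩
  refine ⟨QuotientGroup.mk' _ g, Nat.dvd_antisymm (orderOf_PSL_mk_dvd dTwo_dvd_card_sub_one ?_) ?_⟩
  · apply Subtype.ext
    rw [Matrix.SpecialLinearGroup.coe_pow, Matrix.SpecialLinearGroup.coe_one]
    change D ((ζ : F), ((ζ⁻¹ : Fˣ) : F)) ^ (Fintype.card F - 1) = 1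
    rw [← map_pow, Prod.pow_mk, ← Units.val_pow_eq_pow_val, ← Units.val_pow_eq_pow_val, inv_pow,
      ← hζ, pow_orderOf_eq_one, inv_one, Units.val_one, Prod.mk_one_one, map_one]
  · have hk := pow_orderOf_eq_one
      (QuotientGroup.mk' (Subgroup.center (Matrix.SpecialLinearGroup (Fin 2) F)) g)
    generalize orderOf
      (QuotientGroup.mk' (Subgroup.center (Matrix.SpecialLinearGroup (Fin 2) F)) g) = k at hk ⊢
    rw [← map_pow, QuotientGroup.mk'_apply, QuotientGroup.eq_one_iff, mem_center_SL_two_iff,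
      Matrix.SpecialLinearGroup.coe_pow] at hk
    obtain ⟨c, hc⟩ := hk
    change D ((ζ : F), ((ζ⁻¹ : Fˣ) : F)) ^ k = c • 1 at hc
    rw [← map_pow, Prod.pow_mk] at hc
    have h11 := congrFun (congrFun hc 1) 1
    have h00 := congrFun (congrFun hc 0) 0
    simp [D] at h11 h00
    have hc2 : c ^ 2 = 1 := by
      rw [pow_two]
      nth_rewrite 1 [← h00]
      rw [← h11, mul_inv_cancel₀ (pow_ne_zero _ ζ.ne_zero)]
    have h : ζ ^ (k * dTwo F) = 1 := Units.ext (by
      rw [Units.val_pow_eq_pow_val, pow_mul, h00, pow_dTwo_eq_one_of_sq hc2, Units.val_one])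
    rw [← orderOf_dvd_iff_pow_eq_one, hζ] at h
    have hd : 0 < dTwo F := by unfold dTwo; split <;> norm_num
    exact (Nat.div_dvd_iff_dvd_mul dTwo_dvd_card_sub_one hd).2 (by rwa [mul_comm])

include hp in
theorem exists_orderOf_eq_card_add_one_PSL :
    ∃ g : Matrix.ProjectiveSpecialLinearGroup (Fin 2) F,
      orderOf g = (Fintype.card F + 1) / dTwo F := by
  obtain ⟨φ, ζ, hinj, hζ⟩ := exists_nonsplit_embedding (F := F) p
  have hq2 : Fintype.card F ^ 2 - 1 = (Fintype.card F - 1) * (Fintype.card F + 1) := by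
    rw [mul_comm, ← Nat.sq_sub_sq, one_pow]
  have hdet : (φ ((ζ : FiniteField.Extension F p 2) ^ (Fintype.card F - 1))).det = 1 := by
    rw [map_pow, Matrix.det_pow]
    refine FiniteField.pow_card_sub_one_eq_one _ ?_
    have hu : IsUnit (φ (ζ : FiniteField.Extension F p 2)) := ζ.isUnit.map φ
    exact (Matrix.isUnit_iff_isUnit_det _).1 hu |>.ne_zero
  let g : Matrix.SpecialLinearGroup (Fin 2) F :=
    ⟨φ ((ζ : FiniteField.Extension F p 2) ^ (Fintype.card F - 1)), hdet⟩
  refine ⟨QuotientGroup.mk' _ g, Nat.dvd_antisymm (orderOf_PSL_mk_dvd dTwo_dvd_card_add_one ?_) ?_⟩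
  · apply Subtype.ext
    rw [Matrix.SpecialLinearGroup.coe_pow, Matrix.SpecialLinearGroup.coe_one]
    change φ ((ζ : FiniteField.Extension F p 2) ^ (Fintype.card F - 1)) ^ (Fintype.card F + 1) = 1
    rw [← map_pow, ← pow_mul, ← hq2, ← hζ, ← Units.val_pow_eq_pow_val, pow_orderOf_eq_one,
      Units.val_one, map_one]
  · have hk := pow_orderOf_eq_one
      (QuotientGroup.mk' (Subgroup.center (Matrix.SpecialLinearGroup (Fin 2) F)) g)
    generalize orderOf
      (QuotientGroup.mk' (Subgroup.center (Matrix.SpecialLinearGroup (Fin 2) F)) g) = k at hk ⊢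
    rw [← map_pow, QuotientGroup.mk'_apply, QuotientGroup.eq_one_iff, mem_center_SL_two_iff,
      Matrix.SpecialLinearGroup.coe_pow] at hk
    obtain ⟨c, hc⟩ := hk
    change φ ((ζ : FiniteField.Extension F p 2) ^ (Fintype.card F - 1)) ^ k = c • 1 at hc
    have hc2 : c ^ 2 = 1 := by
      have h := congrArg Matrix.det hc
      rw [Matrix.det_pow, hdet, one_pow, Matrix.det_smul, Matrix.det_one, mul_one,
        Fintype.card_fin] at h
      exact h.symm
    rw [← Algebra.algebraMap_eq_smul_one, ← AlgHom.commutes φ, ← map_pow] at hc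
    have h : ζ ^ ((Fintype.card F - 1) * (k * dTwo F)) = 1 := Units.ext (by
      rw [Units.val_pow_eq_pow_val, pow_mul, pow_mul, hinj hc, ← map_pow,
        pow_dTwo_eq_one_of_sq hc2, map_one, Units.val_one])
    rw [← orderOf_dvd_iff_pow_eq_one, hζ, hq2] at h
    have hd : 0 < dTwo F := by unfold dTwo; split <;> norm_num
    exact (Nat.div_dvd_iff_dvd_mul dTwo_dvd_card_add_one hd).2
      (by rw [mul_comm]; exact (Nat.mul_dvd_mul_iff_left
        (by have := Fintype.one_lt_card (α := F); omega)).1 h)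

theorem exists_orderOf_eq_char_PSL :
    ∃ g : Matrix.ProjectiveSpecialLinearGroup (Fin 2) F, orderOf g = p := by
  let g : Matrix.SpecialLinearGroup (Fin 2) F := ⟨!![1, 1; 0, 1], by simp [Matrix.det_fin_two]⟩
  refine ⟨QuotientGroup.mk' _ g, orderOf_eq_prime ?_ ?_⟩
  · rw [← map_pow]
    refine (QuotientGroup.eq_one_iff _).2 (mem_center_SL_two_iff.2 ⟨1, ?_⟩)
    rw [Matrix.SpecialLinearGroup.coe_pow]
    change (!![1, 1; 0, 1] : Matrix (Fin 2) (Fin 2) F) ^ p = _
    have h0 : ((!![1, 1; 0, 1] : Matrix (Fin 2) (Fin 2) F) - 1) ^ 2 = 0 := by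
      ext i j; fin_cases i <;> fin_cases j <;> simp [pow_two, Matrix.mul_apply, Fin.sum_univ_two]
    have h1 := pow_eq_zero_of_le hp.out.two_le h0
    rw [sub_pow_char_of_commute (p := p) (Commute.one_right _), one_pow, sub_eq_zero] at h1
    rw [h1, one_smul]
  · intro h
    obtain ⟨c, hc⟩ := mem_center_SL_two_iff.1 ((QuotientGroup.eq_one_iff _).1 h)
    have h01 := congrFun (congrFun hc 0) 1
    simp [g] at h01

theorem range_orderOf_PSL_two :
    Set.range (orderOf : Matrix.ProjectiveSpecialLinearGroup (Fin 2) F → ℕ) =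
      {n | n = p ∨ n ∣ (Fintype.card F - 1) / dTwo F ∨ n ∣ (Fintype.card F + 1) / dTwo F} := by
  ext n
  constructor
  · rintro ⟨x, rfl⟩
    obtain ⟨g, rfl⟩ := QuotientGroup.mk'_surjective _ x
    rcases orderOf_PSL_two_dvd p g with h | h
    · rcases (Nat.dvd_prime hp.out).1 h with h | h
      · exact Or.inr (Or.inl (by rw [h]; exact one_dvd _))
      · exact Or.inl h
    · exact Or.inr h
  · have h2 := Fintype.one_lt_card (α := F)
    have hm : ∀ m, 0 < m → dTwo F ∣ m → m / dTwo F ≠ 0 := fun m hm hd h0 => by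
      have := Nat.eq_mul_of_div_eq_right hd h0
      omega
    rintro (rfl | h | h)
    · exact exists_orderOf_eq_char_PSL _
    · obtain ⟨x, hx⟩ := exists_orderOf_eq_card_sub_one_PSL (F := F)
      exact exists_orderOf_of_dvd hx (hm _ (by omega) dTwo_dvd_card_sub_one) h
    · obtain ⟨x, hx⟩ := exists_orderOf_eq_card_add_one_PSL (F := F) p
      exact exists_orderOf_of_dvd hx (hm _ (by omega) dTwo_dvd_card_add_one) h

end CfsgLib.Recog
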