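import Cfsg.Prelude.Def_Sz
import Cfsg.Agent.Lib.Recog.LinearAction

/-!
In `Sz(F)` an element with a non-zero fixed vector has order dividing `4`.
-/

set_option autoImplicit false

namespace CfsgLib.Recog

open Matrix Cfsg.Lie

section Identities

variable {R : Type*} [CommRing R]

/-- The sum of the six principal `2 × 2` minors. -/
def minorSum2 (M : Matrix (Fin 4) (Fin 4) R) : R :=
  M 0 0 * M 1 1 - M 1 0 * M 0 1 + (M 0 0 * M 2 2 - M 2 0 * M 0 2) +
    (M 0 0 * M 3 3 - M 3 0 * M 0 3) + (M 1 1 * M 2 2 - M 2 1 * M 1 2) +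
    (M 1 1 * M 3 3 - M 3 1 * M 1 3) + (M 2 2 * M 3 3 - M 3 2 * M 2 3)

theorem det_smul_one_add (M : Matrix (Fin 4) (Fin 4) R) (x : R) :
    (x • (1 : Matrix (Fin 4) (Fin 4) R) + M).det =
      x ^ 4 + M.trace * x ^ 3 + minorSum2 M * x ^ 2 + M.adjugate.trace * x + M.det := by
  simp [Matrix.det_succ_row_zero, Fin.sum_univ_succ, Matrix.trace,
    Matrix.adjugate_fin_succ_eq_det_submatrix, Matrix.one_apply, Fin.succAbove, minorSum2]
  ring

end Identities

variable {F : Type*} [Field F]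

/-- The antidiagonal matrix. -/
def antiDiag : Matrix (Fin 4) (Fin 4) F := Matrix.of fun i j => if i = j.rev then 1 else 0

theorem altForm4_eq (u v : Fin 4 → F) : altForm4 u v = u ⬝ᵥ (antiDiag *ᵥ v) := by
  simp [altForm4, antiDiag, Matrix.mulVec, dotProduct, Fin.sum_univ_four, Fin.rev]

theorem antiDiag_sq : (antiDiag : Matrix (Fin 4) (Fin 4) F) * antiDiag = 1 := by
  ext i j
  fin_cases i <;> fin_cases j <;>
    simp [antiDiag, Matrix.mul_apply, Fin.sum_univ_four, Fin.rev, Matrix.one_apply]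

theorem transpose_mul_antiDiag_mul {g : GL (Fin 4) F} (hg : g ∈ Sp4 F) :
    (g : Matrix (Fin 4) (Fin 4) F)ᵀ * antiDiag * (g : Matrix (Fin 4) (Fin 4) F) = antiDiag := by
  apply Matrix.ext
  intro i j
  have h := hg (Pi.single i 1) (Pi.single j 1)
  rw [altForm4_eq, altForm4_eq, Matrix.mulVec_single_one, Matrix.mulVec_single_one,
    Matrix.mulVec_single_one, single_dotProduct] at h
  simp only [Units.coeHom_apply, one_mul] at h
  rw [Matrix.mul_assoc, Matrix.mul_apply]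
  simpa [dotProduct, Matrix.mul_apply, Matrix.mulVec, Matrix.col_apply] using h

theorem mul_antiDiag_mul_transpose {g : GL (Fin 4) F} (hg : g ∈ Sp4 F) :
    (g : Matrix (Fin 4) (Fin 4) F) * antiDiag * (g : Matrix (Fin 4) (Fin 4) F)ᵀ = antiDiag := by
  have h := transpose_mul_antiDiag_mul hg
  set M := (g : Matrix (Fin 4) (Fin 4) F)
  have h1 : (antiDiag * Mᵀ * antiDiag) * M = 1 := by
    rw [Matrix.mul_assoc antiDiag, Matrix.mul_assoc antiDiag, h, antiDiag_sq]
  have h2 := congrArg (· * (antiDiag : Matrix (Fin 4) (Fin 4) F)) (mul_eq_one_comm.1 h1)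
  simpa [Matrix.mul_assoc, antiDiag_sq] using h2

theorem inv_eq_antiDiag_conj {g : GL (Fin 4) F} (hg : g ∈ Sp4 F) :
    (antiDiag * (g : Matrix (Fin 4) (Fin 4) F)ᵀ * antiDiag) * (g : Matrix (Fin 4) (Fin 4) F) = 1 := by
  rw [Matrix.mul_assoc antiDiag, Matrix.mul_assoc antiDiag, transpose_mul_antiDiag_mul hg,
    antiDiag_sq]

variable [CharP F 2]

theorem det_eq_one_of_mem_Sp4 {g : GL (Fin 4) F} (hg : g ∈ Sp4 F) :
    (g : Matrix (Fin 4) (Fin 4) F).det = 1 := by
  have h1 := congrArg Matrix.det (transpose_mul_antiDiag_mul hg)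
  rw [Matrix.det_mul, Matrix.det_mul, Matrix.det_transpose] at h1
  have h2 : (antiDiag : Matrix (Fin 4) (Fin 4) F).det ≠ 0 := by
    intro h0
    have := congrArg Matrix.det (antiDiag_sq (F := F))
    simp [h0] at this
  set d := (g : Matrix (Fin 4) (Fin 4) F).det
  have h3 : (d - 1) * (d + 1) = 0 :=
    (mul_eq_zero.1 (show (antiDiag : Matrix (Fin 4) (Fin 4) F).det * ((d - 1) * (d + 1)) = 0 by
      linear_combination h1)).resolve_left h2
  rw [← CharTwo.sub_eq_add, mul_self_eq_zero, sub_eq_zero] at h3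
  exact h3

theorem trace_adjugate_of_mem_Sp4 {g : GL (Fin 4) F} (hg : g ∈ Sp4 F) :
    (g : Matrix (Fin 4) (Fin 4) F).adjugate.trace = (g : Matrix (Fin 4) (Fin 4) F).trace := by
  set M := (g : Matrix (Fin 4) (Fin 4) F)
  have h : M.adjugate = antiDiag * Mᵀ * antiDiag := by
    have h1 := congrArg (· * M.adjugate) (inv_eq_antiDiag_conj hg)
    simpa [Matrix.mul_assoc, Matrix.mul_adjugate, det_eq_one_of_mem_Sp4 hg, M] using h1.symm
  rw [h, Matrix.trace_mul_comm, ← Matrix.mul_assoc, antiDiag_sq, Matrix.one_mul,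
    Matrix.trace_transpose]

theorem minor_cols {g : GL (Fin 4) F} (hg : g ∈ Sp4 F) (i j : Fin 4) :
    (g : Matrix (Fin 4) (Fin 4) F) 0 i * (g : Matrix (Fin 4) (Fin 4) F) 3 j +
      (g : Matrix (Fin 4) (Fin 4) F) 1 i * (g : Matrix (Fin 4) (Fin 4) F) 2 j +
      (g : Matrix (Fin 4) (Fin 4) F) 2 i * (g : Matrix (Fin 4) (Fin 4) F) 1 j +
      (g : Matrix (Fin 4) (Fin 4) F) 3 i * (g : Matrix (Fin 4) (Fin 4) F) 0 j =
      (antiDiag : Matrix (Fin 4) (Fin 4) F) i j := by
  rw [← transpose_mul_antiDiag_mul hg]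
  simp [Matrix.mul_apply, antiDiag, Fin.sum_univ_four, Fin.rev]
  ring

theorem minor_rows {g : GL (Fin 4) F} (hg : g ∈ Sp4 F) (i j : Fin 4) :
    (g : Matrix (Fin 4) (Fin 4) F) i 0 * (g : Matrix (Fin 4) (Fin 4) F) j 3 +
      (g : Matrix (Fin 4) (Fin 4) F) i 1 * (g : Matrix (Fin 4) (Fin 4) F) j 2 +
      (g : Matrix (Fin 4) (Fin 4) F) i 2 * (g : Matrix (Fin 4) (Fin 4) F) j 1 +
      (g : Matrix (Fin 4) (Fin 4) F) i 3 * (g : Matrix (Fin 4) (Fin 4) F) j 0 =
      (antiDiag : Matrix (Fin 4) (Fin 4) F) i j := by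
  rw [← mul_antiDiag_mul_transpose hg]
  simp [Matrix.mul_apply, antiDiag, Fin.sum_univ_four, Fin.rev]
  ring

theorem star4_mul {g h : GL (Fin 4) F} (hg : g ∈ Sp4 F) (hh : h ∈ Sp4 F) :
    star4 ((g * h : GL (Fin 4) F) : Matrix (Fin 4) (Fin 4) F) =
      star4 (g : Matrix (Fin 4) (Fin 4) F) * star4 (h : Matrix (Fin 4) (Fin 4) F) := by
  have h2 : (2 : F) = 0 := CharTwo.two_eq_zero
  ext p r
  have hc := minor_cols hh (pairOf r).1 (pairOf r).2
  have hr := minor_rows hg (pairOf p).1 (pairOf p).2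
  have hc0 : (antiDiag : Matrix (Fin 4) (Fin 4) F) (pairOf r).1 (pairOf r).2 = 0 := by
    fin_cases r <;> simp [antiDiag, pairOf, Fin.rev]
  have hr0 : (antiDiag : Matrix (Fin 4) (Fin 4) F) (pairOf p).1 (pairOf p).2 = 0 := by
    fin_cases p <;> simp [antiDiag, pairOf, Fin.rev]
  rw [hc0] at hc
  rw [hr0] at hr
  simp only [star4, Matrix.of_apply, Units.val_mul, Matrix.mul_apply, Fin.sum_univ_four]
  simp only [show pairOf 0 = (0, 1) from rfl, show pairOf 1 = (0, 2) from rfl,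
    show pairOf 2 = (1, 3) from rfl, show pairOf 3 = (2, 3) from rfl]
  set k := (pairOf p).1
  set l := (pairOf p).2
  set i := (pairOf r).1
  set j := (pairOf r).2
  set a := (g : Matrix (Fin 4) (Fin 4) F)
  set b := (h : Matrix (Fin 4) (Fin 4) F)
  linear_combination (a k 0 * a l 3 - a l 0 * a k 3) * hc +
    (b 1 i * b 2 j - b 2 i * b 1 j) * hr +
    (-(a k 0 * a l 3 - a l 0 * a k 3) * (b 1 i * b 2 j + b 3 i * b 0 j) -
      (b 1 i * b 2 j - b 2 i * b 1 j) * (a k 2 * a l 1 + a k 3 * a l 0)) * h2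

theorem trace_star4 {g : GL (Fin 4) F} (hg : g ∈ Sp4 F) :
    (star4 (g : Matrix (Fin 4) (Fin 4) F)).trace = minorSum2 (g : Matrix (Fin 4) (Fin 4) F) := by
  have h1 := minor_rows hg 0 3
  have h2 := minor_cols hg 1 2
  have h3 : (2 : F) = 0 := CharTwo.two_eq_zero
  simp [antiDiag, Fin.rev] at h1 h2
  simp [star4, pairOf, minorSum2, Matrix.trace, Fin.sum_univ_four]
  linear_combination -h1 - h2 + ((g : Matrix (Fin 4) (Fin 4) F) 0 1 * (g : Matrix (Fin 4) (Fin 4) F) 3 2 +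
    (g : Matrix (Fin 4) (Fin 4) F) 0 2 * (g : Matrix (Fin 4) (Fin 4) F) 3 1 +
    (g : Matrix (Fin 4) (Fin 4) F) 3 0 * (g : Matrix (Fin 4) (Fin 4) F) 0 3 +
    (g : Matrix (Fin 4) (Fin 4) F) 2 1 * (g : Matrix (Fin 4) (Fin 4) F) 1 2 - 1) * h3

/-- The Suzuki group is contained in `Sp₄` and satisfies its defining equation. -/
theorem Sz_mem {e : ℕ} {m : ℕ} (he : e = 2 ^ m) {g : GL (Fin 4) F} (hg : g ∈ Sz F e) :
    g ∈ Sp4 F ∧ star4 (g : Matrix (Fin 4) (Fin 4) F) =
      (g : Matrix (Fin 4) (Fin 4) F).map (fun x => x ^ e) := by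
  subst he
  haveI : ExpChar F 2 := ExpChar.prime Nat.prime_two
  have hmap : ∀ M : Matrix (Fin 4) (Fin 4) F,
      M.map (fun x => x ^ 2 ^ m) = M.map (iterateFrobenius F 2 m) := fun M => rfl
  induction hg using Subgroup.closure_induction with
  | mem x hx => exact hx
  | one =>
    refine ⟨one_mem _, ?_⟩
    ext p r
    fin_cases p <;> fin_cases r <;>
      simp [star4, pairOf, Matrix.one_apply]
  | mul x y _ _ hx hy =>
    refine ⟨mul_mem hx.1 hy.1, ?_⟩
    rw [star4_mul hx.1 hy.1, hx.2, hy.2, Units.val_mul, hmap, hmap, hmap, Matrix.map_mul]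
  | inv x _ hx =>
    refine ⟨inv_mem hx.1, ?_⟩
    have h1 : star4 ((x * x⁻¹ : GL (Fin 4) F) : Matrix (Fin 4) (Fin 4) F) = 1 := by
      rw [mul_inv_cancel]
      ext p r
      fin_cases p <;> fin_cases r <;>
        simp [star4, pairOf, Matrix.one_apply]
    rw [star4_mul hx.1 (inv_mem hx.1), hx.2, hmap] at h1
    have h2 : (x : Matrix (Fin 4) (Fin 4) F).map (iterateFrobenius F 2 m) *
        ((x⁻¹ : GL (Fin 4) F) : Matrix (Fin 4) (Fin 4) F).map (iterateFrobenius F 2 m) = 1 := by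
      rw [← Matrix.map_mul, ← Units.val_mul, mul_inv_cancel]
      simp
    rw [hmap]
    exact left_inv_eq_right_inv (mul_eq_one_comm.1 h1) h2

theorem pow_four_eq_one_of_fixed {e m : ℕ} (he : e = 2 ^ m) {g : GL (Fin 4) F} (hg : g ∈ Sz F e)
    (hdet : ((g : Matrix (Fin 4) (Fin 4) F) - 1).det = 0) :
    (g : Matrix (Fin 4) (Fin 4) F) ^ 4 = 1 := by
  obtain ⟨hsp, hstar⟩ := Sz_mem he hg
  subst he
  haveI : ExpChar F 2 := ExpChar.prime Nat.prime_two
  haveI : CharP (Polynomial F) 2 := inferInstance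
  set M := (g : Matrix (Fin 4) (Fin 4) F) with hM
  have h2 : minorSum2 M = M.trace ^ 2 ^ m := by
    rw [← trace_star4 hsp, hstar]
    exact (map_sum (iterateFrobenius F 2 m) _ _).symm
  have h1 := det_smul_one_add M 1
  rw [one_smul, trace_adjugate_of_mem_Sp4 hsp, det_eq_one_of_mem_Sp4 hsp] at h1
  have hz : (1 + M).det = 0 := by
    rw [← hdet]
    congr 1
    ext i j
    simp [CharTwo.sub_eq_add, add_comm]
  rw [hz] at h1
  have hm : minorSum2 M = 0 := by
    have h20 : (2 : F) = 0 := CharTwo.two_eq_zero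
    linear_combination -h1 - (1 + M.trace) * h20
  have ht : M.trace = 0 := eq_zero_of_pow_eq_zero (h2.symm.trans hm)
  have hcp : M.charpoly = Polynomial.X ^ 4 + 1 := by
    have hchar : Matrix.charmatrix M =
        (Polynomial.X : Polynomial F) • (1 : Matrix (Fin 4) (Fin 4) (Polynomial F)) +
          M.map Polynomial.C := by
      ext i j
      by_cases hij : i = j
      · subst hij
        simp [Matrix.charmatrix_apply, CharTwo.sub_eq_add]
      · simp [Matrix.charmatrix_apply, hij, CharTwo.neg_eq]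
    rw [Matrix.charpoly, hchar, det_smul_one_add]
    have e1 : (M.map Polynomial.C).trace = Polynomial.C M.trace := by
      simp [Matrix.trace, map_sum]
    have e2 : minorSum2 (M.map Polynomial.C) = Polynomial.C (minorSum2 M) := by
      simp [minorSum2]
    have e3 : (M.map Polynomial.C).adjugate.trace = Polynomial.C M.adjugate.trace := by
      rw [show M.map Polynomial.C = (Polynomial.C : F →+* Polynomial F).mapMatrix M from rfl,
        ← RingHom.map_adjugate]
      simp [Matrix.trace, map_sum]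
    have e4 : (M.map Polynomial.C).det = Polynomial.C M.det := by
      rw [RingHom.map_det]
      rfl
    rw [e1, e2, e3, e4, trace_adjugate_of_mem_Sp4 hsp, det_eq_one_of_mem_Sp4 hsp, hm, ht]
    simp
  have hCH := Matrix.aeval_self_charpoly M
  rw [hcp] at hCH
  simp only [map_add, map_pow, Polynomial.aeval_X, map_one] at hCH
  rw [← sub_eq_zero, ← hCH]
  ext i j
  simp [CharTwo.sub_eq_add]

theorem orderOf_dvd_four_of_fixed {e m : ℕ} (he : e = 2 ^ m) {g : Sz F e}
    {v : Multiplicative (Fin 4 → F)} (hv : v ≠ 1) (h : mulVecAct (g : GL (Fin 4) F) v = v) :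
    orderOf g ∣ 4 :=
  orderOf_dvd_of_matrix_pow (pow_four_eq_one_of_fixed he g.2 (det_sub_one_eq_zero hv h))

theorem exists_involution_Sz {e : ℕ} (he : 0 < e) : ∃ g : Sz F e, orderOf g = 2 := by
  let J : GL (Fin 4) F := ⟨antiDiag, antiDiag, antiDiag_sq, antiDiag_sq⟩
  have hJ : J ∈ Sz F e := by
    refine Subgroup.subset_closure ⟨fun u v => ?_, ?_⟩
    · simp [altForm4, antiDiag, J, Matrix.mulVec, dotProduct, Fin.sum_univ_four, Fin.rev]
      ring
    · ext p r
      fin_cases p <;> fin_cases r <;>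
        simp [star4, pairOf, antiDiag, J, Fin.rev, he.ne', CharTwo.neg_eq]
  refine ⟨⟨J, hJ⟩, orderOf_eq_prime (Subtype.ext (Units.ext (by simpa [sq, J] using antiDiag_sq))) ?_⟩
  intro h
  have h0 := congrArg (fun x : Sz F e => ((x : GL (Fin 4) F) : Matrix (Fin 4) (Fin 4) F) 0 0) h
  simp [J, antiDiag, Fin.rev] at h0

end CfsgLib.Recog
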