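import Mathlib

/-!
Zsigmondy's theorem: existence of primitive prime divisors of `a ^ n - 1` for `n ≥ 3`.
-/

set_option autoImplicit false
set_option maxHeartbeats 400000

open Polynomial

namespace CfsgLib.Recog.ZsigmondyPrime

/-- The value of the `n`-th cyclotomic polynomial at `a`, in absolute value. -/
noncomputable def cycVal (n a : ℕ) : ℕ := ((cyclotomic n ℤ).eval (a : ℤ)).natAbs

theorem isRoot_of_dvd {n a r : ℕ} (h : r ∣ cycVal n a) :
    IsRoot (cyclotomic n (ZMod r)) (a : ZMod r) := by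
  have h1 : (((cyclotomic n ℤ).eval (a : ℤ) : ℤ) : ZMod r) = 0 := by
    rw [ZMod.intCast_zmod_eq_zero_iff_dvd]
    exact Int.natCast_dvd.2 h
  rw [IsRoot, ← map_cyclotomic_int, ← Int.cast_natCast a, eval_intCast_map]
  simpa using h1

theorem orderOf_of_dvd {n a r : ℕ} [Fact r.Prime] (hn : 0 < n) (h : r ∣ cycVal n a) {k m : ℕ}
    (hnm : n = r ^ k * m) (hm : ¬ r ∣ m) : orderOf (a : ZMod r) = m := by
  have hroot := isRoot_of_dvd h
  have : NeZero ((m : ℕ) : ZMod r) := ⟨fun e => hm ((ZMod.natCast_eq_zero_iff _ _).1 e)⟩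
  have hroot' : IsRoot (cyclotomic m (ZMod r)) (a : ZMod r) := by
    rcases Nat.eq_zero_or_pos k with rfl | hk
    · rwa [hnm, pow_zero, one_mul] at hroot
    · rw [hnm, cyclotomic_mul_prime_pow_eq (ZMod r) hm hk, IsRoot, eval_pow] at hroot
      exact eq_zero_of_pow_eq_zero hroot
  exact (isRoot_cyclotomic_iff.1 hroot').eq_orderOf.symm

theorem cycVal_mul_dvd {n a d : ℕ} (ha : 1 ≤ a) (hd : d ∈ n.properDivisors) :
    cycVal n a * (a ^ d - 1) ∣ a ^ n - 1 := by
  have h1 := map_dvd (evalRingHom (a : ℤ))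
    (X_pow_sub_one_mul_cyclotomic_dvd_X_pow_sub_one_of_dvd ℤ hd)
  simp only [map_mul, coe_evalRingHom, eval_sub, eval_pow, eval_X, eval_one] at h1
  have h2 := Int.natAbs_dvd_natAbs.2 h1
  rw [Int.natAbs_mul] at h2
  have e : ∀ j, ((a : ℤ) ^ j - 1).natAbs = a ^ j - 1 := fun j => by
    have : 1 ≤ a ^ j := Nat.one_le_pow _ _ ha
    rw [show ((a : ℤ) ^ j - 1) = ((a ^ j - 1 : ℕ) : ℤ) by push_cast [this]; ring, Int.natAbs_natCast]
  rw [e, e, mul_comm] at h2
  exact h2

theorem not_sq_dvd {r b : ℕ} (hr : r.Prime) (hodd : Odd r) :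
    ¬ r ^ 2 ∣ ∑ i ∈ Finset.range r, (1 + r * b) ^ i := by
  intro h
  have h1 := odd_sq_dvd_geom_sum₂_sub (R := ℤ) (a := 1) (b := (b : ℤ)) hodd
  simp only [one_pow, mul_one] at h1
  have h2 : ((r : ℤ)) ^ 2 ∣ ∑ i ∈ Finset.range r, (1 + (r : ℤ) * b) ^ i := by exact_mod_cast h
  have h3 := dvd_sub h2 h1
  rw [sub_sub_cancel] at h3
  have h4 : r ^ 2 ∣ r := by exact_mod_cast h3
  have := Nat.le_of_dvd hr.pos h4
  nlinarith [hr.two_le]

theorem not_sq_dvd_cycVal {n a r : ℕ} [Fact r.Prime] (hn : 0 < n) (ha : 2 ≤ a)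
    (h : r ∣ cycVal n a) (hrn : r ∣ n) (hodd : Odd r) : ¬ r ^ 2 ∣ cycVal n a := by
  have hr : r.Prime := Fact.out
  obtain ⟨c, rfl⟩ := hrn
  have hc : c ∈ (r * c).properDivisors :=
    Nat.mem_properDivisors.2 ⟨dvd_mul_left _ _, lt_mul_left (Nat.pos_of_mul_pos_left hn) hr.one_lt⟩
  have h1 := cycVal_mul_dvd (a := a) (by omega) hc
  intro hsq
  -- `a ^ c` is `1` modulo `r`
  have hy : (a : ZMod r) ^ c = 1 := by
    obtain ⟨k, m, hm, he⟩ := Nat.exists_eq_pow_mul_and_not_dvd (Nat.pos_of_mul_pos_left hn).ne' r hr.ne_one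
    have ho := orderOf_of_dvd (k := k + 1) (m := m) hn h (by rw [he]; ring) hm
    refine orderOf_dvd_iff_pow_eq_one.1 ?_
    rw [ho, he]
    exact dvd_mul_left _ _
  have hay : 1 ≤ a ^ c := Nat.one_le_pow _ _ (by omega)
  obtain ⟨b, hb⟩ : r ∣ a ^ c - 1 := by
    rw [← ZMod.natCast_eq_zero_iff, Nat.cast_sub hay]
    push_cast
    rw [hy, sub_self]
  have hyb : a ^ c = 1 + r * b := by omega
  have hsum : a ^ (r * c) - 1 = (∑ i ∈ Finset.range r, (1 + r * b) ^ i) * (r * b) := by
    have h5 := geom_sum_mul_add (r * b) r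
    rw [add_comm (r * b) 1] at h5
    rw [mul_comm r c, pow_mul, hyb]
    omega
  rw [hsum, hb] at h1
  have hb0 : 0 < r * b := by
    rw [← hb]
    have : a ≤ a ^ c := Nat.le_self_pow (Nat.pos_of_mul_pos_left hn).ne' a
    omega
  exact not_sq_dvd hr hodd (hsq.trans (Nat.dvd_of_mul_dvd_mul_right hb0 h1))

/-- Zsigmondy's theorem. -/
theorem exists_primitive_prime {a n : ℕ} (ha : 2 ≤ a) (hn : 3 ≤ n) (hex : ¬ (a = 2 ∧ n = 6)) :
    ∃ r : ℕ, r.Prime ∧ orderOf (a : ZMod r) = n := by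
  by_contra! hbad
  set N := cycVal n a with hN
  have hbd : (a - 1) ^ n.totient < N :=
    sub_one_pow_totient_lt_natAbs_cyclotomic_eval (by omega) (by omega)
  -- every prime divisor of the value divides `n` and is its largest prime divisor
  have hprime : ∀ r : ℕ, r.Prime → r ∣ N → r ∣ n ∧ ∀ q : ℕ, q.Prime → q ∣ n → q ≠ r → q < r := by
    intro r hr hrN
    have : Fact r.Prime := ⟨hr⟩
    obtain ⟨k, m, hm, he⟩ := Nat.exists_eq_pow_mul_and_not_dvd (by omega : n ≠ 0) r hr.ne_one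
    have ho := orderOf_of_dvd (by omega) hrN he hm
    refine ⟨?_, fun q hq hqn hqr => ?_⟩
    · rcases Nat.eq_zero_or_pos k with rfl | hk
      · exact absurd (ho.trans (by rw [he, pow_zero, one_mul])) (hbad r hr)
      · rw [he]
        exact Dvd.dvd.mul_right (dvd_pow_self r hk.ne') m
    · have hqm : q ∣ m := by
        rw [he] at hqn
        exact (hq.dvd_mul.1 hqn).resolve_left fun h =>
          hqr ((Nat.prime_dvd_prime_iff_eq hq hr).1 (hq.dvd_of_dvd_pow h))
      have ha0 : (a : ZMod r) ≠ 0 := by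
        intro e
        rw [e] at ho
        simp only [orderOf_zero] at ho
        rw [← ho] at hm
        exact hm (dvd_zero r)
      have h1 : m ∣ r - 1 := ho ▸ ZMod.orderOf_dvd_card_sub_one ha0
      have := Nat.le_of_dvd (by have := hr.two_le; omega) (hqm.trans h1)
      have := hr.two_le
      omega
  obtain ⟨r, hr, hrN⟩ := Nat.exists_prime_and_dvd (n := N) (by
    have : 1 ≤ (a - 1) ^ n.totient := Nat.one_le_pow _ _ (by omega)
    omega)
  have : Fact r.Prime := ⟨hr⟩
  obtain ⟨hrn, hbig⟩ := hprime r hr hrN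
  have huniq : ∀ q : ℕ, q.Prime → q ∣ N → q = r := fun q hq hqN => by
    by_contra hne
    exact absurd (hbig q hq (hprime q hq hqN).1 hne)
      (not_lt.2 ((hprime q hq hqN).2 r hr hrn (Ne.symm hne)).le)
  -- `N = r`
  have hNr : N = r := by
    obtain ⟨c, hc⟩ := hrN
    by_contra hne
    have hc1 : c ≠ 1 := fun e => hne (by rw [hc, e, mul_one])
    obtain ⟨q, hq, hqc⟩ := Nat.exists_prime_and_dvd hc1
    have hqr := huniq q hq (hc ▸ Dvd.dvd.mul_left hqc r)
    rw [hqr] at hqc
    have hsq : r ^ 2 ∣ N := by rw [hc, sq]; exact mul_dvd_mul_left r hqc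
    rcases hr.eq_two_or_odd' with rfl | hodd
    · -- a power of two: the value is `a ^ (n / 2) + 1`
      obtain ⟨k, m, hm, he⟩ := Nat.exists_eq_pow_mul_and_not_dvd (by omega : n ≠ 0) 2 (by omega)
      have hm1 : m = 1 := by
        by_contra hm1
        obtain ⟨q, hq, hqm⟩ := Nat.exists_prime_and_dvd hm1
        have := hbig q hq (he ▸ Dvd.dvd.mul_left hqm _) fun e => hm (e ▸ hqm)
        have := hq.two_le
        omega
      rw [hm1, mul_one] at he
      obtain ⟨j, rfl⟩ : ∃ j, k = j + 2 := ⟨k - 2, by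
        rcases k with _ | _ | k
        · omega
        · omega
        · omega⟩
      have hval : N = a ^ 2 ^ (j + 1) + 1 := by
        rw [hN, cycVal, he, cyclotomic_prime_pow_eq_geom_sum Nat.prime_two]
        simp [Finset.sum_range_succ, add_comm]
        rfl
      rw [hval, pow_succ 2 j, pow_mul] at hsq
      have h4 : ∀ x : ZMod 4, x ^ 2 + 1 ≠ 0 := by decide
      refine h4 ((a ^ 2 ^ j : ℕ) : ZMod 4) ?_
      have h5 := (ZMod.natCast_eq_zero_iff _ 4).2 hsq
      push_cast at h5 ⊢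
      exact h5
    · exact not_sq_dvd_cycVal (by omega) ha (Dvd.intro c hc.symm) hrn hodd hsq
  rw [hNr] at hbd
  obtain ⟨k, m, hm, he⟩ := Nat.exists_eq_pow_mul_and_not_dvd (by omega : n ≠ 0) r hr.ne_one
  rcases Nat.lt_or_ge 2 a with ha3 | ha2
  · -- `a ≥ 3`
    have h1 : r - 1 ∣ n.totient := by
      have := Nat.totient_dvd_of_dvd hrn
      rwa [Nat.totient_prime hr] at this
    have h2 : r - 1 ≤ n.totient := Nat.le_of_dvd (Nat.totient_pos.2 (by omega)) h1
    have h3 : 2 ^ (r - 1) ≤ (a - 1) ^ n.totient :=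
      le_trans (Nat.pow_le_pow_right (by omega) h2) (Nat.pow_le_pow_left (by omega) _)
    have h4 : r - 1 < 2 ^ (r - 1) := Nat.lt_two_pow_self
    omega
  obtain rfl : a = 2 := by omega
  have ho := orderOf_of_dvd (by omega) (hN ▸ hrN : r ∣ cycVal n 2) he hm
  have hr3 : 3 ≤ r := by
    by_contra hlt
    obtain rfl : r = 2 := by have := hr.two_le; omega
    have : ((2 : ℕ) : ZMod 2) = 0 := ZMod.natCast_self 2
    rw [this, orderOf_zero] at ho
    exact hm (ho ▸ dvd_zero 2)
  have hr2r : r < 2 ^ r := Nat.lt_two_pow_self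
  have hk : k ≠ 0 := by
    rintro rfl
    rw [pow_zero, one_mul] at he
    exact hm (he ▸ hrn)
  obtain ⟨k', rfl⟩ : ∃ k', k = k' + 1 := ⟨k - 1, by omega⟩
  have hm0 : 0 < m := Nat.pos_of_ne_zero fun e => hm (e ▸ dvd_zero r)
  have hexp : ∀ c : ℕ, (expand ℤ r (cyclotomic c ℤ)).eval ((2 : ℕ) : ℤ) =
      (cyclotomic c ℤ).eval ((2 ^ r : ℕ) : ℤ) := fun c => by
    rw [expand_eval]; push_cast; rfl
  rcases Nat.eq_zero_or_pos k' with rfl | hk'
  · -- `r` divides `n` exactly once
    rw [zero_add, pow_one] at he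
    have hfac : cycVal m (2 ^ r) = r * cycVal m 2 := by
      have h1 : cycVal m (2 ^ r) = cycVal n 2 * cycVal m 2 := by
        rw [cycVal, cycVal, cycVal, ← Int.natAbs_mul, ← hexp,
          cyclotomic_expand_eq_cyclotomic_mul hr hm, eval_mul, he, mul_comm m r]
      rw [h1, ← hN, hNr]
    have hm2 : 2 ≤ m := by
      by_contra hlt
      obtain rfl : m = 1 := by omega
      have h21 := orderOf_eq_one_iff.1 ho
      have : ((1 : ℕ) : ZMod r) = 0 := by
        push_cast at h21 ⊢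
        linear_combination h21
      rw [ZMod.natCast_eq_zero_iff] at this
      exact absurd (Nat.le_of_dvd one_pos this) (by omega)
    rcases Nat.lt_or_ge 2 m with hm3 | hm2'
    · have hlow : (2 ^ r - 1) ^ m.totient < cycVal m (2 ^ r) :=
        sub_one_pow_totient_lt_natAbs_cyclotomic_eval (by omega) (by omega)
      rw [hfac] at hlow
      have hup : cycVal m 2 ≤ 2 ^ m - 1 := by
        have h1 := cycVal_mul_dvd (n := m) (a := 2) (d := 1) (by omega)
          (Nat.mem_properDivisors.2 ⟨one_dvd _, by omega⟩)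
        rw [pow_one, show (2 - 1 : ℕ) = 1 from rfl, mul_one] at h1
        exact Nat.le_of_dvd (by have : 2 ≤ 2 ^ m := Nat.le_self_pow (by omega) 2; omega) h1
      have hφ : 2 ≤ m.totient := by
        rcases Nat.totient_even (by omega : 2 < m) with ⟨t, ht⟩
        have := Nat.totient_pos.2 hm0
        omega
      have ha0 : ((2 : ℕ) : ZMod r) ≠ 0 := by
        rw [Ne, ZMod.natCast_eq_zero_iff]
        exact fun h => absurd (Nat.le_of_dvd two_pos h) (by omega)
      have hmr : m ≤ r - 1 := Nat.le_of_dvd (by omega) (ho ▸ ZMod.orderOf_dvd_card_sub_one ha0)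
      have h1 : (2 ^ r - 1) ^ 2 ≤ (2 ^ r - 1) ^ m.totient :=
        Nat.pow_le_pow_right (by omega) hφ
      have h2 : 2 ^ m ≤ 2 ^ (r - 1) := Nat.pow_le_pow_right (by omega) hmr
      have h3 : 2 ^ r = 2 * 2 ^ (r - 1) := by
        rw [← pow_succ', Nat.sub_add_cancel (by omega)]
      have h4 : r * cycVal m 2 ≤ (2 ^ r - 1) * (2 ^ r - 1) := Nat.mul_le_mul (by omega) (by omega)
      rw [sq] at h1
      omega
    · obtain rfl : m = 2 := by omega
      have h1 : cycVal 2 (2 ^ r) = 2 ^ r + 1 := by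
        rw [cycVal, cyclotomic_two, eval_add, eval_X, eval_one]
        omega
      have h2 : cycVal 2 2 = 3 := by
        rw [cycVal, cyclotomic_two, eval_add, eval_X, eval_one]
        rfl
      rw [h1, h2] at hfac
      rcases Nat.lt_or_ge 3 r with hr4 | hr3'
      · have : ∀ j, 4 ≤ j → 3 * j < 2 ^ j := by
          intro j hj
          induction j, hj using Nat.le_induction with
          | base => norm_num
          | succ j hj ih => rw [pow_succ]; omega
        have := this r hr4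
        omega
      · exact hex ⟨rfl, by rw [he, show r = 3 by omega]⟩
  · -- `r ^ 2` divides `n`
    have hne : cyclotomic n ℤ = expand ℤ r (cyclotomic (r ^ k' * m) ℤ) := by
      rw [cyclotomic_expand_eq_cyclotomic hr (Dvd.dvd.mul_right (dvd_pow_self r hk'.ne') m), he]
      congr 1
      ring
    have hlow : (2 ^ r - 1) ^ (r ^ k' * m).totient < cycVal (r ^ k' * m) (2 ^ r) := by
      refine sub_one_pow_totient_lt_natAbs_cyclotomic_eval ?_ (by omega)
      have : r ≤ r ^ k' * m := le_trans (Nat.le_self_pow hk'.ne' r) (Nat.le_mul_of_pos_right _ hm0)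
      omega
    have hval : cycVal (r ^ k' * m) (2 ^ r) = r := by
      have h1 : cycVal (r ^ k' * m) (2 ^ r) = cycVal n 2 := by rw [cycVal, cycVal, hne, hexp]
      rw [h1, ← hN, hNr]
    rw [hval] at hlow
    have h1 : 2 ^ r - 1 ≤ (2 ^ r - 1) ^ (r ^ k' * m).totient :=
      Nat.le_self_pow (Nat.totient_pos.2 (by positivity)).ne' _
    omega

end CfsgLib.Recog.ZsigmondyPrime
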