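import Cfsg.Agent.Lib.Recog.IcosahedralPresentation
import Cfsg.Agent.Lib.Recog.OrderSixty
import Cfsg.Agent.Lib.Perm.Zass.SLFive

/-!
Presentations of the alternating group of degree five and of `SL(2,5)`, and recognition of
`SL(2,5)` among the groups of order 120.
-/

set_option autoImplicit false

namespace CfsgLib.Recog

open Subgroup

/-- A subgroup of a perfect group of order `n` containing elements of two orders with least common
multiple at least `n / 2` is everything. -/
theorem eq_top_of_perfect {G : Type*} [Group G] [Finite G] (hG : commutator G = ⊤) {H : Subgroup G}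
    (h : H.index ≤ 2) : H = ⊤ := by
  have h0 := H.index_ne_zero_of_finite
  interval_cases hi : H.index
  · omega
  · exact index_eq_one.1 hi
  · exfalso
    haveI := normal_of_index_eq_two hi
    haveI : Fact (Nat.Prime 2) := ⟨Nat.prime_two⟩
    haveI : IsCyclic (G ⧸ H) := isCyclic_of_prime_card (p := 2) (by rw [← index_eq_card, hi])
    have hle : commutator G ≤ H := by
      rw [commutator_eq_closure, closure_le]
      rintro _ ⟨a, b, rfl⟩
      rw [SetLike.mem_coe, ← QuotientGroup.eq_one_iff, ← QuotientGroup.mk'_apply,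
        map_commutatorElement, commutatorElement_eq_one_iff_mul_comm]
      exact (IsCyclic.commGroup (α := G ⧸ H)).mul_comm _ _
    rw [hG, top_le_iff] at hle
    rw [hle, index_top] at hi
    omega

theorem card_alternating_five : Nat.card (alternatingGroup (Fin 5)) = 60 := by
  rw [nat_card_alternatingGroup, Nat.card_fin]; rfl

theorem commutator_alternating_five : commutator (alternatingGroup (Fin 5)) = ⊤ := by
  haveI := alternatingGroup.isSimpleGroup_five
  refine (IsSimpleGroup.eq_bot_or_eq_top_of_normal _ inferInstance).resolve_left fun h => ?_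
  have hc : ∀ a b : alternatingGroup (Fin 5), a * b = b * a := fun a b => by
    rw [← commutatorElement_eq_one_iff_mul_comm, ← mem_bot, ← h]
    exact commutator_mem_commutator (mem_top a) (mem_top b)
  let x : alternatingGroup (Fin 5) := ⟨Equiv.swap 0 1 * Equiv.swap 1 2, Equiv.Perm.mem_alternatingGroup.2 (by decide)⟩
  let y : alternatingGroup (Fin 5) := ⟨Equiv.swap 0 1 * Equiv.swap 1 3, Equiv.Perm.mem_alternatingGroup.2 (by decide)⟩
  exact absurd (congrArg (fun g : alternatingGroup (Fin 5) => (g : Equiv.Perm (Fin 5))) (hc x y))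
    (by decide)

/-- The presentation `⟨x, y | x³, y⁵, (xy)²⟩` of the alternating group of degree five. -/
theorem presentation_alternating_five :
    Nonempty (PresentedGroup ({FreeGroup.of (0 : Fin 2) ^ 3, FreeGroup.of (1 : Fin 2) ^ 5,
      (FreeGroup.of (0 : Fin 2) * FreeGroup.of 1) ^ 2} : Set (FreeGroup (Fin 2))) ≃*
        alternatingGroup (Fin 5)) := by
  set rels : Set (FreeGroup (Fin 2)) := {FreeGroup.of (0 : Fin 2) ^ 3, FreeGroup.of (1 : Fin 2) ^ 5,
      (FreeGroup.of (0 : Fin 2) * FreeGroup.of 1) ^ 2} with hrels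
  let X : Fin 2 → PresentedGroup rels := PresentedGroup.of
  have hrel : ∀ r ∈ rels, PresentedGroup.mk rels r = 1 := fun r hr => PresentedGroup.one_of_mem hr
  obtain ⟨hfin, hle⟩ := card_le_sixty_of_relations (X 0) (X 1)
    (by simpa [map_pow, PresentedGroup.of, X] using hrel _ (Or.inl rfl))
    (by simpa [map_pow, PresentedGroup.of, X] using hrel _ (Or.inr (Or.inl rfl)))
    (by simpa [map_pow, map_mul, PresentedGroup.of, X] using hrel _ (Or.inr (Or.inr rfl)))
    (by
      rw [← PresentedGroup.closure_range_of rels]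
      congr 1
      ext g; simp [X, Fin.exists_fin_two, eq_comm])
  let a : Fin 2 → alternatingGroup (Fin 5) :=
    ![⟨Equiv.swap 0 1 * Equiv.swap 1 2, Equiv.Perm.mem_alternatingGroup.2 (by decide)⟩,
      ⟨(Equiv.swap 0 1 * Equiv.swap 1 2)⁻¹ * (Equiv.swap 0 3 * Equiv.swap 1 4), Equiv.Perm.mem_alternatingGroup.2 (by decide)⟩]
  have e0 : a 0 ^ 3 = 1 := by decide
  have e1 : a 1 ^ 5 = 1 := by decide
  have e2 : (a 0 * a 1) ^ 2 = 1 := by decide
  let φ : PresentedGroup rels →* alternatingGroup (Fin 5) := PresentedGroup.toGroup (f := a) (by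
    rw [hrels]
    rintro r (rfl | rfl | rfl) <;>
      simp only [map_pow, map_mul, FreeGroup.lift_apply_of, e0, e1, e2])
  have hof : ∀ i, a i ∈ φ.range := fun i => ⟨PresentedGroup.of i, PresentedGroup.toGroup.of _⟩
  have h2 : orderOf (a 0 * a 1) = 2 := orderOf_eq_prime (p := 2) e2 (by decide)
  haveI : Fact (Nat.Prime 3) := ⟨Nat.prime_three⟩
  haveI : Fact (Nat.Prime 5) := ⟨Nat.prime_five⟩
  have h3 : orderOf (a 0) = 3 := orderOf_eq_prime e0 (by decide)
  have h5 : orderOf (a 1) = 5 := orderOf_eq_prime e1 (by decide)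
  have d2 := h2 ▸ φ.range.orderOf_dvd_natCard (mul_mem (hof 0) (hof 1))
  have d3 := h3 ▸ φ.range.orderOf_dvd_natCard (hof 0)
  have d5 := h5 ▸ φ.range.orderOf_dvd_natCard (hof 1)
  have hm := φ.range.card_mul_index
  rw [card_alternating_five] at hm
  have hsurj : φ.range = ⊤ := eq_top_of_perfect commutator_alternating_five (by
    have h30 : 30 ∣ Nat.card φ.range := by omega
    have := Nat.le_of_dvd Nat.card_pos h30
    nlinarith)
  haveI := hfin
  refine ⟨MulEquiv.ofBijective φ ((Nat.bijective_iff_surjective_and_card φ).2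
    ⟨MonoidHom.range_eq_top.1 hsurj, le_antisymm ?_ ?_⟩)⟩
  · rw [card_alternating_five]; exact hle
  · exact Nat.card_le_card_of_surjective φ (MonoidHom.range_eq_top.1 hsurj)

/-- The presentation of `SL(2,5)` as a double cover. -/
theorem presentation_SL_five :
    Nonempty (PresentedGroup ({FreeGroup.of (0 : Fin 3) ^ 3, FreeGroup.of (1 : Fin 3) ^ 5,
        FreeGroup.of (2 : Fin 3) ^ 2,
        (FreeGroup.of (2 : Fin 3))⁻¹ * FreeGroup.of 0 * FreeGroup.of 2 * (FreeGroup.of (0 : Fin 3))⁻¹,
        (FreeGroup.of (2 : Fin 3))⁻¹ * FreeGroup.of 1 * FreeGroup.of 2 * (FreeGroup.of (1 : Fin 3))⁻¹,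
        (FreeGroup.of (0 : Fin 3) * FreeGroup.of 1) ^ 2 * (FreeGroup.of (2 : Fin 3))⁻¹} :
          Set (FreeGroup (Fin 3))) ≃* Matrix.SpecialLinearGroup (Fin 2) (ZMod 5)) := by
  set rels : Set (FreeGroup (Fin 3)) := {FreeGroup.of (0 : Fin 3) ^ 3, FreeGroup.of (1 : Fin 3) ^ 5,
      FreeGroup.of (2 : Fin 3) ^ 2,
      (FreeGroup.of (2 : Fin 3))⁻¹ * FreeGroup.of 0 * FreeGroup.of 2 * (FreeGroup.of (0 : Fin 3))⁻¹,
      (FreeGroup.of (2 : Fin 3))⁻¹ * FreeGroup.of 1 * FreeGroup.of 2 * (FreeGroup.of (1 : Fin 3))⁻¹,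
      (FreeGroup.of (0 : Fin 3) * FreeGroup.of 1) ^ 2 * (FreeGroup.of (2 : Fin 3))⁻¹} with hrels
  let X : Fin 3 → PresentedGroup rels := PresentedGroup.of
  have hrel : ∀ r ∈ rels, PresentedGroup.mk rels r = 1 := fun r hr => PresentedGroup.one_of_mem hr
  have hx : X 0 ^ 3 = 1 := by simpa [PresentedGroup.of, X] using hrel _ (Or.inl rfl)
  have hy : X 1 ^ 5 = 1 := by simpa [PresentedGroup.of, X] using hrel _ (Or.inr (Or.inl rfl))
  have hz : X 2 ^ 2 = 1 := by simpa [PresentedGroup.of, X] using hrel _ (Or.inr (Or.inr (Or.inl rfl)))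
  have hzx : (X 2)⁻¹ * X 0 * X 2 * (X 0)⁻¹ = 1 := by
    simpa [PresentedGroup.of, X] using hrel _ (Or.inr (Or.inr (Or.inr (Or.inl rfl))))
  have hzy : (X 2)⁻¹ * X 1 * X 2 * (X 1)⁻¹ = 1 := by
    simpa [PresentedGroup.of, X] using hrel _ (Or.inr (Or.inr (Or.inr (Or.inr (Or.inl rfl)))))
  have hxy : (X 0 * X 1) ^ 2 * (X 2)⁻¹ = 1 := by
    simpa [PresentedGroup.of, X] using hrel _ (Or.inr (Or.inr (Or.inr (Or.inr (Or.inr rfl)))))
  have hcomm : ∀ a : PresentedGroup rels, a * X 2 = X 2 * a := by
    have hle : closure (Set.range X) ≤ centralizer {X 2} := by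
      rw [closure_le]
      rintro _ ⟨i, rfl⟩
      rw [SetLike.mem_coe, mem_centralizer_singleton_iff]
      fin_cases i
      · rw [mul_inv_eq_one, mul_assoc, inv_mul_eq_iff_eq_mul] at hzx
        exact hzx
      · rw [mul_inv_eq_one, mul_assoc, inv_mul_eq_iff_eq_mul] at hzy
        exact hzy
      · rfl
    intro a
    exact mem_centralizer_singleton_iff.1 (hle (PresentedGroup.closure_range_of rels ▸ mem_top a))
  set Z := zpowers (X 2) with hZ
  haveI : Z.Normal := ⟨fun n hn g => by
    obtain ⟨k, rfl⟩ := mem_zpowers_iff.1 hn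
    rw [((Commute.zpow_right (hcomm g) k)).eq, mul_inv_cancel_right]
    exact zpow_mem (mem_zpowers _) k⟩
  let π := QuotientGroup.mk' Z
  have hz1 : π (X 2) = 1 := (QuotientGroup.eq_one_iff _).2 (mem_zpowers _)
  obtain ⟨hfinQ, hleQ⟩ := card_le_sixty_of_relations (π (X 0)) (π (X 1))
    (by rw [← map_pow, hx, map_one]) (by rw [← map_pow, hy, map_one])
    (by rw [← map_mul, ← map_pow, mul_inv_eq_one.1 hxy, hz1])
    (by
      rw [← top_le_iff, ← map_top_of_surjective π (QuotientGroup.mk'_surjective Z),
        ← PresentedGroup.closure_range_of rels, MonoidHom.map_closure, closure_le]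
      rintro _ ⟨_, ⟨i, rfl⟩, rfl⟩
      fin_cases i
      · exact subset_closure (by simp [X])
      · exact subset_closure (by simp [X])
      · change π (X 2) ∈ _
        rw [hz1]; exact one_mem _)
  have hZ2 : Nat.card Z ≤ 2 := by
    rw [hZ, Nat.card_zpowers]
    exact Nat.le_of_dvd (by norm_num) (orderOf_dvd_of_pow_eq_one hz)
  haveI : Finite Z := Nat.finite_of_card_ne_zero (by
    rw [hZ, Nat.card_zpowers]
    intro h
    have := orderOf_dvd_of_pow_eq_one hz
    rw [h] at this
    norm_num at this)
  have hcard := card_eq_card_quotient_mul_card_subgroup Z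
  haveI : Finite (PresentedGroup rels) := Nat.finite_of_card_ne_zero (by
    rw [hcard]; exact mul_ne_zero Nat.card_pos.ne' Nat.card_pos.ne')
  have hle : Nat.card (PresentedGroup rels) ≤ 120 := hcard ▸ Nat.mul_le_mul hleQ hZ2
  let a : Fin 3 → Matrix.SpecialLinearGroup (Fin 2) (ZMod 5) :=
    ![⟨!![0, -1; 1, -1], by decide⟩, ⟨!![1, 1; 0, 1], by decide⟩, ⟨!![-1, 0; 0, -1], by decide⟩]
  let φ : PresentedGroup rels →* Matrix.SpecialLinearGroup (Fin 2) (ZMod 5) :=
    PresentedGroup.toGroup (f := a) (by
      rintro r (rfl | rfl | rfl | rfl | rfl | rfl) <;>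
        simp only [map_pow, map_mul, map_inv, FreeGroup.lift_apply_of] <;> decide)
  have hof : ∀ i, a i ∈ φ.range := fun i => ⟨PresentedGroup.of i, PresentedGroup.toGroup.of _⟩
  haveI : Fact (Nat.Prime 3) := ⟨Nat.prime_three⟩
  haveI : Fact (Nat.Prime 5) := ⟨Nat.prime_five⟩
  have h3 : orderOf (a 0) = 3 := orderOf_eq_prime (by decide) (by decide)
  have h5 : orderOf (a 1) = 5 := orderOf_eq_prime (by decide) (by decide)
  have h4 : orderOf (a 0 * a 1) = 2 ^ (1 + 1) := orderOf_eq_prime_pow (by decide) (by decide)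
  have d4 := h4 ▸ φ.range.orderOf_dvd_natCard (mul_mem (hof 0) (hof 1))
  have d3 := h3 ▸ φ.range.orderOf_dvd_natCard (hof 0)
  have d5 := h5 ▸ φ.range.orderOf_dvd_natCard (hof 1)
  have hm := φ.range.card_mul_index
  rw [CfsgLib.Perm.Zass.card_SL_five] at hm
  have hsurj : φ.range = ⊤ := eq_top_of_perfect CfsgLib.Perm.Zass.commutator_SL_five (by
    have h60 : 60 ∣ Nat.card φ.range := by omega
    have := Nat.le_of_dvd Nat.card_pos h60
    nlinarith)
  refine ⟨MulEquiv.ofBijective φ ((Nat.bijective_iff_surjective_and_card φ).2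
    ⟨MonoidHom.range_eq_top.1 hsurj, le_antisymm ?_ ?_⟩)⟩
  · rw [CfsgLib.Perm.Zass.card_SL_five]; exact hle
  · exact Nat.card_le_card_of_surjective φ (MonoidHom.range_eq_top.1 hsurj)

/-- A non-solvable group of order 120 with quaternion Sylow 2-subgroups is `SL(2,5)`. -/
theorem mulEquiv_SL_five_of_quaternion {G : Type*} [Group G] [Finite G] (hG : Nat.card G = 120)
    (hns : ¬ Group.IsSolvable G)
    (hQ : ∀ P : Sylow 2 G, Nonempty ((P : Subgroup G) ≃* QuaternionGroup 2)) :
    Nonempty (G ≃* Matrix.SpecialLinearGroup (Fin 2) (ZMod 5)) := by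
  haveI : Fact (Nat.Prime 2) := ⟨Nat.prime_two⟩
  have hno : ∀ a b : G, a * a = 1 → b * b = 1 → a * b = b * a → a ≠ 1 → b ≠ 1 → a = b := by
    intro a b ha hb hab ha1 hb1
    set S := closure ({a, b} : Set G) with hS
    have hgen : ∀ g ∈ ({a, b} : Set G), g * g = 1 := by rintro g (rfl | rfl) <;> assumption
    have hcomm : IsMulCommutative S := isMulCommutative_closure (by
      rintro u (rfl | rfl) v (rfl | rfl) <;> first | rfl | exact hab | exact hab.symm)
    have hexp : ∀ g ∈ S, g * g = 1 := by
      intro g hg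
      induction hg using closure_induction with
      | mem g hg => exact hgen g hg
      | one => exact one_mul 1
      | mul u v hu hv hu2 hv2 =>
        rw [(Commute.mul_mul_mul_comm (congrArg Subtype.val (mul_comm' (⟨v, hv⟩ : S) ⟨u, hu⟩)) u v),
          hu2, hv2, one_mul]
      | inv u _ hu2 => rw [← mul_inv_rev, hu2, inv_one]
    have hp : IsPGroup 2 S := fun g => ⟨1, Subtype.ext (by simpa [sq] using hexp g g.2)⟩
    obtain ⟨P, hP⟩ := hp.exists_le_sylow
    obtain ⟨e⟩ := hQ P
    have key : ∀ u v : QuaternionGroup 2, u * u = 1 → v * v = 1 → u ≠ 1 → v ≠ 1 → u = v := by decide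
    have haP : a ∈ P := hP (subset_closure (by simp))
    have hbP : b ∈ P := hP (subset_closure (by simp))
    have h := key (e ⟨a, haP⟩) (e ⟨b, hbP⟩)
      (by rw [← map_mul, ← map_one e]; exact congrArg e (Subtype.ext ha))
      (by rw [← map_mul, ← map_one e]; exact congrArg e (Subtype.ext hb))
      (fun h => ha1 (congrArg Subtype.val (e.injective (h.trans (map_one e).symm))))
      (fun h => hb1 (congrArg Subtype.val (e.injective (h.trans (map_one e).symm))))
    exact congrArg Subtype.val (e.injective h)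
  have hno60 : ∀ H : Subgroup G, ¬ Nonempty (H ≃* alternatingGroup (Fin 5)) := by
    rintro H ⟨e⟩
    let a : alternatingGroup (Fin 5) := ⟨Equiv.swap 0 1 * Equiv.swap 2 3, Equiv.Perm.mem_alternatingGroup.2 (by decide)⟩
    let b : alternatingGroup (Fin 5) := ⟨Equiv.swap 0 2 * Equiv.swap 1 3, Equiv.Perm.mem_alternatingGroup.2 (by decide)⟩
    have hinj := Subtype.val_injective.comp e.symm.injective
    refine absurd (hinj (hno (e.symm a) (e.symm b) ?_ ?_ ?_ ?_ ?_)) (by decide)
    · rw [← coe_mul, ← map_mul, show a * a = 1 by decide, map_one, coe_one]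
    · rw [← coe_mul, ← map_mul, show b * b = 1 by decide, map_one, coe_one]
    · rw [← coe_mul, ← map_mul, show a * b = b * a by decide, map_mul, coe_mul]
    · exact fun h => absurd (hinj (h.trans (by simp) : (e.symm a : G) = e.symm 1)) (by decide)
    · exact fun h => absurd (hinj (h.trans (by simp) : (e.symm b : G) = e.symm 1)) (by decide)
  have hsimple : ∀ {K : Type _} [Group K] [Finite K], Nat.card K = 60 → ¬ Group.IsSolvable K →
      Nonempty (K ≃* alternatingGroup (Fin 5)) := by
    intro K _ _ hK hK'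
    obtain ⟨P⟩ : Nonempty (Sylow 5 K) := inferInstance
    haveI : Nontrivial K := Finite.one_lt_card_iff_nontrivial.1 (by omega)
    haveI : IsSimpleGroup K := by
      refine ⟨fun N hN => ?_⟩
      by_contra hall
      push_neg at hall
      haveI := hN
      have h1 := N.card_mul_index
      have hN2 : 1 < Nat.card N := (one_lt_card_iff_ne_bot N).2 hall.1
      have hi : 1 < N.index := one_lt_index_of_ne_top hall.2
      haveI := isSolvable_of_card_lt_sixty (G := N) (by nlinarith)
      haveI := isSolvable_of_card_lt_sixty (G := K ⧸ N) (by rw [← index_eq_card]; nlinarith)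
      exact hK' (Group.isSolvable_of_ker_le_range N.subtype (QuotientGroup.mk' N) (by simp))
    exact CfsgLib.Small.equiv_alternating_five hK
  obtain ⟨N, hN, hb, ht⟩ : ∃ N : Subgroup G, N.Normal ∧ N ≠ ⊥ ∧ N ≠ ⊤ := by
    by_contra hall
    push_neg at hall
    haveI : Nontrivial G := Finite.one_lt_card_iff_nontrivial.1 (by omega)
    haveI : IsSimpleGroup G := ⟨fun N hN => or_iff_not_imp_left.2 (hall N hN)⟩
    have hnc : ¬ IsMulCommutative G := fun h => hns (isSolvable_of_comm fun a b => h.is_comm.comm a b)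
    obtain ⟨P⟩ : Nonempty (Sylow 5 G) := inferInstance
    haveI : Fact (Nat.Prime 5) := ⟨Nat.prime_five⟩
    obtain ⟨H, hH⟩ : ∃ H : Subgroup G, H.index = 6 := by
      refine ⟨normalizer ((P : Subgroup G) : Set G), ?_⟩
      rw [show (normalizer ((P : Subgroup G) : Set G)).index = Nat.card (Sylow 5 G) from
        P.card_eq_index_normalizer.symm]
      have hd := P.card_dvd_index
      have hc : Nat.card (P : Subgroup G) = 5 := by
        rw [P.card_eq_multiplicity, hG, show (120 : ℕ) = 5 * 24 from rfl,
          Nat.factorization_mul (by norm_num) (by norm_num), Finsupp.add_apply,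
          Nat.Prime.factorization_self Nat.prime_five,
          Nat.factorization_eq_zero_of_not_dvd (by norm_num), add_zero, pow_one]
      have h3 := (P : Subgroup G).card_mul_index
      rw [hc, hG] at h3
      rw [show (P : Subgroup G).index = 24 by omega] at hd
      have hm : Nat.card (Sylow 5 G) % 5 = 1 := card_sylow_modEq_one 5 G
      have hne : Nat.card (Sylow 5 G) ≠ 1 := by
        intro h
        haveI : Subsingleton (Sylow 5 G) := (Nat.card_eq_one_iff_unique.1 h).1
        rcases IsSimpleGroup.eq_bot_or_eq_top_of_normal _ P.normal_of_subsingleton with h' | h' <;>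
          rw [h'] at hc <;> simp [hG] at hc
      have := Nat.le_of_dvd (by norm_num) hd
      interval_cases Nat.card (Sylow 5 G) <;> omega
    obtain ⟨f, hf⟩ := CfsgLib.Small.exists_embedding_alternating hnc H (fun h => by simp [h] at hH)
    have hA : Nat.card (alternatingGroup (Fin H.index)) = 360 := by
      rw [hH, nat_card_alternatingGroup, Nat.card_fin]; rfl
    have h3 := f.range.card_mul_index
    rw [hA, Nat.card_congr (MonoidHom.ofInjective hf).toEquiv.symm, hG] at h3
    haveI : IsSimpleGroup (alternatingGroup (Fin H.index)) :=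
      alternatingGroup.isSimpleGroup (by rw [hH]; simp)
    have hnc6 : ¬ IsMulCommutative (alternatingGroup (Fin H.index)) := fun h =>
      hnc ⟨⟨fun a b => hf (by rw [map_mul, map_mul]; exact h.is_comm.comm _ _)⟩⟩
    obtain ⟨g, hg⟩ := CfsgLib.Small.exists_embedding_alternating hnc6 f.range
      (fun h => by simp [h] at h3)
    have := Nat.card_le_card_of_injective g hg
    rw [hA, show f.range.index = 3 by omega, nat_card_alternatingGroup, Nat.card_fin] at this
    exact absurd this (by decide)
  haveI := hN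
  have h1 := N.card_mul_index
  rw [hG] at h1
  have hN2 : 1 < Nat.card N := (one_lt_card_iff_ne_bot N).2 hb
  have hi : 1 < N.index := one_lt_index_of_ne_top ht
  by_cases hNs : Group.IsSolvable N
  · have hQs : ¬ Group.IsSolvable (G ⧸ N) := fun h => hns <| by
      haveI := h
      haveI := hNs
      exact Group.isSolvable_of_ker_le_range N.subtype (QuotientGroup.mk' N) (by simp)
    have hQc : 60 ≤ N.index := by
      by_contra h
      exact hQs (isSolvable_of_card_lt_sixty (by rw [← index_eq_card]; omega))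
    have hidx : N.index = 60 := by nlinarith
    obtain ⟨e⟩ := hsimple (K := G ⧸ N) (by rw [← index_eq_card, hidx]) hQs
    let fA : G →* alternatingGroup (Fin 5) := e.toMonoidHom.comp (QuotientGroup.mk' N)
    have hfA : Function.Surjective fA := e.surjective.comp (QuotientGroup.mk'_surjective N)
    refine CfsgLib.Perm.Zass.mulEquiv_SL_five ?_ hG fA hfA
    by_contra hne
    have hmap : (commutator G).map fA = ⊤ := by
      rw [_root_.commutator_def, map_commutator, map_top_of_surjective fA hfA, ← _root_.commutator_def,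
        commutator_alternating_five]
    have hcard : Nat.card (commutator G) = 60 := by
      have hd := card_map_dvd (commutator G) fA
      rw [hmap, card_top, card_alternating_five] at hd
      have h2 := (commutator G).card_mul_index
      rw [hG] at h2
      have hi2 : 1 < (commutator G).index := one_lt_index_of_ne_top hne
      have := Nat.le_of_dvd Nat.card_pos hd
      nlinarith
    refine hno60 (commutator G) ⟨MulEquiv.ofBijective (fA.comp (commutator G).subtype)
      ((Nat.bijective_iff_surjective_and_card _).2 ⟨fun y => ?_, by rw [hcard, card_alternating_five]⟩)⟩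
    obtain ⟨x, hx, rfl⟩ : y ∈ (commutator G).map fA := hmap ▸ mem_top y
    exact ⟨⟨x, hx⟩, rfl⟩
  · have hc : 60 ≤ Nat.card N := by
      by_contra h
      exact hNs (isSolvable_of_card_lt_sixty (by omega))
    exact absurd (hsimple (by nlinarith) hNs) (hno60 N)

end CfsgLib.Recog
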