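import Mathlib

/-!
Element orders of small alternating and symmetric groups through cycle types.
-/

set_option autoImplicit false

namespace CfsgLib.Recog

theorem orderOf_eq_lcm_partition {α : Type*} [Fintype α] [DecidableEq α] (σ : Equiv.Perm α) :
    orderOf σ = σ.partition.parts.lcm := by
  rw [Equiv.Perm.parts_partition, Multiset.lcm_add, σ.lcm_cycleType]
  rcases (Fintype.card α - σ.support.card).eq_zero_or_pos with h | h
  · rw [h]
    simp
  · have h1 : (Multiset.replicate (Fintype.card α - σ.support.card) 1).lcm = 1 :=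
      Nat.dvd_one.1 (Multiset.lcm_dvd.2 fun b hb => by rw [Multiset.eq_of_mem_replicate hb])
    rw [h1]
    simp

theorem sign_eq_partition {α : Type*} [Fintype α] [DecidableEq α] (σ : Equiv.Perm α) :
    Equiv.Perm.sign σ = (-1 : ℤˣ) ^ (Fintype.card α + σ.partition.parts.card) := by
  rw [Equiv.Perm.sign_of_cycleType, Equiv.Perm.parts_partition, Equiv.Perm.sum_cycleType,
    Multiset.card_add, Multiset.card_replicate]
  have h : σ.support.card ≤ Fintype.card α := Finset.card_le_univ _
  obtain ⟨c, hc⟩ := Nat.exists_eq_add_of_le h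
  rw [hc, show σ.support.card + c - σ.support.card = c by omega,
    show σ.support.card + c + (σ.cycleType.card + c) = σ.support.card + σ.cycleType.card + 2 * c by
      ring, pow_add _ _ (2 * c), pow_mul, neg_one_sq, one_pow, mul_one]

/-- All lists of parts in `[1, k]` with sum `n`, up to order. -/
def allParts : ℕ → ℕ → List (List ℕ)
  | n, 0 => if n = 0 then [[]] else []
  | n, k + 1 => (List.range (n / (k + 1) + 1)).flatMap fun c =>
      (allParts (n - c * (k + 1)) k).map fun t => List.replicate c (k + 1) ++ t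

theorem exists_mem_allParts : ∀ (k n : ℕ) (s : Multiset ℕ), (∀ i ∈ s, 1 ≤ i ∧ i ≤ k) → s.sum = n →
    ∃ l ∈ allParts n k, (l : Multiset ℕ) = s := by
  intro k
  induction k with
  | zero =>
    intro n s hs hsum
    have h0 : s = 0 := Multiset.eq_zero_of_forall_notMem fun i hi => by
      have := hs i hi
      omega
    subst h0
    rw [Multiset.sum_zero] at hsum
    subst hsum
    exact ⟨[], by simp [allParts], rfl⟩
  | succ k ih =>
    intro n s hs hsum
    set c := s.count (k + 1) with hc
    have hsplit : s = Multiset.replicate c (k + 1) + s.filter (fun i => ¬ i = k + 1) := by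
      conv_lhs => rw [← Multiset.filter_add_not (fun i => i = k + 1) s]
      rw [Multiset.filter_eq']
    have hsum' : c * (k + 1) + (s.filter (fun i => ¬ i = k + 1)).sum = n := by
      rw [← hsum]
      conv_rhs => rw [hsplit]
      rw [Multiset.sum_add, Multiset.sum_replicate, smul_eq_mul]
    obtain ⟨t, ht, hts⟩ := ih (n - c * (k + 1)) (s.filter (fun i => ¬ i = k + 1))
      (fun i hi => by
        have h1 := hs i (Multiset.mem_of_mem_filter hi)
        have h2 := (Multiset.mem_filter.1 hi).2
        omega)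
      (by omega)
    refine ⟨List.replicate c (k + 1) ++ t, ?_, ?_⟩
    · rw [allParts]
      refine List.mem_flatMap.2 ⟨c, ?_, List.mem_map.2 ⟨t, ht, rfl⟩⟩
      rw [List.mem_range, Nat.lt_succ_iff, Nat.le_div_iff_mul_le k.succ_pos]
      exact hsum' ▸ Nat.le_add_right _ _
    · rw [← Multiset.coe_add, Multiset.coe_replicate, hts, ← hsplit]

/-- The possible orders of even permutations of `Fin n` are read off from the lists of parts. -/
theorem orderOf_alternating_mem {n : ℕ} {S : Set ℕ}
    (h : ∀ l ∈ allParts n n, Even (n + l.length) → l.foldr Nat.lcm 1 ∈ S)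
    (σ : alternatingGroup (Fin n)) : orderOf σ ∈ S := by
  rw [← Subgroup.orderOf_coe, orderOf_eq_lcm_partition]
  have key : ∀ (m : ℕ), m = n → ∀ P : Nat.Partition m, Even (m + P.parts.card) → P.parts.lcm ∈ S := by
    rintro m rfl P hP
    obtain ⟨l, hl, hls⟩ := exists_mem_allParts m m P.parts
      (fun i hi => ⟨P.parts_pos hi,
        (Multiset.le_sum_of_mem hi).trans_eq P.parts_sum⟩) P.parts_sum
    rw [← hls] at hP ⊢
    exact h l hl hP
  refine key _ (Fintype.card_fin n) _ ?_
  have hs : Equiv.Perm.sign (σ : Equiv.Perm (Fin n)) = 1 := σ.2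
  rwa [sign_eq_partition, neg_one_pow_eq_one_iff_even (by decide)] at hs

/-- The spectrum of `A₅`. -/
theorem range_orderOf_alternating_five :
    Set.range (orderOf : alternatingGroup (Fin 5) → ℕ) = {1, 2, 3, 5} := by
  refine Set.Subset.antisymm ?_ ?_
  · rintro _ ⟨σ, rfl⟩
    refine orderOf_alternating_mem (fun l hl hP => ?_) σ
    simp only [Set.mem_insert_iff, Set.mem_singleton_iff]
    revert l
    decide +kernel
  · intro k hk
    simp only [Set.mem_insert_iff, Set.mem_singleton_iff] at hk
    rcases hk with rfl | rfl | rfl | rfl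
    · exact ⟨1, orderOf_one⟩
    · exact ⟨⟨Equiv.swap 0 1 * Equiv.swap 2 3, Equiv.Perm.mem_alternatingGroup.2 (by decide)⟩,
        orderOf_eq_prime (by decide) (by decide)⟩
    · haveI : Fact (Nat.Prime 3) := ⟨Nat.prime_three⟩
      exact ⟨⟨Equiv.swap 0 1 * Equiv.swap 1 2, Equiv.Perm.mem_alternatingGroup.2 (by decide)⟩,
        orderOf_eq_prime (by decide) (by decide)⟩
    · haveI : Fact (Nat.Prime 5) := ⟨Nat.prime_five⟩
      exact ⟨⟨Equiv.swap 0 1 * Equiv.swap 1 2 * Equiv.swap 2 3 * Equiv.swap 3 4, Equiv.Perm.mem_alternatingGroup.2 (by decide)⟩,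
        orderOf_eq_prime (by decide) (by decide)⟩

/-- The spectrum of `A₆`. -/
theorem range_orderOf_alternating_six :
    Set.range (orderOf : alternatingGroup (Fin 6) → ℕ) = {1, 2, 3, 4, 5} := by
  refine Set.Subset.antisymm ?_ ?_
  · rintro _ ⟨σ, rfl⟩
    refine orderOf_alternating_mem (fun l hl hP => ?_) σ
    simp only [Set.mem_insert_iff, Set.mem_singleton_iff]
    revert l
    decide +kernel
  · intro k hk
    simp only [Set.mem_insert_iff, Set.mem_singleton_iff] at hk
    rcases hk with rfl | rfl | rfl | rfl | rfl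
    · exact ⟨1, orderOf_one⟩
    · exact ⟨⟨Equiv.swap 0 1 * Equiv.swap 2 3, Equiv.Perm.mem_alternatingGroup.2 (by decide)⟩,
        orderOf_eq_prime (by decide) (by decide)⟩
    · haveI : Fact (Nat.Prime 3) := ⟨Nat.prime_three⟩
      exact ⟨⟨Equiv.swap 0 1 * Equiv.swap 1 2, Equiv.Perm.mem_alternatingGroup.2 (by decide)⟩,
        orderOf_eq_prime (by decide) (by decide)⟩
    · haveI : Fact (Nat.Prime 2) := ⟨Nat.prime_two⟩
      exact ⟨⟨Equiv.swap 0 1 * Equiv.swap 1 2 * Equiv.swap 2 3 * Equiv.swap 4 5, Equiv.Perm.mem_alternatingGroup.2 (by decide)⟩,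
        orderOf_eq_prime_pow (p := 2) (n := 1) (by decide) (by decide)⟩
    · haveI : Fact (Nat.Prime 5) := ⟨Nat.prime_five⟩
      exact ⟨⟨Equiv.swap 0 1 * Equiv.swap 1 2 * Equiv.swap 2 3 * Equiv.swap 3 4, Equiv.Perm.mem_alternatingGroup.2 (by decide)⟩,
        orderOf_eq_prime (by decide) (by decide)⟩

end CfsgLib.Recog
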