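import Cfsg.Agent.Lib.Recog.TransLinearAction
import Cfsg.Agent.Lib.Recog.ZsigmondyPrime

/-!
Huppert's theorem: a solvable linear group transitive on the non-zero vectors is semilinear apart
from six degrees.
-/

set_option autoImplicit false
set_option maxHeartbeats 400000
set_option linter.unusedSectionVars false

namespace CfsgLib.Recog.TransLinear

variable {p : ℕ} [Fact p.Prime] {V : Type*} [AddCommGroup V] [Module (ZMod p) V] [Finite V]
  [Nontrivial V] {G : Type*} [Group G] [Finite G] {R : G →* Module.End (ZMod p) V}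

theorem le_of_orderOf {r d : ℕ} [Fact r.Prime] (h : orderOf (p : ZMod r) = d) (hd : 0 < d) :
    d + 1 ≤ r ∧ r ≠ p := by
  have h0 : ((p : ℕ) : ZMod r) ≠ 0 := fun e => by rw [e, orderOf_zero] at h; omega
  refine ⟨?_, fun e => h0 (e ▸ ZMod.natCast_self r)⟩
  have h1 := Nat.le_of_dvd (by have := (Fact.out : r.Prime).two_le; omega)
    (ZMod.orderOf_dvd_card_sub_one h0)
  have := (Fact.out : r.Prime).two_le
  omega

theorem eq_of_modEq {r d k j : ℕ} [Fact r.Prime] (h : orderOf (p : ZMod r) = d) (hd : 0 < d)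
    (hk : k ≤ d) (hj : j ≤ k) (hm : p ^ k ≡ p ^ j [MOD r]) : k = j ∨ (k = d ∧ j = 0) := by
  have h0 : ((p : ℕ) : ZMod r) ≠ 0 := fun e => by rw [e, orderOf_zero] at h; omega
  have h1 : ((p : ℕ) : ZMod r) ^ (k - j) = 1 := by
    have h2 := (ZMod.natCast_eq_natCast_iff _ _ _).2 hm
    push_cast at h2
    rw [← Nat.add_sub_cancel' hj, pow_add, mul_eq_left₀ (pow_ne_zero _ h0)] at h2
    exact h2
  have h2 := orderOf_dvd_of_pow_eq_one h1
  rw [h] at h2
  rcases Nat.eq_zero_or_pos (k - j) with e | e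
  · left; omega
  · have := Nat.le_of_dvd e h2
    right; omega

/-- An element of order a primitive prime divisor acts irreducibly. -/
theorem irreducible_of_primitive (hR : Function.Injective R) {r d : ℕ} [Fact r.Prime]
    (hV : Nat.card V = p ^ d) (hd : 0 < d) (h : orderOf (p : ZMod r) = d) {x : G}
    (hx : orderOf x = r) (W : Submodule (ZMod p) V) (hW : ∀ w ∈ W, R x w ∈ W) : W = ⊥ ∨ W = ⊤ := by
  classical
  have hr : r.Prime := Fact.out
  have hp : p.Prime := Fact.out
  have hxr : R x ^ r = 1 := by rw [← map_pow, ← hx, pow_orderOf_eq_one, map_one]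
  have hfr : Module.finrank (ZMod p) V = d := by
    refine Nat.pow_right_injective hp.two_le ?_
    have h1 := Module.natCard_eq_pow_finrank (K := ZMod p) (V := V)
    rw [Nat.card_zmod, hV] at h1
    exact h1.symm
  -- the congruence on an invariant subspace
  have key : ∀ U : Submodule (ZMod p) V, (∀ w ∈ U, R x w ∈ U) →
      Nat.card U ≡ Nat.card (U ⊓ LinearMap.ker (R x - 1) : Submodule (ZMod p) V) [MOD r] := by
    intro U hU
    haveI := Fintype.ofFinite U
    let σ : Equiv.Perm U := Equiv.ofBijective (fun w => ⟨R x w, hU w w.2⟩)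
      (Finite.injective_iff_bijective.1 fun a b hab => Subtype.ext (by
        have h1 := congrArg (fun z : U => R x⁻¹ (z : V)) hab
        simpa [mul_inv_apply_cancel] using h1))
    have hσn : ∀ (n : ℕ) (w : U), ((σ ^ n) w : V) = (R x ^ n) w := by
      intro n
      induction n with
      | zero => intro w; rfl
      | succ n ih =>
        intro w
        rw [pow_succ', Equiv.Perm.mul_apply, pow_succ', Module.End.mul_apply, ← ih]
        rfl
    let F₀ : Function.End U := ⇑σ
    have h1 := Equiv.Perm.card_fixedPoints_modEq (p := r) (n := 1) (f := F₀) (by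
      refine funext fun w => ?_
      have h2 : ((σ ^ r) w : V) = w := by rw [hσn, hxr]; rfl
      have h3 : ∀ n : ℕ, F₀ ^ n = ((σ ^ n : Equiv.Perm U) : U → U) := by
        intro n
        induction n with
        | zero => rfl
        | succ n ih => rw [pow_succ, pow_succ, ih]; rfl
      rw [pow_one, h3]
      exact Subtype.ext h2)
    rw [← Nat.card_eq_fintype_card, ← Nat.card_eq_fintype_card] at h1
    refine h1.trans (congrArg (· % r) ?_)
    refine Nat.card_congr
      { toFun := fun w => ⟨w.1.1, Submodule.mem_inf.2 ⟨w.1.2, ?_⟩⟩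
        invFun := fun w => ⟨⟨w.1, (Submodule.mem_inf.1 w.2).1⟩, ?_⟩
        left_inv := fun _ => rfl
        right_inv := fun _ => rfl }
    · rw [LinearMap.mem_ker, LinearMap.sub_apply, Module.End.one_apply, sub_eq_zero]
      exact congrArg Subtype.val w.2
    · refine Subtype.ext (show R x w.1 = w.1 from ?_)
      have h4 := LinearMap.mem_ker.1 (Submodule.mem_inf.1 w.2).2
      rwa [LinearMap.sub_apply, Module.End.one_apply, sub_eq_zero] at h4
  have hcard : ∀ U : Submodule (ZMod p) V, Nat.card U = p ^ Module.finrank (ZMod p) U := fun U => by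
    have h1 := Module.natCard_eq_pow_finrank (K := ZMod p) (V := U)
    rwa [Nat.card_zmod] at h1
  have hker : LinearMap.ker (R x - 1) = ⊥ := by
    have h1 := key ⊤ fun _ _ => Submodule.mem_top
    rw [top_inf_eq, hcard, hcard, finrank_top, hfr] at h1
    rcases eq_of_modEq h hd le_rfl (hfr ▸ Submodule.finrank_le _) h1 with e | ⟨-, e⟩
    · exfalso
      have h2 : LinearMap.ker (R x - 1) = ⊤ := Submodule.eq_top_of_finrank_eq (e.symm.trans hfr.symm)
      rw [LinearMap.ker_eq_top, sub_eq_zero] at h2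
      rw [hR (h2.trans (map_one R).symm), orderOf_one] at hx
      exact hr.ne_one hx.symm
    · exact Submodule.finrank_eq_zero.1 e
  have h1 := key W hW
  rw [hker, inf_bot_eq, hcard, hcard, finrank_bot] at h1
  rcases eq_of_modEq h hd (hfr ▸ Submodule.finrank_le _) (Nat.zero_le _) h1 with e | ⟨e, -⟩
  · exact Or.inl (Submodule.finrank_eq_zero.1 e)
  · exact Or.inr (Submodule.eq_top_of_finrank_eq (e.trans hfr.symm))

/-- The centralizer of an irreducible element is commutative. -/
theorem commute_of_irreducible {x : G}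
    (hirr : ∀ W : Submodule (ZMod p) V, (∀ w ∈ W, R x w ∈ W) → W = ⊥ ∨ W = ⊤) {a b : G}
    (ha : Commute x a) (hb : Commute x b) : Commute (R a) (R b) := by
  obtain ⟨v, hv⟩ := exists_ne (0 : V)
  let e : Polynomial (ZMod p) →ₗ[ZMod p] V :=
    (LinearMap.applyₗ v).comp (Polynomial.aeval (R x)).toLinearMap
  have hrange : LinearMap.range e = ⊤ := by
    refine (hirr _ ?_).resolve_left fun h => hv ?_
    · rintro _ ⟨P, rfl⟩
      refine ⟨Polynomial.X * P, ?_⟩
      change Polynomial.aeval (R x) (Polynomial.X * P) v = R x (Polynomial.aeval (R x) P v)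
      rw [map_mul, Polynomial.aeval_X, Module.End.mul_apply]
    · have h1 : v ∈ LinearMap.range e := ⟨1, by
        change Polynomial.aeval (R x) (1 : Polynomial (ZMod p)) v = v
        rw [map_one, Module.End.one_apply]⟩
      rwa [h, Submodule.mem_bot] at h1
  have key : ∀ f : Module.End (ZMod p) V, Commute (R x) f → ∃ P : Polynomial (ZMod p), f = Polynomial.aeval (R x) P := by
    intro f hf
    obtain ⟨P, hP⟩ : f v ∈ LinearMap.range e := hrange ▸ Submodule.mem_top
    refine ⟨P, LinearMap.ext fun w => ?_⟩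
    obtain ⟨Q, rfl⟩ : w ∈ LinearMap.range e := hrange ▸ Submodule.mem_top
    have hfQ : Commute f (Polynomial.aeval (R x) Q) := by
      induction Q using Polynomial.induction_on' with
      | add P Q hP hQ => rw [map_add]; exact hP.add_right hQ
      | monomial n c =>
        rw [Polynomial.aeval_monomial]
        exact Commute.mul_right (Algebra.commutes (A := Module.End (ZMod p) V) c f).symm (hf.symm.pow_right n)
    change f (Polynomial.aeval (R x) Q v) = Polynomial.aeval (R x) P (Polynomial.aeval (R x) Q v)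
    rw [← Module.End.mul_apply, hfQ.eq, Module.End.mul_apply,
      show f v = Polynomial.aeval (R x) P v from hP.symm, ← Module.End.mul_apply,
      ← Module.End.mul_apply, ← map_mul, ← map_mul, mul_comm]
  obtain ⟨P, hP⟩ := key _ (ha.map R)
  obtain ⟨Q, hQ⟩ := key _ (hb.map R)
  rw [hP, hQ]
  exact (Commute.all P Q).map (Polynomial.aeval (R x))

namespace Frame

variable (D : Frame R) (htr : ∀ v w : V, v ≠ 0 → w ≠ 0 → ∃ g : G, R g v = w)

include htr

/-- A primitive prime divisor pins down the layer completely. -/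
theorem primitive_data (hR : Function.Injective R) (hm : 2 ≤ D.m) (L : D.Layer) {r : ℕ}
    [Fact r.Prime] (hd : 3 ≤ D.l * D.m) (h : orderOf (p : ZMod r) = D.l * D.m) :
    D.l = 1 ∧ L.s = 2 ∧ ∃ i, L.n = 2 * i ∧ D.m = 2 ^ i ∧ r = 2 ^ i + 1 ∧
      L.s ^ L.n = D.m * D.m := by
  classical
  have hr : r.Prime := Fact.out
  have hp : p.Prime := Fact.out
  obtain ⟨hdr, hrp⟩ := le_of_orderOf h (by omega)
  have hml : D.m ≤ D.l * D.m := Nat.le_mul_of_pos_left _ (Nat.pos_of_ne_zero D.l_ne)
  have hll : D.l ≤ D.l * D.m := Nat.le_mul_of_pos_right _ (by omega)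
  obtain ⟨x, hx⟩ : ∃ x : G, orderOf x = r := by
    refine exists_prime_orderOf_dvd_card' r ?_
    refine Dvd.dvd.trans ?_ (D.card_eq ▸ sub_one_dvd_card R htr)
    rw [← ZMod.natCast_eq_zero_iff, Nat.cast_sub (Nat.one_le_pow _ _ hp.pos)]
    push_cast
    rw [← h, pow_orderOf_eq_one, sub_self]
  have hxC : x ∈ D.C := by
    rw [← QuotientGroup.eq_one_iff, ← orderOf_eq_one_iff]
    have h1 : orderOf (x : G ⧸ D.C) ∣ r := hx ▸ orderOf_map_dvd (QuotientGroup.mk' D.C) x
    refine ((Nat.dvd_prime hr).1 h1).resolve_right fun e => ?_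
    have h2 := (orderOf_dvd_natCard (x : G ⧸ D.C)).trans (D.index_C hR).1
    rw [e] at h2
    have := Nat.le_of_dvd (Nat.pos_of_ne_zero D.l_ne) h2
    omega
  have hsm : L.s ≤ D.m := by
    have h1 : L.s ^ 2 ≤ D.m * D.m := le_trans (Nat.pow_le_pow_right L.prime.pos L.two_le) L.le_sq
    rw [← sq] at h1
    exact (Nat.pow_le_pow_iff_left (by norm_num)).1 h1
  have hnc : ¬ ∀ b ∈ L.B, Commute x b := fun hall => by
    have hA : L.B ≤ D.A := fun a ha => L.ker a ha fun b hb => by
      have h1 := commute_of_irreducible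
        (irreducible_of_primitive hR D.card_eq (by omega) h hx) (hall b hb) (hall a ha)
      exact hR (by rw [map_mul, map_mul]; exact h1.eq)
    have h1 := Subgroup.relIndex_eq_one.2 hA
    rw [L.relIndex_eq] at h1
    have h2 : L.s ≤ L.s ^ L.n := Nat.le_self_pow (by have := L.two_le; omega) _
    have := L.prime.two_le
    omega
  obtain ⟨i, hi, hin, hri⟩ := L.prime_bound hxC hr (by omega) (by omega)
    (hx ▸ pow_orderOf_eq_one x) hnc
  have hsi : L.s ^ i ≤ D.m := by
    have h1 : L.s ^ (2 * i) ≤ D.m * D.m := le_trans (Nat.pow_le_pow_right L.prime.pos hin) L.le_sq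
    rw [mul_comm 2 i, pow_mul, ← sq] at h1
    exact (Nat.pow_le_pow_iff_left (by norm_num)).1 h1
  have hm_eq : D.m = L.s ^ i := by omega
  have hr_eq : r = L.s ^ i + 1 := by omega
  have hl1 : D.l = 1 := by
    by_contra hne
    have : 2 * D.m ≤ D.l * D.m := Nat.mul_le_mul_right _ (by have := D.l_ne; omega)
    omega
  have hn : L.n = 2 * i := by
    refine le_antisymm ((Nat.pow_le_pow_iff_right L.prime.one_lt).1 ?_) hin
    rw [mul_comm 2 i, pow_mul, ← hm_eq, sq]
    exact L.le_sq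
  have hs2 : L.s = 2 := by
    by_contra hne
    have h1 : Odd (L.s ^ i) := (L.prime.odd_of_ne_two hne).pow
    have h2 : Even r := by rw [hr_eq]; exact h1.add_one
    have := hr.even_iff.1 h2
    omega
  refine ⟨hl1, hs2, i, hn, by rw [hm_eq, hs2], by rw [hr_eq, hs2], ?_⟩
  rw [hn, mul_comm 2 i, pow_mul, ← hm_eq, sq]

theorem two_dim_layer (hR : Function.Injective R) (hm : 2 ≤ D.m) (L : D.Layer)
    (hd : D.l * D.m = 2) : D.l = 1 ∧ D.m = 2 ∧ L.s = 2 ∧ L.n = 2 := by
  have hl := Nat.pos_of_ne_zero D.l_ne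
  have hl1 : D.l = 1 := by
    by_contra hne
    have : 2 * 2 ≤ D.l * D.m := Nat.mul_le_mul (by omega) hm
    omega
  have hm2 : D.m = 2 := by rw [hl1, one_mul] at hd; exact hd
  have h1 := L.le_sq
  rw [hm2] at h1
  have h2 : L.s ^ 2 ≤ 2 ^ 2 := le_trans (Nat.pow_le_pow_right L.prime.pos L.two_le) h1
  have hs : L.s = 2 := le_antisymm ((Nat.pow_le_pow_iff_left (by norm_num)).1 h2) L.prime.two_le
  rw [hs] at h1
  exact ⟨hl1, hm2, hs, le_antisymm ((Nat.pow_le_pow_iff_right (by norm_num)).1 (show 2 ^ L.n ≤ 2 ^ 2 from h1)) L.two_le⟩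

theorem dvd_twentyFour (hR : Function.Injective R) (hm : 2 ≤ D.m) (L : D.Layer)
    (hd : D.l * D.m = 2) : p ∈ ({3, 5, 7, 11, 23} : Set ℕ) := by
  have hp : p.Prime := Fact.out
  obtain ⟨hl, hm2, hs, hn⟩ := D.two_dim_layer htr hR hm L hd
  have hfull : L.s ^ L.n = D.m * D.m := by rw [hs, hn, hm2]; rfl
  have h1 := (D.card_eq ▸ sub_one_dvd_card R htr).trans (L.card_dvd hR hfull)
  have hprod : (∏ j : Fin L.n, (L.s ^ L.n - L.s ^ (j : ℕ))) = 6 := by
    rw [hs, Fin.prod_univ_eq_prod_range (fun j => 2 ^ L.n - 2 ^ j) L.n, hn]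
    rfl
  rw [hprod, hl, hm2, hs, hn, one_mul, pow_one] at h1
  rw [show p ^ 2 - 1 = (p + 1) * (p - 1) by simpa using Nat.sq_sub_sq p 1] at h1
  have h2 : p + 1 ∣ 6 * 2 ^ 2 := Nat.dvd_of_mul_dvd_mul_right (by have := hp.two_le; omega) h1
  have h3 : p ≠ 2 := by
    intro e
    have h4 := L.dvd
    rw [hs, hl, pow_one, e] at h4
    exact absurd h4 (by decide)
  have h5 : p + 1 ≤ 24 := Nat.le_of_dvd (by norm_num) h2
  simp only [Set.mem_insert_iff, Set.mem_singleton_iff]
  have := hp.two_le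
  have : p ≤ 23 := by omega
  interval_cases p <;> revert hp h2 h3 <;> decide

theorem small_of_three_le (hR : Function.Injective R) (hm : 2 ≤ D.m) (L : D.Layer)
    (hd : 3 ≤ D.l * D.m) : Nat.card V = 81 := by
  classical
  have hp : p.Prime := Fact.out
  have hG := D.card_eq ▸ sub_one_dvd_card R htr
  by_cases hex : p = 2 ∧ D.l * D.m = 6
  · exfalso
    obtain ⟨hp2, hd6⟩ := hex
    have hl6 : D.l ≤ 6 := Nat.le_of_dvd (by norm_num) (hd6 ▸ dvd_mul_right _ _)
    have hpl : p ^ D.l - 1 = 2 ^ D.l - 1 := congrArg (fun z : ℕ => z ^ D.l - 1) hp2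
    have hq : p ^ (D.l * D.m) - 1 = 63 :=
      (congrArg (fun z : ℕ => p ^ z - 1) hd6).trans (congrArg (fun z : ℕ => z ^ 6 - 1) hp2)
    have hsdvd := L.dvd.trans hpl.dvd
    have hsle : L.s ^ 2 ≤ D.m * D.m := le_trans (Nat.pow_le_pow_right L.prime.pos L.two_le) L.le_sq
    have hsp := L.prime
    have hl0 := Nat.pos_of_ne_zero D.l_ne
    rcases (show D.l = 1 ∨ D.l = 2 ∨ D.l = 3 ∨ 4 ≤ D.l by omega) with hl | hl | hl | hl
    · rw [hl] at hsdvd
      exact hsp.one_lt.ne' (Nat.dvd_one.1 hsdvd)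
    · rw [hl] at hsdvd
      have hm3 : D.m = 3 := by rw [hl] at hd6; omega
      have hs3 : L.s = 3 := (Nat.prime_dvd_prime_iff_eq hsp Nat.prime_three).1 hsdvd
      have hn : L.n = 2 := by
        refine le_antisymm ?_ L.two_le
        have h1 := L.le_sq
        rw [hs3, hm3] at h1
        exact (Nat.pow_le_pow_iff_right (by norm_num : 1 < 3)).1 (show 3 ^ L.n ≤ 3 ^ 2 from h1)
      have h1 := L.card_dvd hR (by rw [hs3, hn, hm3]; rfl)
      rw [show (∏ j : Fin L.n, (L.s ^ L.n - L.s ^ (j : ℕ))) = 48 by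
        rw [hs3, Fin.prod_univ_eq_prod_range (fun j => 3 ^ L.n - 3 ^ j) L.n, hn]; rfl,
        hpl, hs3, hn, hl] at h1
      exact absurd ((hq ▸ hG).trans h1) (by decide)
    · rw [hl] at hsdvd
      have hm2 : D.m = 2 := by rw [hl] at hd6; omega
      have hs7 : L.s = 7 := (Nat.prime_dvd_prime_iff_eq hsp (by norm_num)).1 hsdvd
      rw [hs7, hm2] at hsle
      omega
    · have : 4 * 2 ≤ D.l * D.m := Nat.mul_le_mul hl hm
      omega
  obtain ⟨r, hr, hord⟩ := ZsigmondyPrime.exists_primitive_prime hp.two_le hd hex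
  haveI : Fact r.Prime := ⟨hr⟩
  obtain ⟨hl, hs, i, hn, hmi, hri, hfull⟩ := D.primitive_data htr hR hm L hd hord
  rw [hl, one_mul] at hd hord
  obtain ⟨k, rfl⟩ : ∃ k, i = k + 2 := ⟨i - 2, by
    rcases i with _ | _ | i
    · rw [hmi] at hd; omega
    · rw [hmi] at hd; omega
    · omega⟩
  set h₂ := 2 ^ (k + 1) with hh₂
  have hmh : D.m = 2 * h₂ := by rw [hmi, hh₂, pow_succ' 2 (k + 1)]
  have hp2 : p ≠ 2 := fun e => by
    have h4 := L.dvd
    rw [hs, hl, pow_one, e] at h4
    exact absurd h4 (by decide)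
  have hodd : Odd p := hp.odd_of_ne_two hp2
  set N := p ^ h₂ + 1 with hN
  have hN4 : ¬ 4 ∣ N := by
    intro h4
    have h5 : ((p ^ h₂ + 1 : ℕ) : ZMod 4) = 0 := (ZMod.natCast_eq_zero_iff _ _).2 h4
    rw [hh₂, pow_succ, pow_mul] at h5
    push_cast at h5
    exact (by decide : ∀ z : ZMod 4, z ^ 2 + 1 ≠ 0) _ h5
  have hN2 : 2 ∣ N := even_iff_two_dvd.1 hodd.pow.add_one
  -- every odd prime divisor of `N` is `r`
  have hNr : ∀ t : ℕ, t.Prime → t ∣ N → t ≠ 2 → t = r := by
    intro t ht htN ht2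
    haveI : Fact t.Prime := ⟨ht⟩
    have h1 : ((p : ℕ) : ZMod t) ^ h₂ = -1 := by
      have h2 := (ZMod.natCast_eq_zero_iff N t).2 htN
      rw [hN] at h2
      push_cast at h2
      exact eq_neg_of_add_eq_zero_left h2
    have hne : (-1 : ZMod t) ≠ 1 := by
      haveI : Fact (2 < t) := ⟨by have := ht.two_le; omega⟩
      exact ZMod.neg_one_ne_one
    haveI : Fact (Nat.Prime 2) := ⟨Nat.prime_two⟩
    have h2 : orderOf ((p : ℕ) : ZMod t) = D.l * D.m := by
      rw [hl, one_mul, hmi]
      exact orderOf_eq_prime_pow (n := k + 1) (by rw [← hh₂, h1]; exact hne)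
        (by rw [pow_succ 2 (k + 1), pow_mul, ← hh₂, h1, neg_one_sq])
    obtain ⟨-, -, j, hj, -, htj, -⟩ := D.primitive_data htr hR hm L (hl ▸ (one_mul D.m).symm ▸ hd) h2
    rw [htj, hri, show j = k + 2 by omega]
  -- `r` divides `N` at most once
  have hr2 : ¬ r ^ 2 ∣ N := by
    intro hsq
    have h1 : N ∣ p ^ (D.l * D.m) - 1 := by
      rw [hl, one_mul, hmh, mul_comm 2 h₂, pow_mul]
      exact Dvd.intro _ (by simpa using (Nat.sq_sub_sq (p ^ h₂) 1).symm)
    have h2 := (hsq.trans h1).trans (hG.trans (L.card_dvd hR hfull))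
    rw [hl, one_mul, pow_one, hs, hn] at h2
    have hrp : Nat.Coprime (r ^ 2) (p - 1) := by
      refine Nat.Coprime.pow_left 2 ((hr.coprime_iff_not_dvd).2 fun hd' => ?_)
      have h3 : ((p - 1 : ℕ) : ZMod r) = 0 := (ZMod.natCast_eq_zero_iff _ _).2 hd'
      rw [Nat.cast_sub hp.one_le, Nat.cast_one, sub_eq_zero] at h3
      rw [h3, orderOf_one] at hord
      omega
    have hr2' : Nat.Coprime (r ^ 2) (2 ^ (2 * (k + 2))) := Nat.Coprime.pow _ _
      ((Nat.coprime_primes hr Nat.prime_two).2 (by omega))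
    have h3 := hr2'.dvd_of_dvd_mul_right (hrp.dvd_of_dvd_mul_right h2)
    have hsmall : ∀ e, 0 < e → e < 2 * (k + 2) → ¬ r ∣ 2 ^ e - 1 := by
      intro e he0 he hdvd
      rcases Nat.lt_or_ge (k + 2) e with hlt | hge
      · have hc : ((2 : ZMod r)) ^ e = 1 := by
          have h4 := (ZMod.natCast_eq_zero_iff (2 ^ e - 1) r).2 hdvd
          rw [Nat.cast_sub Nat.one_le_two_pow, sub_eq_zero] at h4
          push_cast at h4
          exact h4
        have hneg : (2 : ZMod r) ^ (k + 2) = -1 := by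
          have h4 : ((2 ^ (k + 2) + 1 : ℕ) : ZMod r) = 0 :=
            (ZMod.natCast_eq_zero_iff _ _).2 hri.dvd
          push_cast at h4
          exact eq_neg_of_add_eq_zero_left h4
        obtain ⟨f, rfl⟩ := Nat.exists_eq_add_of_le hlt.le
        rw [pow_add, hneg] at hc
        have h5 : ((2 ^ f + 1 : ℕ) : ZMod r) = 0 := by
          push_cast
          linear_combination -hc
        have h6 := Nat.le_of_dvd (Nat.succ_pos _) ((ZMod.natCast_eq_zero_iff _ _).1 h5)
        have h7 : 2 ^ f < 2 ^ (k + 2) := Nat.pow_lt_pow_right (by norm_num) (by omega)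
        omega
      · have h4 : 2 ^ e ≤ 2 ^ (k + 2) := Nat.pow_le_pow_right (by norm_num) hge
        have h5 : 2 ≤ 2 ^ e := Nat.le_self_pow (by omega) 2
        have h6 := Nat.le_of_dvd (by omega) hdvd
        omega
    rw [Fin.prod_univ_eq_prod_range (fun j => 2 ^ (2 * (k + 2)) - 2 ^ j) (2 * (k + 2)),
      show 2 * (k + 2) = (2 * k + 3) + 1 by ring, Finset.prod_range_succ', pow_zero] at h3
    have hco : Nat.Coprime (r ^ 2)
        (∏ j ∈ Finset.range (2 * k + 3), (2 ^ (2 * k + 3 + 1) - 2 ^ (j + 1))) := by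
      refine Nat.Coprime.pow_left 2 (Nat.Coprime.prod_right fun j hj => ?_)
      rw [Finset.mem_range] at hj
      rw [hr.coprime_iff_not_dvd]
      intro hdvd
      rw [show 2 * k + 3 + 1 = (2 * k + 3 - j) + (j + 1) by omega, pow_add, ← Nat.sub_one_mul] at hdvd
      rcases hr.dvd_mul.1 hdvd with h4 | h4
      · exact hsmall _ (by omega) (by omega) h4
      · have := Nat.le_of_dvd (by norm_num) (hr.dvd_of_dvd_pow h4)
        omega
    have h4 := hco.dvd_of_dvd_mul_left h3
    rw [show 2 * k + 3 + 1 = (k + 2) * 2 by ring, pow_mul,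
      show (2 ^ (k + 2)) ^ 2 - 1 = (2 ^ (k + 2) + 1) * (2 ^ (k + 2) - 1) by
        simpa using Nat.sq_sub_sq (2 ^ (k + 2)) 1, ← hri, sq r] at h4
    have h5 := Nat.dvd_of_mul_dvd_mul_left hr.pos h4
    exact hsmall (k + 2) (by omega) (by omega) h5
  obtain ⟨M, hM⟩ := hN2
  have hMle : M ≤ r := by
    rcases eq_or_ne M 1 with rfl | hM1
    · exact hr.one_le
    obtain ⟨t, ht, htM⟩ := Nat.exists_prime_and_dvd hM1
    have ht2 : t ≠ 2 := fun e => hN4 (by rw [hM, show 4 = 2 * 2 from rfl]; exact mul_dvd_mul_left 2 (e ▸ htM))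
    obtain rfl := hNr t ht (hM ▸ Dvd.dvd.mul_left htM 2) ht2
    obtain ⟨M', rfl⟩ := htM
    rcases eq_or_ne M' 1 with rfl | hM'1
    · rw [mul_one]
    obtain ⟨u, hu, huM⟩ := Nat.exists_prime_and_dvd hM'1
    have huN : u ∣ N := by rw [hM]; exact Dvd.dvd.mul_left (Dvd.dvd.mul_left huM _) _
    rcases eq_or_ne u 2 with rfl | hu2
    · exact absurd (by rw [hM, show 4 = 2 * 2 from rfl]
                       exact mul_dvd_mul_left 2 (Dvd.dvd.mul_left huM _)) hN4
    · obtain rfl := hNr u hu huN hu2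
      exact absurd (by rw [hM, sq]; exact Dvd.dvd.mul_left (mul_dvd_mul_left _ huM) 2) hr2
  have hp3 : 3 ≤ p := by have := hp.two_le; omega
  have hle : p ^ h₂ + 1 ≤ 2 * (2 * h₂ + 1) := by
    rw [← hN, hM, ← hmh, hmi, ← hri]
    omega
  rcases Nat.eq_zero_or_pos k with rfl | hk
  · rw [show h₂ = 2 by rw [hh₂]; rfl] at hle hmh
    have hp3' : p = 3 := by nlinarith
    rw [D.card_eq, hl, hmh, hp3']
    norm_num
  · exfalso
    have h4 : 4 ≤ h₂ := by
      rw [hh₂]
      exact le_trans (by norm_num) (Nat.pow_le_pow_right (by norm_num) (show 2 ≤ k + 1 by omega))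
    have h5 : ∀ j, 4 ≤ j → 4 * j + 2 < 3 ^ j := by
      intro j hj
      induction j, hj using Nat.le_induction with
      | base => norm_num
      | succ j hj ih => rw [pow_succ]; omega
    have h6 := h5 h₂ h4
    have h7 := Nat.pow_le_pow_left hp3 h₂
    omega

end Frame

/-- Huppert's theorem. -/
theorem semilinear_or_small (hR : Function.Injective R) (hsol : Group.IsSolvable G)
    (htr : ∀ v w : V, v ≠ 0 → w ≠ 0 → ∃ g : G, R g v = w) :
    (∃ (F : Type) (_ : Field F) (_ : Fintype F) (e : V ≃+ F),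
        ∀ g : G, ∃ (a : F) (σ : F ≃+* F), ∀ v : V, e (R g v) = a * σ (e v)) ∨
      Nat.card V ∈ ({9, 25, 49, 121, 529, 81} : Set ℕ) := by
  obtain ⟨D⟩ := exists_frame R htr
  rcases eq_or_lt_of_le D.one_le_m with hm | hm
  · left
    refine semilinear_of_card R D.l_ne D.φ D.exists_σ ?_
    rw [D.card_eq, ← hm, mul_one]
  right
  obtain ⟨L⟩ := D.exists_layer htr hR hsol hm
  have hd2 : 2 ≤ D.l * D.m := le_trans hm (Nat.le_mul_of_pos_left _ (Nat.pos_of_ne_zero D.l_ne))
  simp only [Set.mem_insert_iff, Set.mem_singleton_iff]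
  rcases eq_or_lt_of_le hd2 with hd | hd
  · have h1 := D.dvd_twentyFour htr hR hm L hd.symm
    simp only [Set.mem_insert_iff, Set.mem_singleton_iff] at h1
    rw [D.card_eq, ← hd]
    rcases h1 with h | h | h | h | h <;> subst h <;> norm_num
  · rw [D.small_of_three_le htr hR hm L hd]
    norm_num

end CfsgLib.Recog.TransLinear
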