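import Mathlib

/-!
Elementary facts on point stabilisers of primitive groups.
-/

set_option autoImplicit false

namespace CfsgLib.Recog

variable {G Ω : Type*} [Group G] [MulAction G Ω]

/-- A subgroup fixing a point and normal in `G` is trivial in a faithful transitive action. -/
theorem eq_bot_of_normal_le_stabilizer [FaithfulSMul G Ω] [MulAction.IsPretransitive G Ω]
    {N : Subgroup G} [hN : N.Normal] {a : Ω} (h : N ≤ MulAction.stabilizer G a) : N = ⊥ := by
  refine (Subgroup.eq_bot_iff_forall _).2 fun n hn => FaithfulSMul.eq_of_smul_eq_smul fun x : Ω => ?_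
  obtain ⟨g, rfl⟩ := MulAction.exists_smul_eq G a x
  rw [one_smul, smul_smul]
  have h1 : g⁻¹ * n * g ∈ MulAction.stabilizer G a := h (by simpa using hN.conj_mem n hn g⁻¹)
  calc (n * g) • a = g • (g⁻¹ * n * g) • a := by rw [smul_smul]; congr 1; group
    _ = g • a := by rw [MulAction.mem_stabilizer_iff.1 h1]

/-- A subgroup normalised by a point stabiliser and by an element outside it is trivial, if it fixes
the point. -/
theorem eq_bot_of_le_normalizer [FaithfulSMul G Ω] [MulAction.IsPreprimitive G Ω] [Nontrivial Ω]
    {N : Subgroup G} {a : Ω} (h : N ≤ MulAction.stabilizer G a)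
    (hH : MulAction.stabilizer G a ≤ Subgroup.normalizer (N : Set G))
    {g : G} (hg : g • a ≠ a) (hgN : g ∈ Subgroup.normalizer (N : Set G)) : N = ⊥ := by
  have hc := MulAction.IsPreprimitive.isCoatom_stabilizer_of_isPreprimitive G a
  have htop : Subgroup.normalizer (N : Set G) = ⊤ :=
    hc.2 _ (lt_of_le_of_ne hH fun he => hg (MulAction.mem_stabilizer_iff.1 (he ▸ hgN)))
  haveI : N.Normal := Subgroup.normalizer_eq_top_iff.1 htop
  exact eq_bot_of_normal_le_stabilizer h

theorem card_stabilizer_eq [MulAction.IsPretransitive G Ω] (a b : Ω) :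
    Nat.card (MulAction.stabilizer G a) = Nat.card (MulAction.stabilizer G b) := by
  obtain ⟨g, hg⟩ := MulAction.exists_smul_eq G a b
  subst hg
  rw [MulAction.stabilizer_smul_eq_stabilizer_map_conj]
  exact (Subgroup.card_map_of_injective (MulEquiv.injective _)).symm

/-- If two point stabilisers of a primitive group coincide, they are trivial. -/
theorem stabilizer_eq_bot_of_eq [FaithfulSMul G Ω] [MulAction.IsPreprimitive G Ω] {a b : Ω}
    (hab : a ≠ b) (he : MulAction.stabilizer G a = MulAction.stabilizer G b) :
    MulAction.stabilizer G a = ⊥ := by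
  haveI : Nontrivial Ω := ⟨⟨a, b, hab⟩⟩
  obtain ⟨g, hg⟩ := MulAction.exists_smul_eq G a b
  refine eq_bot_of_le_normalizer le_rfl Subgroup.le_normalizer (g := g) (by rw [hg]; exact hab.symm)
    (Subgroup.mem_normalizer_iff.2 fun x => ?_)
  conv_rhs => rw [he, ← hg, MulAction.mem_stabilizer_iff, smul_smul, inv_mul_cancel_right,
    ← smul_smul, smul_left_cancel_iff]
  exact MulAction.mem_stabilizer_iff

end CfsgLib.Recog
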