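import Cfsg.Agent.Lib.Base.MinimalNormal
import Cfsg.Agent.Lib.Maximal.CharSimple
import Cfsg.Agent.Lib.Recog.PrimitiveSmallOrbit

/-!
The socle of a finite primitive permutation group.
-/

set_option autoImplicit false
set_option maxHeartbeats 400000

namespace CfsgLib.Recog

open CfsgLib.Base

variable {G Ω : Type*} [Group G] [MulAction G Ω] [FaithfulSMul G Ω] [MulAction.IsPreprimitive G Ω]

theorem isPretransitive_of_normal_ne_bot (M : Subgroup G) [M.Normal] (hM : M ≠ ⊥) :
    MulAction.IsPretransitive M Ω := by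
  refine MulAction.IsQuasiPreprimitive.isPretransitive_of_normal fun h => hM ?_
  refine (Subgroup.eq_bot_iff_forall _).2 fun x hx => FaithfulSMul.eq_of_smul_eq_smul fun a : Ω => ?_
  rw [one_smul]
  exact (h ▸ Set.mem_univ a : a ∈ MulAction.fixedPoints M Ω) ⟨x, hx⟩

omit [MulAction.IsPreprimitive G Ω] in
/-- The centraliser of a transitive subgroup is semiregular. -/
theorem eq_one_of_mem_centralizer {V : Subgroup G} [MulAction.IsPretransitive V Ω] {x : G}
    (hx : x ∈ Subgroup.centralizer (V : Set G)) {a : Ω} (ha : x • a = a) : x = 1 := by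
  refine FaithfulSMul.eq_of_smul_eq_smul fun b : Ω => ?_
  obtain ⟨v, rfl⟩ := MulAction.exists_smul_eq V a b
  change x • (v : G) • a = (1 : G) • (v : G) • a
  rw [one_smul, smul_smul, ← Subgroup.mem_centralizer_iff.1 hx v v.2, ← smul_smul, ha]

/-- Two commuting transitive subgroups of a finite permutation group are isomorphic. -/
theorem nonempty_mulEquiv_of_commute [Nonempty Ω] {U V : Subgroup G}
    [MulAction.IsPretransitive U Ω] [MulAction.IsPretransitive V Ω]
    (hUV : U ≤ Subgroup.centralizer (V : Set G)) : Nonempty (V ≃* U) := by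
  obtain ⟨a⟩ := ‹Nonempty Ω›
  have hVU : V ≤ Subgroup.centralizer (U : Set G) := Subgroup.le_centralizer_iff.1 hUV
  have hinj : ∀ (W : Subgroup G) [MulAction.IsPretransitive W Ω] (x y : G),
      x ∈ Subgroup.centralizer (W : Set G) → y ∈ Subgroup.centralizer (W : Set G) →
      x • a = y • a → x = y := by
    intro W _ x y hx hy h
    refine inv_mul_eq_one.1 (eq_one_of_mem_centralizer (V := W) (a := a) ?_ ?_)
    · exact mul_mem (inv_mem hx) hy
    · rw [← smul_smul, ← h, inv_smul_smul]
  choose f hf using fun v : V => MulAction.exists_smul_eq U a ((v : G) • a)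
  change ∀ v : V, ((f v : U) : G) • a = (v : G) • a at hf
  have hanti : ∀ v w : V, f (v * w) = f w * f v := fun v w => Subtype.ext <| by
    refine hinj V _ _ (hUV (f (v * w)).2) (hUV (f w * f v).2) ?_
    rw [hf, Subgroup.coe_mul, Subgroup.coe_mul, ← smul_smul, ← smul_smul, ← hf w, smul_smul,
      ← Subgroup.mem_centralizer_iff.1 (hVU v.2) _ (f w).2, ← smul_smul, ← hf v]
  let φ : V →* U := MonoidHom.mk' (fun v => (f v)⁻¹) fun v w => by
    rw [hanti, mul_inv_rev]
  refine ⟨MulEquiv.ofBijective φ ⟨fun v w h => Subtype.ext (hinj U _ _ (hVU v.2) (hVU w.2) ?_), fun u => ?_⟩⟩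
  · rw [← hf v, ← hf w, inv_injective (h : (f v)⁻¹ = (f w)⁻¹)]
  · obtain ⟨v, hv⟩ := MulAction.exists_smul_eq V a (((u⁻¹ : U) : G) • a)
    refine ⟨v, inv_eq_iff_eq_inv.2 (Subtype.ext ?_)⟩
    exact hinj V _ _ (hUV (f v).2) (hUV (u⁻¹).2) (by rw [hf]; exact hv)

variable [Finite G]

/-- The socle of a primitive group is regular elementary abelian or a power of a non-abelian simple
group. -/
theorem primitive_socle [Nontrivial G] :
    (∃ p : ℕ, p.Prime ∧ IsMulCommutative ↥(sSup {V : Subgroup G | IsMinimalNormal V}) ∧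
      (∀ x : ↥(sSup {V : Subgroup G | IsMinimalNormal V}), x ^ p = 1) ∧
      MulAction.IsPretransitive ↥(sSup {V : Subgroup G | IsMinimalNormal V}) Ω ∧
      ∀ ω : Ω, MulAction.stabilizer ↥(sSup {V : Subgroup G | IsMinimalNormal V}) ω = ⊥) ∨
    (∃ (T : Type) (_ : Group T) (m : ℕ), 1 ≤ m ∧ IsSimpleGroup T ∧ ¬ IsMulCommutative T ∧
      Nonempty (↥(sSup {V : Subgroup G | IsMinimalNormal V}) ≃* (Fin m → T))) := by
  obtain ⟨V, hV⟩ := exists_isMinimalNormal (G := G)
  haveI := hV.normal
  haveI hVt : MulAction.IsPretransitive V Ω := isPretransitive_of_normal_ne_bot V hV.ne_bot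
  have hother : ∀ U, IsMinimalNormal U → U ≠ V → U ≤ Subgroup.centralizer (V : Set G) :=
    fun U hU hne => hU.le_centralizer_of_ne hV hne
  by_cases hs : Group.IsSolvable V
  · obtain ⟨p, hp, hc, hexp, -⟩ := hV.exists_prime hs
    have hVV : V ≤ Subgroup.centralizer (V : Set G) := Subgroup.le_centralizer_iff_isMulCommutative.2 hc
    have hsoc : sSup {W : Subgroup G | IsMinimalNormal W} = V := by
      refine le_antisymm (sSup_le fun U hU => ?_) (le_sSup hV)
      rcases eq_or_ne U V with rfl | hne
      · exact le_rfl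
      intro u hu
      rcases isEmpty_or_nonempty Ω with hΩ | ⟨⟨a⟩⟩
      · rw [FaithfulSMul.eq_of_smul_eq_smul (m₁ := u) (m₂ := 1) fun x : Ω => (hΩ.false x).elim]
        exact V.one_mem
      obtain ⟨v, hv⟩ := MulAction.exists_smul_eq V a (u • a)
      have h1 : (v : G)⁻¹ * u = 1 := eq_one_of_mem_centralizer (V := V) (a := a)
        (mul_mem (inv_mem (hVV v.2)) (hother U hU hne hu))
        (by rw [← smul_smul, inv_smul_eq_iff]; exact hv.symm)
      rw [inv_mul_eq_one] at h1
      exact h1 ▸ v.2
    rw [hsoc]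
    refine Or.inl ⟨p, hp, hc, fun x => Subtype.ext (hexp x x.2), hVt, fun a => ?_⟩
    exact (Subgroup.eq_bot_iff_forall _).2 fun v hv =>
      Subtype.ext (eq_one_of_mem_centralizer (V := V) (hVV v.2) hv)
  · right
    haveI : Nontrivial V := (Subgroup.nontrivial_iff_ne_bot V).2 hV.ne_bot
    haveI hΩ : Nonempty Ω := by
      by_contra h
      rw [not_nonempty_iff] at h
      exact not_subsingleton G ⟨fun x y => FaithfulSMul.eq_of_smul_eq_smul fun a : Ω => (h.false a).elim⟩
    obtain ⟨T, iT, m, hT, hm, ⟨e⟩⟩ := CfsgLib.Maximal.charSimple_decomp (X := V) fun H hH => by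
      haveI : (H.map V.subtype).Normal := inferInstance
      rcases hV.eq_bot_or_eq (K := H.map V.subtype) inferInstance (Subgroup.map_subtype_le H) with h | h
      · exact Or.inl ((Subgroup.map_eq_bot_iff_of_injective _ V.subtype_injective).1 h)
      · refine Or.inr (Subgroup.map_injective V.subtype_injective (h.trans ?_))
        rw [← MonoidHom.range_eq_map, Subgroup.range_subtype]
    have hTc : ¬ IsMulCommutative T := by
      intro h
      haveI : IsMulCommutative V := ⟨⟨fun x y => e.injective (by
        rw [map_mul, map_mul]; funext i; exact h.is_comm.comm (e x i) (e y i))⟩⟩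
      exact hs (isSolvable_of_comm fun x y => IsMulCommutative.is_comm.comm x y)
    by_cases hU : ∃ U, IsMinimalNormal U ∧ U ≠ V
    · obtain ⟨U, hU, hne⟩ := hU
      haveI := hU.normal
      haveI : MulAction.IsPretransitive U Ω := isPretransitive_of_normal_ne_bot U hU.ne_bot
      have hUV := hother U hU hne
      obtain ⟨a⟩ := id hΩ
      have hCU : Subgroup.centralizer (V : Set G) ≤ U := fun x hx => by
        obtain ⟨u, hu⟩ := MulAction.exists_smul_eq U a (x • a)
        have h1 : (u : G)⁻¹ * x = 1 := eq_one_of_mem_centralizer (V := V) (a := a)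
          (mul_mem (inv_mem (hUV u.2)) hx) (by rw [← smul_smul, inv_smul_eq_iff]; exact hu.symm)
        rw [inv_mul_eq_one] at h1
        exact h1 ▸ u.2
      have hsoc : sSup {W : Subgroup G | IsMinimalNormal W} = V ⊔ U := by
        refine le_antisymm (sSup_le fun W hW => ?_) (sup_le (le_sSup hV) (le_sSup hU))
        rcases eq_or_ne W V with rfl | hWV
        · exact le_sup_left
        · exact ((hother W hW hWV).trans hCU).trans le_sup_right
      rw [hsoc]
      obtain ⟨e'⟩ := nonempty_mulEquiv_of_commute (Ω := Ω) hUV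
      let f : V × U →* G := V.subtype.noncommCoprod U.subtype fun v u =>
        Subgroup.mem_centralizer_iff.1 (hUV u.2) v v.2
      have hf : Function.Injective f := (MonoidHom.noncommCoprod_injective _ _ _).2
        ⟨V.subtype_injective, U.subtype_injective, by
          rw [Subgroup.range_subtype, Subgroup.range_subtype, disjoint_iff]
          exact (hU.le_or_inf_eq_bot V).resolve_left (fun h =>
            ((hV.eq_bot_or_eq hU.normal h).elim hU.ne_bot hne)) |> (inf_comm _ _).trans⟩
      have hr : f.range = V ⊔ U := by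
        exact (MonoidHom.noncommCoprod_range _ _ _).trans
          (by rw [Subgroup.range_subtype, Subgroup.range_subtype])
      refine ⟨T, iT, m + m, by omega, hT, hTc, ⟨?_⟩⟩
      refine ((MulEquiv.subgroupCongr hr.symm).trans (MonoidHom.ofInjective hf).symm).trans ?_
      refine (MulEquiv.prodCongr e (e'.symm.trans e)).trans ?_
      exact { toEquiv := (Equiv.sumArrowEquivProdArrow _ _ _).symm.trans (Equiv.arrowCongr finSumFinEquiv (Equiv.refl T))
              map_mul' := fun x y => by
                funext i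
                rcases h : finSumFinEquiv.symm i with j | j <;>
                  simp [Equiv.arrowCongr, Equiv.sumArrowEquivProdArrow, h] }
    · push_neg at hU
      have hsoc : sSup {W : Subgroup G | IsMinimalNormal W} = V :=
        le_antisymm (sSup_le fun W hW => (hU W hW).le) (le_sSup hV)
      rw [hsoc]
      exact ⟨T, iT, m, hm, hT, hTc, ⟨e⟩⟩

end CfsgLib.Recog
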