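import Cfsg.Agent.Lib.Base.MinimalNormal
import Cfsg.Agent.Lib.Maximal.CharSimple
import Cfsg.Agent.Lib.Recog.PrimitiveSocle

/-!
The simple factors of a non-solvable minimal normal subgroup, and the dichotomy between
diagonal and product stabilisers in a primitive group.
-/

set_option autoImplicit false
set_option maxHeartbeats 400000

namespace CfsgLib.Recog

open CfsgLib.Base

variable {G : Type*} [Group G]

/-- The conjugate `g T g⁻¹`. -/
def conjSub (g : G) (T : Subgroup G) : Subgroup G := T.comap (MulAut.conj g⁻¹).toMonoidHom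

theorem mem_conjSub {g x : G} {T : Subgroup G} : x ∈ conjSub g T ↔ g⁻¹ * x * g ∈ T := by
  simp [conjSub]

theorem conj_mem_conjSub {g x : G} {T : Subgroup G} (hx : x ∈ T) : g * x * g⁻¹ ∈ conjSub g T := by
  rw [mem_conjSub]
  simpa [mul_assoc] using hx

theorem conjSub_one (T : Subgroup G) : conjSub 1 T = T := by
  ext x; simp [mem_conjSub]

theorem conjSub_mul (g h : G) (T : Subgroup G) : conjSub (g * h) T = conjSub g (conjSub h T) := by
  ext x; simp only [mem_conjSub, mul_inv_rev, mul_assoc]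

/-- `T` is a simple factor of the minimal normal subgroup `N`. -/
structure IsSocleFactor (N T : Subgroup G) : Prop where
  /-- `N` is minimal normal -/
  isMinimalNormal : IsMinimalNormal N
  /-- `T` lies in `N` -/
  le : T ≤ N
  /-- `N` normalises `T` -/
  conj_mem : ∀ n ∈ N, ∀ x ∈ T, n * x * n⁻¹ ∈ T
  /-- `T` is simple -/
  isSimpleGroup : IsSimpleGroup T
  /-- `T` is not abelian -/
  not_comm : ¬ IsMulCommutative T

/-- A non-solvable minimal normal subgroup has a simple factor. -/
theorem exists_isSocleFactor [Finite G] {N : Subgroup G} (hN : IsMinimalNormal N)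
    (hns : ¬ Group.IsSolvable N) : ∃ T, IsSocleFactor N T := by
  classical
  haveI : Nontrivial N := (Subgroup.nontrivial_iff_ne_bot N).2 hN.ne_bot
  haveI := hN.normal
  obtain ⟨S, iS, m, hS, hm, ⟨e⟩⟩ := CfsgLib.Maximal.charSimple_decomp (X := N) fun H hH => by
    rcases hN.eq_bot_or_eq (K := H.map N.subtype) inferInstance (Subgroup.map_subtype_le H) with h | h
    · exact Or.inl ((Subgroup.map_eq_bot_iff_of_injective _ N.subtype_injective).1 h)
    · refine Or.inr (Subgroup.map_injective N.subtype_injective (h.trans ?_))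
      rw [← MonoidHom.range_eq_map, Subgroup.range_subtype]
  let i₀ : Fin m := ⟨0, hm⟩
  let f : S →* G := N.subtype.comp (e.symm.toMonoidHom.comp (MonoidHom.mulSingle (fun _ => S) i₀))
  have hf : Function.Injective f := fun x y h =>
    Pi.mulSingle_injective (M := fun _ : Fin m => S) i₀ (e.symm.injective (N.subtype_injective h))
  refine ⟨f.range, hN, ?_, ?_, ?_, ?_⟩
  · rintro _ ⟨s, rfl⟩
    exact (e.symm (Pi.mulSingle i₀ s)).2
  · rintro n hn _ ⟨s, rfl⟩
    refine ⟨e ⟨n, hn⟩ i₀ * s * (e ⟨n, hn⟩ i₀)⁻¹, ?_⟩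
    have h1 : Pi.mulSingle (M := fun _ : Fin m => S) i₀ (e ⟨n, hn⟩ i₀ * s * (e ⟨n, hn⟩ i₀)⁻¹) =
        e ⟨n, hn⟩ * Pi.mulSingle i₀ s * (e ⟨n, hn⟩)⁻¹ := by
      funext j
      rcases eq_or_ne j i₀ with rfl | hj
      · simp
      · simp [Pi.mulSingle_eq_of_ne hj]
    have h2 := congrArg (fun z => N.subtype (e.symm z)) h1
    simp only [map_mul, map_inv, MulEquiv.symm_apply_apply, Subgroup.subtype_apply] at h2
    exact h2
  · exact (MonoidHom.ofInjective hf).symm.isSimpleGroup
  · intro h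
    haveI := hS
    have hSs : Group.IsSolvable S := isSolvable_of_comm fun x y =>
      hf (by rw [map_mul, map_mul]; exact congrArg Subtype.val (h.is_comm.comm ⟨f x, x, rfl⟩ ⟨f y, y, rfl⟩))
    apply hns
    have hSc : ∀ a b : S, a * b = b * a := IsSimpleGroup.comm_iff_isSolvable.2 hSs
    exact isSolvable_of_comm fun x y => e.injective (by rw [map_mul, map_mul]; funext j; exact hSc _ _)

namespace IsSocleFactor

variable {N T L : Subgroup G}

theorem map_conj (h : IsSocleFactor N T) (g : G) : IsSocleFactor N (conjSub g T) := by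
  haveI := h.isMinimalNormal.normal
  let e : T ≃* conjSub g T :=
    { toFun := fun x => ⟨g * x * g⁻¹, conj_mem_conjSub x.2⟩
      invFun := fun x => ⟨g⁻¹ * x * g, mem_conjSub.1 x.2⟩
      left_inv := fun x => Subtype.ext (by simp [mul_assoc])
      right_inv := fun x => Subtype.ext (by simp [mul_assoc])
      map_mul' := fun x y => Subtype.ext (by simp [mul_assoc]) }
  refine ⟨h.isMinimalNormal, fun x hx => ?_, fun n hn x hx => ?_, ?_, fun hc => h.not_comm ⟨⟨fun x y => e.injective ?_⟩⟩⟩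
  · have h1 := Subgroup.Normal.conj_mem inferInstance _ (h.le (mem_conjSub.1 hx)) g
    simpa [mul_assoc] using h1
  · rw [mem_conjSub] at hx ⊢
    have h1 := h.conj_mem _ (Subgroup.Normal.conj_mem inferInstance _ hn g⁻¹) _ hx
    simpa [mul_assoc] using h1
  · haveI := h.isSimpleGroup
    exact e.symm.isSimpleGroup
  · rw [map_mul, map_mul]; exact hc.is_comm.comm _ _

theorem ne_bot (h : IsSocleFactor N T) : T ≠ ⊥ := by
  haveI := h.isSimpleGroup
  exact (Subgroup.nontrivial_iff_ne_bot T).1 inferInstance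

theorem not_isSolvable (h : IsSocleFactor N T) : ¬ Group.IsSolvable T := fun hs =>
  haveI := h.isSimpleGroup
  h.not_comm ⟨⟨IsSimpleGroup.comm_iff_isSolvable.2 hs⟩⟩

theorem eq_bot_or_eq_of_conj_mem (h : IsSocleFactor N T) {K : Subgroup G}
    (hK : ∀ x ∈ T, ∀ y ∈ K, x * y * x⁻¹ ∈ K) : T ⊓ K = ⊥ ∨ T ≤ K := by
  haveI := h.isSimpleGroup
  have : (K.subgroupOf T).Normal := ⟨fun y hy x => hK x x.2 y hy⟩
  rcases IsSimpleGroup.eq_bot_or_eq_top_of_normal _ this with h1 | h1
  · left
    rw [Subgroup.subgroupOf_eq_bot, disjoint_comm, disjoint_iff] at h1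
    exact h1
  · exact Or.inr (Subgroup.subgroupOf_eq_top.1 h1)

theorem eq_one_of_centralizer (h : IsSocleFactor N T) {x : G} (hx : x ∈ T)
    (hc : x ∈ Subgroup.centralizer (T : Set G)) : x = 1 := by
  rcases h.eq_bot_or_eq_of_conj_mem (K := Subgroup.centralizer (T : Set G)) (fun a ha y hy => by
    rw [(Subgroup.mem_centralizer_iff.1 hy a ha), mul_inv_cancel_right]; exact hy) with h1 | h1
  · exact Subgroup.mem_bot.1 (h1 ▸ ⟨hx, hc⟩)
  · exact absurd (Subgroup.le_centralizer_iff_isMulCommutative.1 h1) h.not_comm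

theorem eq_of_le (h : IsSocleFactor N T) (h' : IsSocleFactor N L) (hle : T ≤ L) : T = L := by
  refine le_antisymm hle ((h'.eq_bot_or_eq_of_conj_mem fun x hx y hy =>
    h.conj_mem x (h'.le hx) y hy).resolve_left ?_)
  rw [inf_eq_right.2 hle]
  exact h.ne_bot

theorem commute_of_ne (h : IsSocleFactor N T) (h' : IsSocleFactor N L) (hne : T ≠ L) :
    T ≤ Subgroup.centralizer (L : Set G) := by
  have h1 : T ⊓ L = ⊥ := (h.eq_bot_or_eq_of_conj_mem fun x hx y hy =>
    h'.conj_mem x (h.le hx) y hy).resolve_right fun hle => hne (h.eq_of_le h' hle)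
  intro x hx
  rw [Subgroup.mem_centralizer_iff]
  intro y hy
  replace hy : y ∈ L := hy
  have hm : x * y * x⁻¹ * y⁻¹ ∈ T ⊓ L := by
    refine Subgroup.mem_inf.2 ⟨?_, mul_mem (h'.conj_mem x (h.le hx) y hy) (inv_mem hy)⟩
    rw [show x * y * x⁻¹ * y⁻¹ = x * (y * x⁻¹ * y⁻¹) by group]
    exact mul_mem hx (h.conj_mem y (h'.le hy) _ (inv_mem hx))
  rw [h1, Subgroup.mem_bot] at hm
  rw [mul_inv_eq_one, mul_inv_eq_iff_eq_mul] at hm
  exact hm.symm

theorem le_centralizer_of_ne (h : IsSocleFactor N T) {g : G} (hne : T ≠ conjSub g T) :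
    T ≤ Subgroup.centralizer (conjSub g T : Set G) := h.commute_of_ne (h.map_conj g) hne

/-- The conjugates of a factor generate. -/
theorem iSup_conj_eq (h : IsSocleFactor N T) : ⨆ g : G, conjSub g T = N := by
  have hle : ⨆ g : G, conjSub g T ≤ N := iSup_le fun g => (h.map_conj g).le
  have hn : (⨆ g : G, conjSub g T).Normal := by
    refine ⟨fun x hx c => ?_⟩
    induction hx using Subgroup.iSup_induction' with
    | hp g x hx =>
      refine Subgroup.mem_iSup_of_mem (c * g) ?_
      rw [mem_conjSub] at hx ⊢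
      simpa [mul_assoc] using hx
    | h1 => simp
    | hmul x y _ _ hx hy => simpa [mul_assoc] using mul_mem hx hy
  refine (h.isMinimalNormal.eq_bot_or_eq hn hle).resolve_left fun hb => h.ne_bot ?_
  rw [eq_bot_iff, ← hb]
  exact le_iSup_of_le 1 (conjSub_one T).ge

theorem mem_center_eq_one (h : IsSocleFactor N T) {x : G} (hx : x ∈ N)
    (hc : ∀ g, x ∈ Subgroup.centralizer (conjSub g T : Set G)) : x = 1 := by
  haveI := h.isMinimalNormal.normal
  have hxc : x ∈ Subgroup.centralizer (N : Set G) := by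
    rw [← h.iSup_conj_eq, Subgroup.mem_centralizer_iff]
    intro y hy
    induction hy using Subgroup.iSup_induction' with
    | hp g y hy => exact Subgroup.mem_centralizer_iff.1 (hc g) y hy
    | h1 => simp
    | hmul a b _ _ ha hb => rw [mul_assoc, hb, ← mul_assoc, ha, mul_assoc]
  rcases h.isMinimalNormal.eq_bot_or_eq (K := N ⊓ Subgroup.centralizer (N : Set G)) inferInstance
    inf_le_left with h1 | h1
  · exact Subgroup.mem_bot.1 (h1 ▸ ⟨hx, hxc⟩)
  · exfalso
    have h2 : N ≤ Subgroup.centralizer (N : Set G) := inf_eq_left.1 h1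
    haveI := Subgroup.le_centralizer_iff_isMulCommutative.1 h2
    exact h.not_comm ⟨⟨fun a b => Subtype.ext
      (congrArg Subtype.val (IsMulCommutative.is_comm.comm (⟨a, h.le a.2⟩ : N) ⟨b, h.le b.2⟩) :)⟩⟩

theorem exists_comp (h : IsSocleFactor N T) {x : G} (hx : x ∈ N) :
    ∃ y ∈ T, y⁻¹ * x ∈ Subgroup.centralizer (T : Set G) := by
  rw [← h.iSup_conj_eq] at hx
  induction hx using Subgroup.iSup_induction' with
  | hp g x hx =>
    by_cases hg : T = conjSub g T
    · exact ⟨x, hg ▸ hx, by simp [one_mem]⟩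
    · exact ⟨1, one_mem _, by simpa using (h.map_conj g).commute_of_ne h (Ne.symm hg) hx⟩
  | h1 => exact ⟨1, one_mem _, by simp [one_mem]⟩
  | hmul a b _ _ ha hb =>
    obtain ⟨y, hy, hya⟩ := ha
    obtain ⟨z, hz, hzb⟩ := hb
    refine ⟨y * z, mul_mem hy hz, ?_⟩
    have hcomm := Subgroup.mem_centralizer_iff.1 hya z hz
    rw [show (y * z)⁻¹ * (a * b) = z⁻¹ * (y⁻¹ * a) * b by group,
      show z⁻¹ * (y⁻¹ * a) = y⁻¹ * a * z⁻¹ by
        rw [inv_mul_eq_iff_eq_mul, ← mul_assoc, hcomm, mul_inv_cancel_right], mul_assoc]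
    exact mul_mem hya hzb

open Classical in
/-- The component of `x` in the factor `L`. -/
noncomputable def comp (L : Subgroup G) (x : G) : G :=
  if hx : ∃ y ∈ L, y⁻¹ * x ∈ Subgroup.centralizer (L : Set G) then hx.choose else 1

theorem comp_mem (L : Subgroup G) (x : G) : comp L x ∈ L := by
  unfold comp
  split_ifs with hx
  · exact hx.choose_spec.1
  · exact one_mem L

theorem comp_spec (h : IsSocleFactor N T) {x : G} (hx : x ∈ N) :
    (comp T x)⁻¹ * x ∈ Subgroup.centralizer (T : Set G) := by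
  unfold comp
  rw [dif_pos (h.exists_comp hx)]
  exact (h.exists_comp hx).choose_spec.2

theorem comp_eq (h : IsSocleFactor N T) {x y : G} (hx : x ∈ N) (hy : y ∈ T)
    (hc : y⁻¹ * x ∈ Subgroup.centralizer (T : Set G)) : comp T x = y := by
  refine (inv_mul_eq_one.1 (h.eq_one_of_centralizer (x := y⁻¹ * comp T x)
    (mul_mem (inv_mem hy) (comp_mem T x)) ?_)).symm
  have h1 := mul_mem hc (inv_mem (h.comp_spec hx))
  rwa [show y⁻¹ * x * ((comp T x)⁻¹ * x)⁻¹ = y⁻¹ * comp T x by group] at h1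

theorem comp_self (h : IsSocleFactor N T) {x : G} (hx : x ∈ T) : comp T x = x :=
  h.comp_eq (h.le hx) hx (by simp [one_mem])

theorem comp_of_ne (h : IsSocleFactor N T) (h' : IsSocleFactor N L) (hne : T ≠ L) {x : G}
    (hx : x ∈ L) : comp T x = 1 :=
  h.comp_eq (h'.le hx) (one_mem _) (by simpa using h'.commute_of_ne h hne.symm hx)

theorem comp_mul (h : IsSocleFactor N T) {x y : G} (hx : x ∈ N) (hy : y ∈ N) :
    comp T (x * y) = comp T x * comp T y := by
  refine h.comp_eq (mul_mem hx hy) (mul_mem (comp_mem T x) (comp_mem T y)) ?_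
  have hcomm := Subgroup.mem_centralizer_iff.1 (h.comp_spec hx) _ (comp_mem T y)
  have h1 := mul_mem (h.comp_spec hx) (h.comp_spec hy)
  rw [show (comp T x * comp T y)⁻¹ * (x * y) = (comp T y)⁻¹ * ((comp T x)⁻¹ * x) * y by group,
    show (comp T y)⁻¹ * ((comp T x)⁻¹ * x) = (comp T x)⁻¹ * x * (comp T y)⁻¹ by
      rw [inv_mul_eq_iff_eq_mul, ← mul_assoc, hcomm, mul_inv_cancel_right], mul_assoc]
  exact h1

theorem comp_conj (h : IsSocleFactor N T) {x : G} (hx : x ∈ N) (g : G) :
    comp (conjSub g T) (g * x * g⁻¹) = g * comp T x * g⁻¹ := by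
  haveI := h.isMinimalNormal.normal
  refine (h.map_conj g).comp_eq (Subgroup.Normal.conj_mem inferInstance _ hx g)
    (conj_mem_conjSub (comp_mem T x)) ?_
  rw [Subgroup.mem_centralizer_iff]
  intro y hy
  have h1 := Subgroup.mem_centralizer_iff.1 (h.comp_spec hx) _ (mem_conjSub.1 hy)
  calc y * ((g * comp T x * g⁻¹)⁻¹ * (g * x * g⁻¹))
      = g * ((g⁻¹ * y * g) * ((comp T x)⁻¹ * x)) * g⁻¹ := by group
    _ = g * (((comp T x)⁻¹ * x) * (g⁻¹ * y * g)) * g⁻¹ := by rw [h1]
    _ = (g * comp T x * g⁻¹)⁻¹ * (g * x * g⁻¹) * y := by group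

theorem comp_smul (h : IsSocleFactor N T) {x : G} (hx : x ∈ T) {n : G} (hn : n ∈ N) :
    n * x * n⁻¹ = comp T n * x * (comp T n)⁻¹ := by
  have h1 := Subgroup.mem_centralizer_iff.1 (h.comp_spec hn) x hx
  calc n * x * n⁻¹ = comp T n * (((comp T n)⁻¹ * n) * x) * n⁻¹ := by group
    _ = comp T n * (x * ((comp T n)⁻¹ * n)) * n⁻¹ := by rw [h1]
    _ = comp T n * x * (comp T n)⁻¹ := by group

/-- Two elements of `N` with the same components are equal. -/
theorem ext (h : IsSocleFactor N T) {x y : G} (hx : x ∈ N) (hy : y ∈ N)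
    (hxy : ∀ g, comp (conjSub g T) x = comp (conjSub g T) y) : x = y := by
  refine inv_mul_eq_one.1 (h.mem_center_eq_one (mul_mem (inv_mem hx) hy) fun g => ?_)
  have hL := h.map_conj g
  have h1 : comp (conjSub g T) (x * (x⁻¹ * y)) = _ := hL.comp_mul hx (mul_mem (inv_mem hx) hy)
  rw [mul_inv_cancel_left, hxy g, left_eq_mul] at h1
  have h2 := hL.comp_spec (mul_mem (inv_mem hx) hy)
  rwa [h1, inv_one, one_mul] at h2

/-- Elements of `N` may be prescribed by their components. -/
theorem exists_assemble [Finite G] (h : IsSocleFactor N T) (f : Subgroup G → G)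
    (hf : ∀ g, f (conjSub g T) ∈ conjSub g T) :
    ∃ z ∈ N ⊓ Subgroup.closure (Set.range fun g => f (conjSub g T)),
      ∀ g, comp (conjSub g T) z = f (conjSub g T) := by
  classical
  suffices hs : ∀ s : Finset (Subgroup G), (∀ L ∈ s, ∃ g, L = conjSub g T) →
      ∃ z ∈ N ⊓ Subgroup.closure (Set.range fun g => f (conjSub g T)),
        ∀ g, comp (conjSub g T) z = if conjSub g T ∈ s then f (conjSub g T) else 1 by
    haveI := Fintype.ofFinite G
    obtain ⟨z, hz, hzc⟩ := hs (Finset.univ.image fun g => conjSub g T) (fun L hL => by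
      obtain ⟨g, -, rfl⟩ := Finset.mem_image.1 hL
      exact ⟨g, rfl⟩)
    exact ⟨z, hz, fun g => by rw [hzc g, if_pos (Finset.mem_image_of_mem _ (Finset.mem_univ g))]⟩
  intro s
  induction s using Finset.induction with
  | empty =>
    intro _
    refine ⟨1, one_mem _, fun g => ?_⟩
    rw [if_neg (Finset.notMem_empty _)]
    exact (h.map_conj g).comp_eq (one_mem _) (one_mem _) (by simp [one_mem])
  | insert L s hLs ih =>
    intro hs
    obtain ⟨z, hz, hzc⟩ := ih fun L' hL' => hs L' (Finset.mem_insert_of_mem hL')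
    obtain ⟨g₀, rfl⟩ := hs L (Finset.mem_insert_self _ _)
    have h0 := h.map_conj g₀
    refine ⟨f (conjSub g₀ T) * z, mul_mem ⟨h0.le (hf g₀), Subgroup.subset_closure ⟨g₀, rfl⟩⟩ hz,
      fun g => ?_⟩
    rw [(h.map_conj g).comp_mul (h0.le (hf g₀)) hz.1, hzc g]
    by_cases hg : conjSub g T = conjSub g₀ T
    · rw [hg, if_neg hLs, if_pos (Finset.mem_insert_self _ _), mul_one, h0.comp_self (hf g₀)]
    · rw [(h.map_conj g).comp_of_ne h0 hg (hf g₀), one_mul]
      simp [Finset.mem_insert, hg]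

theorem mem_closure_comps [Finite G] (h : IsSocleFactor N T) {x : G} (hx : x ∈ N) :
    x ∈ Subgroup.closure (Set.range fun g => comp (conjSub g T) x) := by
  obtain ⟨z, hz, hzc⟩ := h.exists_assemble (fun L => comp L x) fun g => comp_mem _ _
  obtain ⟨hz1, hz2⟩ := Subgroup.mem_inf.1 hz
  convert hz2 using 1
  exact h.ext hx hz1 fun g => (hzc g).symm

variable {Ω : Type*} [MulAction G Ω] [FaithfulSMul G Ω] [MulAction.IsPreprimitive G Ω]

theorem isPretransitive (h : IsSocleFactor N T) : MulAction.IsPretransitive N Ω :=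
  haveI := h.isMinimalNormal.normal
  isPretransitive_of_normal_ne_bot N h.isMinimalNormal.ne_bot

theorem exists_eq_mul_stabilizer (h : IsSocleFactor N T) (g : G) (a : Ω) :
    ∃ n ∈ N, ∃ k ∈ MulAction.stabilizer G a, g = n * k := by
  haveI := h.isPretransitive (Ω := Ω)
  obtain ⟨n, hn⟩ := MulAction.exists_smul_eq N a (g • a)
  refine ⟨n, n.2, (n : G)⁻¹ * g, ?_, by group⟩
  change ((n : G)⁻¹ * g) • a = a
  rw [mul_smul, ← hn, Subgroup.smul_def, inv_smul_smul]

theorem exists_conjSub_eq_stabilizer (h : IsSocleFactor N T) (g : G) (a : Ω) :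
    ∃ k ∈ MulAction.stabilizer G a, conjSub g T = conjSub k T := by
  obtain ⟨n, hn, k, hk, rfl⟩ := h.exists_eq_mul_stabilizer g a
  refine ⟨k, hk, ?_⟩
  rw [conjSub_mul]
  ext x
  rw [mem_conjSub]
  constructor
  · intro hx
    have := (h.map_conj k).conj_mem n hn _ hx
    simpa [mul_assoc] using this
  · intro hx
    have := (h.map_conj k).conj_mem n⁻¹ (inv_mem hn) _ hx
    simpa [mul_assoc] using this

/-- The stabiliser of a point in `N` has either full projections, meeting each factor trivially,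
or is the product of its intersections with the factors. -/
theorem diagonal_or_product [Finite G] (h : IsSocleFactor N T) (a : Ω) :
    (T ⊓ MulAction.stabilizer G a = ⊥ ∧
      ∀ t ∈ T, ∃ x ∈ N, x • a = a ∧ ∀ y ∈ T, x * y * x⁻¹ = t * y * t⁻¹) ∨
    (∀ x ∈ N, x • a = a → ∀ g, comp (conjSub g T) x • a = a) := by
  classical
  haveI := h.isMinimalNormal.normal
  haveI := h.isPretransitive (Ω := Ω)
  set A := MulAction.stabilizer G a with hA
  set P : Subgroup G := Subgroup.closure
    {y | ∃ x ∈ N, x ∈ A ∧ ∃ g, comp (conjSub g T) x = y} with hP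
  have hPN : P ≤ N := by
    rw [hP, Subgroup.closure_le]
    rintro _ ⟨x, hx, -, g, rfl⟩
    exact (h.map_conj g).le (comp_mem _ _)
  have hNAP : N ⊓ A ≤ P := fun x hx => by
    refine Subgroup.closure_mono ?_ (h.mem_closure_comps hx.1)
    rintro _ ⟨g, rfl⟩
    exact ⟨x, hx.1, hx.2, g, rfl⟩
  have hAP : A ≤ Subgroup.normalizer (P : Set G) := by
    have hle : ∀ k ∈ A, ∀ y ∈ P, k * y * k⁻¹ ∈ P := by
      intro k hk y hy
      induction hy using Subgroup.closure_induction with
      | mem y hy =>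
        obtain ⟨x, hx, hxA, g, rfl⟩ := hy
        refine Subgroup.subset_closure ⟨k * x * k⁻¹, Subgroup.Normal.conj_mem inferInstance _ hx k,
          mul_mem (mul_mem hk hxA) (inv_mem hk), k * g, ?_⟩
        rw [conjSub_mul, (h.map_conj g).comp_conj hx k]
      | one => simp
      | mul u v _ _ hu hv => simpa [mul_assoc] using mul_mem hu hv
      | inv u _ hu => simpa [mul_assoc] using inv_mem hu
    intro k hk
    rw [Subgroup.mem_normalizer_iff]
    refine fun y => ⟨hle k hk y, fun hy => ?_⟩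
    have := hle k⁻¹ (inv_mem hk) _ hy
    simpa [mul_assoc] using this
  rcases subsingleton_or_nontrivial Ω with hΩ | hΩ
  · exact Or.inr fun x _ _ g => Subsingleton.elim _ _
  rcases (MulAction.isCoatom_stabilizer_iff_preprimitive G a).2 inferInstance |>.le_iff.1
    (le_sup_right : A ≤ P ⊔ A) with h1 | h1
  · left
    -- then `P = N`
    have hPeq : P = N := le_antisymm hPN fun n hn => by
      have h2 : n ∈ P ⊔ A := h1 ▸ Subgroup.mem_top n
      rw [← SetLike.mem_coe, Subgroup.coe_mul_of_right_le_normalizer_left P A hAP] at h2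
      obtain ⟨u, hu, v, hv, rfl⟩ := h2
      refine mul_mem hu (hNAP ⟨?_, hv⟩)
      simpa using mul_mem (inv_mem (hPN hu)) hn
    have hfull : ∀ t ∈ T, ∃ x ∈ N, x • a = a ∧ comp T x = t := by
      intro t ht
      have htP : t ∈ P := hPeq ▸ h.le ht
      have key : ∀ y ∈ P, ∃ x ∈ N, x • a = a ∧ comp T x = comp T y := by
        intro y hy
        induction hy using Subgroup.closure_induction with
        | mem y hy =>
          obtain ⟨x, hx, hxA, g, rfl⟩ := hy
          by_cases hg : T = conjSub g T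
          · exact ⟨x, hx, hxA, by rw [← hg, h.comp_self (comp_mem T x)]⟩
          · exact ⟨1, one_mem _, one_smul _ a,
              by rw [h.comp_of_ne (h.map_conj g) hg (comp_mem _ _), h.comp_self (one_mem T)]⟩
        | one => exact ⟨1, one_mem _, one_smul _ a, rfl⟩
        | mul u v hu hv ihu ihv =>
          obtain ⟨x, hx, hxa, hxc⟩ := ihu
          obtain ⟨x', hx', hxa', hxc'⟩ := ihv
          exact ⟨x * x', mul_mem hx hx', by rw [mul_smul, hxa', hxa],
            by rw [h.comp_mul hx hx', h.comp_mul (hPN hu) (hPN hv), hxc, hxc']⟩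
        | inv u hu ihu =>
          obtain ⟨x, hx, hxa, hxc⟩ := ihu
          refine ⟨x⁻¹, inv_mem hx, by rw [inv_smul_eq_iff, hxa], ?_⟩
          have e1 := h.comp_mul (inv_mem hx) hx
          have e2 := h.comp_mul (inv_mem (hPN hu)) (hPN hu)
          rw [inv_mul_cancel, h.comp_self (one_mem T)] at e1 e2
          rw [eq_inv_of_mul_eq_one_left e1.symm, eq_inv_of_mul_eq_one_left e2.symm, hxc]
      obtain ⟨x, hx, hxa, hxc⟩ := key t htP
      exact ⟨x, hx, hxa, hxc.trans (h.comp_self ht)⟩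
    refine ⟨?_, fun t ht => ?_⟩
    · refine (h.eq_bot_or_eq_of_conj_mem (K := T ⊓ A) fun t ht y hy => ?_).elim ?_ ?_
      · obtain ⟨hy1, hy2⟩ : y ∈ T ∧ y ∈ A := hy
        obtain ⟨x, hx, hxa, hxc⟩ := hfull t ht
        refine Subgroup.mem_inf.2 ⟨mul_mem (mul_mem ht hy1) (inv_mem ht), ?_⟩
        rw [← hxc, ← h.comp_smul hy1 hx]
        exact mul_mem (mul_mem hxa hy2) (inv_mem (show x ∈ A from hxa))
      · intro e
        rwa [← inf_assoc, inf_idem] at e
      · intro e
        exfalso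
        have hTA : T ≤ A := e.trans inf_le_right
        refine h.ne_bot ((Subgroup.eq_bot_iff_forall _).2 fun y hy => FaithfulSMul.eq_of_smul_eq_smul fun b : Ω => ?_)
        obtain ⟨⟨n, hn⟩, rfl⟩ := MulAction.exists_smul_eq N a b
        have h3 : n⁻¹ * y * n ∈ A := hTA (by simpa using h.conj_mem n⁻¹ (inv_mem hn) y hy)
        change y • n • a = (1 : G) • n • a
        rw [one_smul]
        conv_rhs => rw [← (show (n⁻¹ * y * n) • a = a from h3)]
        rw [smul_smul, smul_smul]
        congr 1; group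
    · obtain ⟨x, hx, hxa, hxc⟩ := hfull t ht
      exact ⟨x, hx, hxa, fun y hy => by rw [h.comp_smul hy hx, hxc]⟩
  · right
    intro x hx hxa g
    exact h1.le (Subgroup.mem_sup_left (Subgroup.subset_closure ⟨x, hx, hxa, g, rfl⟩))

end IsSocleFactor

end CfsgLib.Recog
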