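import Mathlib
import Cfsg.Agent.Lib.Components.Bender
import Cfsg.Agent.Lib.Components.LocalLayer

/-!
# The generalized Fitting part of the Thompson–Wielandt theorem

For two maximal core-free isomorphic subgroups `M`, `N` with non-trivial second cores, a single prime
`r` carries the generalized Fitting subgroups of both, of their first cores and of their second cores.
-/

set_option autoImplicit false
set_option linter.style.haveILetI false
set_option linter.unusedSectionVars false

open scoped commutatorElement Pointwise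

namespace CfsgLib.Recog.TW

open Cfsg Subgroup CfsgLib.Base CfsgLib.Components

variable {G : Type*} [Group G]

/-- The core in `M` of `Y`, as a subgroup of the ambient group. -/
abbrev nCore (M Y : Subgroup G) : Subgroup G := ((Y.subgroupOf M).normalCore).map M.subtype

theorem nCore_le_left (M Y : Subgroup G) : nCore M Y ≤ M := map_subtype_le _

theorem nCore_le (M Y : Subgroup G) : nCore M Y ≤ Y := by
  rintro _ ⟨x, hx, rfl⟩
  exact mem_subgroupOf.1 (normalCore_le _ hx)

theorem le_normalizer_nCore (M Y : Subgroup G) : M ≤ normalizer (nCore M Y : Set G) := by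
  intro m hm
  rw [mem_normalizer_iff]
  intro x
  have hn : ((Y.subgroupOf M).normalCore).Normal := normalCore_normal _
  constructor
  · rintro ⟨y, hy, rfl⟩
    exact ⟨⟨m, hm⟩ * y * ⟨m, hm⟩⁻¹, hn.conj_mem y hy ⟨m, hm⟩, rfl⟩
  · rintro ⟨y, hy, he⟩
    refine ⟨⟨m, hm⟩⁻¹ * y * ⟨m, hm⟩, by simpa using hn.conj_mem y hy ⟨m, hm⟩⁻¹, ?_⟩
    change m⁻¹ * (y : G) * m = x
    rw [show (y : G) = m * x * m⁻¹ from he]
    group

theorem le_nCore {M Y X : Subgroup G} (hXM : X ≤ M) (hXY : X ≤ Y)
    (hX : M ≤ normalizer (X : Set G)) : X ≤ nCore M Y := by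
  haveI : (X.subgroupOf M).Normal := normal_subgroupOf_of_le_normalizer hX
  have h : X.subgroupOf M ≤ (Y.subgroupOf M).normalCore :=
    normal_le_normalCore.mpr fun x hx => mem_subgroupOf.2 (hXY (mem_subgroupOf.1 hx))
  have := map_mono (f := M.subtype) h
  rwa [map_subgroupOf_eq_of_le hXM] at this

/-- The first core of `M` with respect to `N`. -/
abbrev cA (M N : Subgroup G) : Subgroup G := nCore M (M ⊓ N)

/-- The second core of `M` with respect to `N`. -/
abbrev cA2 (M N : Subgroup G) : Subgroup G := nCore M (cA M N ⊓ cA N M)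

theorem cA_le_right (M N : Subgroup G) : cA M N ≤ N := (nCore_le _ _).trans inf_le_right

theorem cA2_le_cA (M N : Subgroup G) : cA2 M N ≤ cA M N := (nCore_le _ _).trans inf_le_left

theorem cA2_le_cA' (M N : Subgroup G) : cA2 M N ≤ cA N M := (nCore_le _ _).trans inf_le_right

/-- The layer of `H` as a subgroup of the ambient group. -/
abbrev layerOf (H : Subgroup G) : Subgroup G := (layer ↥H).map H.subtype

/-- The pieces of the generalized Fitting subgroup: the cores `O_p` and the layer. -/
def Y [Finite G] : Option Nat.Primes → Subgroup G → Subgroup G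
  | some p, H => coreOf (p : ℕ) H
  | none, H => layerOf H

variable [Finite G]

theorem Y_le (i : Option Nat.Primes) (H : Subgroup G) : Y i H ≤ H := by
  cases i <;> exact map_subtype_le _

theorem normalizer_le_normalizer_Y (i : Option Nat.Primes) (H : Subgroup G) :
    normalizer (H : Set G) ≤ normalizer (Y i H : Set G) := by
  cases i <;> exact normalizer_le_normalizer_map_subtype H _

theorem le_normalizer_Y {X H : Subgroup G} (i : Option Nat.Primes)
    (h : X ≤ normalizer (H : Set G)) : X ≤ normalizer (Y i H : Set G) :=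
  h.trans (normalizer_le_normalizer_Y i H)

theorem map_equiv_subgroupOf {A H : Subgroup G} (hAH : A ≤ H) (K : Subgroup A) :
    ((K.map (subgroupOfEquivOfLe hAH).symm.toMonoidHom).map (A.subgroupOf H).subtype).map H.subtype
      = K.map A.subtype := by
  rw [Subgroup.map_map, Subgroup.map_map]
  rfl

theorem Y_le_Y_of_isSubnormal (i : Option Nat.Primes) {A H : Subgroup G} (hAH : A ≤ H)
    (hsn : (A.subgroupOf H).IsSubnormal) : Y i A ≤ Y i H := by
  cases i with
  | none =>
    show layerOf A ≤ layerOf H
    rw [layerOf, ← map_equiv_subgroupOf hAH, layer_map_equiv]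
    exact map_mono (layer_map_subtype_le hsn)
  | some p =>
    show coreOf (p : ℕ) A ≤ coreOf (p : ℕ) H
    haveI := Fact.mk p.2
    rw [coreOf, ← map_equiv_subgroupOf hAH, map_pCore_mulEquiv]
    exact map_mono (map_pCore_le_of_isSubnormal hsn)

theorem Y_le_Y_of_le (i : Option Nat.Primes) {A H : Subgroup G} (hAH : A ≤ H)
    (h : Y i H ≤ A) : Y i H ≤ Y i A := by
  cases i with
  | none =>
    change layerOf H ≤ layerOf A
    rw [layerOf, map_le_iff_le_comap]
    refine layer_le_iff.mpr fun K hK => map_le_iff_le_comap.mp ?_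
    have hKA : K.map H.subtype ≤ A := (map_mono (component_le_layer hK)).trans h
    have h1 : IsComponent ((K.map H.subtype).subgroupOf H) := by
      rw [map_subtype_subgroupOf_self]
      exact hK
    have h2 := map_mono (f := A.subtype)
      (component_le_layer (isComponent_subgroupOf_of_le hKA hAH h1))
    rwa [map_subgroupOf_eq_of_le hKA] at h2
  | some p =>
    haveI := Fact.mk p.2
    exact le_map_pCore h (hAH.trans (le_normalizer_Y (some p) le_normalizer))
      (isPGroup_map_pCore _ H)

theorem card_Y_eq (i : Option Nat.Primes) {M N : Subgroup G} (e : M ≃* N) :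
    Nat.card (Y i M) = Nat.card (Y i N) := by
  cases i with
  | none =>
    show Nat.card (layerOf M) = Nat.card (layerOf N)
    rw [layerOf, layerOf, card_map_subtype, card_map_subtype, ← layer_map_equiv e, card_map_mulEquiv]
  | some p =>
    show Nat.card (coreOf (p : ℕ) M) = Nat.card (coreOf (p : ℕ) N)
    rw [coreOf, coreOf, card_map_subtype, card_map_subtype, ← map_pCore_mulEquiv e,
      card_map_mulEquiv]

theorem le_centralizer_of_inf_eq_bot {X Z : Subgroup G} (hXZ : X ≤ normalizer (Z : Set G))
    (hZX : Z ≤ normalizer (X : Set G)) (h : X ⊓ Z = ⊥) : X ≤ centralizer (Z : Set G) := by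
  rw [← commutator_eq_bot_iff_le_centralizer, eq_bot_iff, ← h, commutator_le]
  intro x hx z hz
  refine mem_inf.mpr ⟨?_, ?_⟩
  · rw [commutatorElement_def, show x * z * x⁻¹ * z⁻¹ = x * (z * x⁻¹ * z⁻¹) by group]
    exact mul_mem hx ((mem_normalizer_iff.mp (hZX hz) x⁻¹).mp (inv_mem hx))
  · rw [commutatorElement_def]
    exact mul_mem ((mem_normalizer_iff.mp (hXZ hx) z).mp hz) (inv_mem hz)

theorem commutator_le_inf_of_normalize {X Z : Subgroup G} (hXZ : X ≤ normalizer (Z : Set G))
    (hZX : Z ≤ normalizer (X : Set G)) : ⁅X, Z⁆ ≤ X ⊓ Z := by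
  rw [commutator_le]
  intro x hx z hz
  refine mem_inf.mpr ⟨?_, ?_⟩
  · rw [commutatorElement_def, show x * z * x⁻¹ * z⁻¹ = x * (z * x⁻¹ * z⁻¹) by group]
    exact mul_mem hx ((mem_normalizer_iff.mp (hZX hz) x⁻¹).mp (inv_mem hx))
  · rw [commutatorElement_def]
    exact mul_mem ((mem_normalizer_iff.mp (hXZ hx) z).mp hz) (inv_mem hz)

theorem layerOf_commutator_self (H : Subgroup G) : ⁅layerOf H, layerOf H⁆ = layerOf H := by
  rw [layerOf, ← map_commutator, layer_commutator_self]

/-- The layer centralises every solvable subgroup that it normalises. -/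
theorem layerOf_le_centralizer_of_isSolvable {H D : Subgroup G} (hD : D ≤ H)
    (hs : Group.IsSolvable ↥D) (hn : layerOf H ≤ normalizer (D : Set G)) :
    layerOf H ≤ centralizer (D : Set G) := by
  haveI := hs
  rw [layerOf, map_le_iff_le_comap]
  refine layer_le_iff.mpr fun K hK => map_le_iff_le_comap.mp ?_
  have hKn : K.map H.subtype ≤ normalizer (D : Set G) := (map_mono (component_le_layer hK)).trans hn
  have h1 : K ≤ normalizer ((D.subgroupOf H : Subgroup H) : Set H) := by
    have := subgroupOf_le_normalizer H hKn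
    rwa [map_subtype_subgroupOf_self] at this
  have hs' : Group.IsSolvable ↥(D.subgroupOf H) :=
    Group.isSolvable_of_isSolvable_injective (f := (subgroupOfEquivOfLe hD).toMonoidHom)
      (subgroupOfEquivOfLe hD).injective
  have h2 := congrArg (Subgroup.map H.subtype)
    (component_commutator_eq_bot_of_normalizes hK hs' h1)
  rwa [map_commutator, map_subgroupOf_eq_of_le hD, Subgroup.map_bot,
    commutator_eq_bot_iff_le_centralizer] at h2

/-- A perfect subgroup centralises a subgroup with which it shares normalisation as soon as it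
centralises their intersection. -/
theorem le_centralizer_of_perfect {K X : Subgroup G} (hK : ⁅K, K⁆ = K)
    (hKX : K ≤ normalizer (X : Set G)) (hXK : X ≤ normalizer (K : Set G))
    (h : K ≤ centralizer ((K ⊓ X : Subgroup G) : Set G)) : K ≤ centralizer (X : Set G) := by
  rw [← commutator_eq_bot_iff_le_centralizer]
  refine commutator_eq_bot_of_perfect hK ?_
  rw [eq_bot_iff, ← commutator_eq_bot_iff_le_centralizer.mpr h, commutator_comm K (K ⊓ X)]
  exact commutator_mono (commutator_le_inf_of_normalize hKX hXK) le_rfl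

theorem Y_le_centralizer_Y {i j : Option Nat.Primes} (hij : i ≠ j) (H : Subgroup G) :
    Y i H ≤ centralizer (Y j H : Set G) := by
  have hni : ∀ k l, Y k H ≤ normalizer (Y l H : Set G) := fun k l =>
    le_normalizer_Y l ((Y_le k H).trans le_normalizer)
  have key : ∀ p : Nat.Primes, layerOf H ≤ centralizer (coreOf (p : ℕ) H : Set G) := fun p => by
    haveI := Fact.mk p.2
    haveI := (isPGroup_map_pCore (p : ℕ) H).isNilpotent
    exact layerOf_le_centralizer_of_isSolvable (map_subtype_le _) inferInstance (hni none (some p))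
  cases i with
  | none =>
    cases j with
    | none => exact absurd rfl hij
    | some p => exact key p
  | some p =>
    cases j with
    | none => exact le_centralizer_iff.mp (key p)
    | some q =>
      haveI := Fact.mk p.2
      haveI := Fact.mk q.2
      have hpq : (p : ℕ) ≠ q := fun h => hij (congrArg some (Subtype.ext h))
      exact le_centralizer_of_inf_eq_bot (hni _ _) (hni _ _) (disjoint_iff.mp
        (IsPGroup.disjoint_of_ne _ _ hpq _ _ (isPGroup_map_pCore _ H) (isPGroup_map_pCore _ H)))

theorem exists_Y_ne_bot {H : Subgroup G} (hH : H ≠ ⊥) : ∃ i, Y i H ≠ ⊥ := by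
  by_contra hc
  push Not at hc
  have hl : layer ↥H = ⊥ := (Subgroup.map_eq_bot_iff_of_injective _ H.subtype_injective).mp (hc none)
  have hf : fittingSubgroup ↥H = ⊥ := by
    rw [fittingSubgroup_eq_iSup_pCore, iSup_eq_bot]
    exact fun p => (Subgroup.map_eq_bot_iff_of_injective _ H.subtype_injective).mp (hc (some p))
  have := centralizer_fstar_le_fitting (G := ↥H)
  rw [generalizedFittingSubgroup, hl, hf, bot_sup_eq] at this
  refine hH (eq_bot_iff.mpr fun x hx => ?_)
  have h1 : (⟨x, hx⟩ : H) ∈ (⊥ : Subgroup H) :=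
    this (mem_centralizer_iff.mpr fun y hy => by rw [mem_bot.mp hy, one_mul, mul_one])
  exact mem_bot.mpr (congrArg Subtype.val (mem_bot.mp h1))

theorem fstar_eq_pCore_of_Y {H : Subgroup G} (r : Nat.Primes)
    (h : ∀ i, i ≠ some r → Y i H = ⊥) :
    generalizedFittingSubgroup ↥H = pCore (r : ℕ) ↥H := by
  haveI := Fact.mk r.2
  have hl : layer ↥H = ⊥ :=
    (Subgroup.map_eq_bot_iff_of_injective _ H.subtype_injective).mp (h none (Option.some_ne_none r).symm)
  refine le_antisymm ?_ ((pCore_le_fittingSubgroup _ _).trans fitting_le_fstar)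
  rw [generalizedFittingSubgroup, hl, bot_sup_eq, fittingSubgroup_eq_iSup_pCore]
  refine iSup_le fun p => ?_
  by_cases hp : p = r
  · rw [hp]
  · rw [(Subgroup.map_eq_bot_iff_of_injective _ H.subtype_injective).mp
      (h (some p) fun he => hp (Option.some.inj he))]
    exact bot_le

/-! ## Two maximal subgroups -/

/-- Two distinct isomorphic maximal subgroups with trivial core. -/
structure Hyp (M N : Subgroup G) : Prop where
  hM : IsCoatom M
  hN : IsCoatom N
  cM : M.normalCore = ⊥
  cN : N.normalCore = ⊥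
  ne : M ≠ N
  iso : Nonempty (M ≃* N)

variable {M N : Subgroup G}

theorem Hyp.symm (h : Hyp M N) : Hyp N M :=
  ⟨h.hN, h.hM, h.cN, h.cM, h.ne.symm, h.iso.map MulEquiv.symm⟩

theorem normalizer_eq {X : Subgroup G} (hM : IsCoatom M) (cM : M.normalCore = ⊥) (hXM : X ≤ M)
    (hX : X ≠ ⊥) (hn : M ≤ normalizer (X : Set G)) : normalizer (X : Set G) = M := by
  by_contra hne
  have htop : normalizer (X : Set G) = ⊤ := hM.2 _ (lt_of_le_of_ne hn (Ne.symm hne))
  haveI : X.Normal := normalizer_eq_top_iff.1 htop
  exact hX (le_bot_iff.1 (cM ▸ normal_le_normalCore.mpr hXM))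

theorem Hyp.eq_bot_of_normalized (h : Hyp M N) {X : Subgroup G} (hXM : X ≤ M)
    (h1 : M ≤ normalizer (X : Set G)) (h2 : N ≤ normalizer (X : Set G)) : X = ⊥ := by
  by_contra hX
  have := normalizer_eq h.hM h.cM hXM hX h1
  rw [this] at h2
  exact h.hM.1 ((h.hN.le_iff.1 h2).resolve_right (fun he => h.ne he))

theorem cA2_subgroupOf_isSubnormal (M N : Subgroup G) :
    ((cA2 M N).subgroupOf N).IsSubnormal := by
  haveI : ((cA N M).subgroupOf N).Normal :=
    normal_subgroupOf_of_le_normalizer (le_normalizer_nCore N _)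
  refine IsSubnormal.step _ ((cA N M).subgroupOf N)
    (fun x hx => mem_subgroupOf.2 (cA2_le_cA' M N (mem_subgroupOf.1 hx)))
    (Normal.isSubnormal inferInstance) (normal_subgroupOf_of_le_normalizer ?_)
  exact subgroupOf_le_normalizer N ((cA_le_right N M).trans (le_normalizer_nCore M _))

theorem normal_cA2_subgroupOf (M N : Subgroup G) :
    ((cA2 N M).subgroupOf (cA M N)).Normal :=
  normal_subgroupOf_of_le_normalizer ((cA_le_right M N).trans (le_normalizer_nCore N _))

theorem Y_cA2_le (i : Option Nat.Primes) (M N : Subgroup G) : Y i (cA2 M N) ≤ Y i N :=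
  Y_le_Y_of_isSubnormal i ((cA2_le_cA' M N).trans (nCore_le_left _ _))
    (cA2_subgroupOf_isSubnormal M N)

theorem Y_cA2_le_cA (i : Option Nat.Primes) (M N : Subgroup G) : Y i (cA2 N M) ≤ Y i (cA M N) :=
  Y_le_Y_of_isSubnormal i (cA2_le_cA' N M) (normal_cA2_subgroupOf M N).isSubnormal

theorem Y_cA_le (i : Option Nat.Primes) (M N : Subgroup G) : Y i (cA M N) ≤ Y i M :=
  Y_le_Y_of_isSubnormal i (nCore_le_left _ _)
    (normal_subgroupOf_of_le_normalizer (le_normalizer_nCore M _)).isSubnormal

theorem Hyp.normalizer_Y_cA2 (h : Hyp M N) {r : Option Nat.Primes} (hr : Y r (cA2 M N) ≠ ⊥) :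
    normalizer (Y r (cA2 M N) : Set G) = M :=
  normalizer_eq h.hM h.cM ((Y_le _ _).trans (nCore_le_left _ _)) hr
    (le_normalizer_Y r (le_normalizer_nCore _ _))

theorem Hyp.centralizer_Y_cA2_le (h : Hyp M N) {r : Option Nat.Primes} (hr : Y r (cA2 M N) ≠ ⊥) :
    centralizer (Y r (cA2 M N) : Set G) ≤ M :=
  le_of_le_of_eq (centralizer_le_normalizer _) (h.normalizer_Y_cA2 hr)

/-- The layer of `N` lies in `M` when the second core of `M` has a component. -/
theorem Hyp.layerOf_le (h : Hyp M N) (hr : Y none (cA2 M N) ≠ ⊥) : layerOf N ≤ M := by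
  rw [layerOf, map_le_iff_le_comap]
  refine layer_le_iff.mpr fun K hK => map_le_iff_le_comap.mp ?_
  have hA2N : cA2 M N ≤ N := (cA2_le_cA' M N).trans (nCore_le_left _ _)
  rcases component_le_or_commutator_eq_bot hK (cA2_subgroupOf_isSubnormal M N) with h1 | h1
  · have := map_mono (f := N.subtype) h1
    rw [map_subgroupOf_eq_of_le hA2N] at this
    exact this.trans (nCore_le_left _ _)
  · have := congrArg (Subgroup.map N.subtype) h1
    rw [map_commutator, map_subgroupOf_eq_of_le hA2N, Subgroup.map_bot,
      commutator_eq_bot_iff_le_centralizer] at this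
    exact (this.trans (centralizer_le (Y_le none _))).trans (h.centralizer_Y_cA2_le hr)

/-- The key lemma: an `r`-part in the second core forces every other part of the first core
into the second core. -/
theorem Hyp.Y_cA_le_cA2 (h : Hyp M N) {r q : Option Nat.Primes} (hqr : q ≠ r)
    (hr : Y r (cA2 M N) ≠ ⊥) : Y q (cA M N) ≤ cA2 M N := by
  set P := Y q (cA M N) with hP
  set R := Y r N with hR
  have hPA : P ≤ cA M N := Y_le _ _
  have hPM : P ≤ M := hPA.trans (nCore_le_left _ _)
  have hPN : P ≤ N := hPA.trans (cA_le_right _ _)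
  have hMP : M ≤ normalizer (P : Set G) := le_normalizer_Y q (le_normalizer_nCore _ _)
  have hNR : N ≤ normalizer (R : Set G) := le_normalizer_Y r le_normalizer
  have hTR : Y r (cA2 M N) ≤ R := Y_cA2_le r M N
  have hTM : Y r (cA2 M N) ≤ M := (Y_le _ _).trans (nCore_le_left _ _)
  have hPR : P ≤ centralizer (R : Set G) := by
    cases r with
    | none =>
      cases q with
      | none => exact absurd rfl hqr
      | some q =>
        haveI := Fact.mk q.2
        have hRM : R ≤ M := h.layerOf_le hr
        haveI : Group.IsNilpotent ↥((R ⊓ P : Subgroup G)) :=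
          (IsPGroup.to_le (isPGroup_map_pCore (q : ℕ) (cA M N)) inf_le_right).isNilpotent
        have hD : R ≤ centralizer ((R ⊓ P : Subgroup G) : Set G) :=
          layerOf_le_centralizer_of_isSolvable (H := N) (inf_le_right.trans hPN) inferInstance
            ((le_inf le_normalizer (hRM.trans hMP)).trans inf_normalizer_le_normalizer_inf)
        exact le_centralizer_iff.mp (le_centralizer_of_perfect (layerOf_commutator_self N)
          (hRM.trans hMP) (hPN.trans hNR) hD)
    | some r =>
      haveI := Fact.mk r.2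
      set S := R ⊓ M with hS
      have hRp : IsPGroup (r : ℕ) R := isPGroup_map_pCore _ N
      have hSp : IsPGroup (r : ℕ) S := hRp.to_le inf_le_left
      have hPS : P ≤ normalizer (S : Set G) :=
        (le_inf (hPN.trans hNR) (hPM.trans le_normalizer)).trans inf_normalizer_le_normalizer_inf
      have hSP : S ≤ normalizer (P : Set G) := inf_le_right.trans hMP
      have hfix : R ⊓ centralizer (S : Set G) ≤ S :=
        le_inf inf_le_left ((inf_le_right.trans (centralizer_le (le_inf hTR hTM))).trans
          (h.centralizer_Y_cA2_le hr))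
      have hSR : S ≤ normalizer (R : Set G) := inf_le_left.trans le_normalizer
      cases q with
      | none =>
        haveI : Group.IsNilpotent ↥((P ⊓ S : Subgroup G)) :=
          (hSp.to_le inf_le_right).isNilpotent
        have hD : P ≤ centralizer ((P ⊓ S : Subgroup G) : Set G) :=
          layerOf_le_centralizer_of_isSolvable (H := cA M N) (inf_le_left.trans hPA) inferInstance
            ((le_inf le_normalizer hPS).trans inf_normalizer_le_normalizer_inf)
        have hc := le_centralizer_of_perfect (layerOf_commutator_self (cA M N)) hPS hSP hD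
        refine le_of_perfect_of_pPrime_elements (p := (r : ℕ)) (layerOf_commutator_self (cA M N))
          fun x hx hord => mem_centralizer_of_pTimesQ hSp hRp hSR hord (hc hx)
            (hPN.trans hNR hx) fun y hy => mem_centralizer_singleton_iff.mpr
              (mem_centralizer_iff.mp (hc hx) y (hfix hy))
      | some q =>
        haveI := Fact.mk q.2
        have hne : (q : ℕ) ≠ r := fun he => hqr (congrArg some (Subtype.ext he))
        have hPp : IsPGroup (q : ℕ) P := isPGroup_map_pCore _ _
        have hc := le_centralizer_of_inf_eq_bot hPS hSP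
          (disjoint_iff.mp (IsPGroup.disjoint_of_ne _ _ hne _ _ hPp hSp))
        obtain ⟨n, hn⟩ := IsPGroup.iff_card.mp hPp
        refine le_centralizer_of_pTimesQ hSp hRp hSR ?_ hc (hPN.trans hNR) ?_
        · rw [hn]
          exact ((Nat.coprime_primes q.2 r.2).mpr hne).pow_left n
        · exact hc.trans (centralizer_le hfix)
  set C := N ⊓ centralizer (R : Set G) with hC
  have hCM : C ≤ M :=
    (inf_le_right.trans (centralizer_le hTR)).trans (h.centralizer_Y_cA2_le hr)
  have hCn : N ≤ normalizer (C : Set G) :=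
    (le_inf le_normalizer (hNR.trans (CfsgLib.PLocal.normalizer_le_centralizer_normalizer _))).trans
      inf_normalizer_le_normalizer_inf
  have hCB : C ≤ cA N M := le_nCore inf_le_left (le_inf inf_le_left hCM) hCn
  exact le_nCore hPM (le_inf hPA ((le_inf hPN hPR).trans hCB)) hMP

/-- Two different parts cannot both occur in the second cores. -/
theorem Hyp.part_unique (h : Hyp M N) {r s : Option Nat.Primes} (hr : Y r (cA2 M N) ≠ ⊥)
    (hs : Y s (cA2 N M) ≠ ⊥) : r = s := by
  by_contra hrs
  -- both parts occur on both sides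
  have hs' : Y s (cA2 M N) ≠ ⊥ := by
    intro h0
    apply hs
    rw [eq_bot_iff, ← h0]
    exact (Y_cA2_le_cA s M N).trans
      (Y_le_Y_of_le s (cA2_le_cA M N) (h.Y_cA_le_cA2 (Ne.symm hrs) hr))
  set U := Y s (cA2 N M) with hU
  have hR1 : Y r M ≤ N := by
    refine le_trans ?_ (h.symm.centralizer_Y_cA2_le hs)
    exact (Y_le_centralizer_Y hrs M).trans
      (centralizer_le ((Y_cA2_le_cA s M N).trans (Y_cA_le s M N)))
  have hMR : M ≤ normalizer (Y r M : Set G) := le_normalizer_Y r le_normalizer
  have hA1 : Y r M ≤ cA M N := le_nCore (Y_le _ _) (le_inf (Y_le _ _) hR1) hMR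
  have hle : Y r M ≤ Y r (cA M N) := Y_le_Y_of_le r (nCore_le_left _ _) hA1
  have hA2 : Y r M ≤ cA2 M N := hle.trans (h.Y_cA_le_cA2 hrs hs')
  have hRN : Y r M ≤ Y r N :=
    (Y_le_Y_of_le r (nCore_le_left _ _) hA2).trans (Y_cA2_le r M N)
  obtain ⟨e⟩ := h.iso
  have heq : Y r M = Y r N := eq_of_le_of_card_ge hRN (card_Y_eq r e).ge
  have h0 : Y r M = ⊥ := h.eq_bot_of_normalized (Y_le _ _) hMR
    (heq ▸ le_normalizer_Y r le_normalizer)
  refine hr (eq_bot_iff.mpr ?_)
  rw [← h0]
  exact Y_le_Y_of_isSubnormal r (nCore_le_left _ _)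
    (normal_subgroupOf_of_le_normalizer (le_normalizer_nCore M _)).isSubnormal

theorem Hyp.Y_cA_eq_bot (h : Hyp M N) {r q : Option Nat.Primes} (hr : Y r (cA2 M N) ≠ ⊥)
    (hr' : Y r (cA2 N M) ≠ ⊥) (hqr : q ≠ r) : Y q (cA M N) = ⊥ := by
  have h2 : Y q (cA2 M N) = ⊥ := by
    by_contra hq
    exact hqr (h.part_unique hq hr')
  rw [eq_bot_iff, ← h2]
  exact Y_le_Y_of_le q (cA2_le_cA M N) (h.Y_cA_le_cA2 hqr hr)

theorem Hyp.Y_eq_bot (h : Hyp M N) {r q : Option Nat.Primes} (hr : Y r (cA2 M N) ≠ ⊥)
    (hr' : Y r (cA2 N M) ≠ ⊥) (hqr : q ≠ r) : Y q M = ⊥ := by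
  have hR1 : Y q M ≤ N := by
    refine le_trans ?_ (h.symm.centralizer_Y_cA2_le hr')
    exact (Y_le_centralizer_Y hqr M).trans
      (centralizer_le ((Y_cA2_le_cA r M N).trans (Y_cA_le r M N)))
  rw [eq_bot_iff, ← h.Y_cA_eq_bot hr hr' hqr]
  exact Y_le_Y_of_le q (nCore_le_left _ _)
    (le_nCore (Y_le _ _) (le_inf (Y_le _ _) hR1) (le_normalizer_Y q le_normalizer))

/-- The layer cannot be the surviving part. -/
theorem Hyp.not_layer (h : Hyp M N) (hr : Y none (cA2 M N) ≠ ⊥)
    (hr' : Y none (cA2 N M) ≠ ⊥) : False := by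
  have h1 : layerOf N ≤ M := h.layerOf_le hr
  have h2 : layerOf M ≤ N := h.symm.layerOf_le hr'
  have hfit : fittingSubgroup ↥N = ⊥ := by
    rw [fittingSubgroup_eq_iSup_pCore, iSup_eq_bot]
    exact fun p => (Subgroup.map_eq_bot_iff_of_injective _ N.subtype_injective).mp
      (h.symm.Y_eq_bot hr' hr (Option.some_ne_none p))
  have hcent : N ⊓ centralizer (layerOf N : Set G) = ⊥ := by
    rw [eq_bot_iff]
    intro x hx
    obtain ⟨hxN, hxC⟩ := mem_inf.mp hx
    have h3 : (⟨x, hxN⟩ : N) ∈ fittingSubgroup ↥N := by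
      refine centralizer_fstar_le_fitting ?_
      rw [generalizedFittingSubgroup, hfit, sup_bot_eq]
      exact mem_centralizer_iff.mpr fun y hy =>
        Subtype.ext (mem_centralizer_iff.mp hxC y ⟨y, hy, rfl⟩)
    rw [hfit] at h3
    exact mem_bot.mpr (congrArg Subtype.val (mem_bot.mp h3))
  have hI : layerOf M ≤ layerOf N := by
    rw [layerOf, map_le_iff_le_comap]
    refine layer_le_iff.mpr fun K hK => map_le_iff_le_comap.mp ?_
    set L := K.map M.subtype with hL
    have hLM : L ≤ M := map_subtype_le _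
    have hLN : L ≤ N := (map_mono (component_le_layer hK)).trans h2
    have hLI : L ≤ M ⊓ N := le_inf hLM hLN
    have hEI : layerOf N ≤ M ⊓ N := le_inf h1 (map_subtype_le _)
    have hLc : IsComponent (L.subgroupOf M) := by
      rw [hL, map_subtype_subgroupOf_self]; exact hK
    haveI : ((layerOf N).subgroupOf (M ⊓ N)).Normal :=
      normal_subgroupOf_of_le_normalizer
        (inf_le_right.trans (le_normalizer_Y none le_normalizer))
    rcases component_le_or_commutator_eq_bot
        (isComponent_subgroupOf_of_le hLI inf_le_left hLc)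
        (Normal.isSubnormal (inferInstance : ((layerOf N).subgroupOf (M ⊓ N)).Normal)) with h3 | h3
    · have := map_mono (f := (M ⊓ N).subtype) h3
      rwa [map_subgroupOf_eq_of_le hLI, map_subgroupOf_eq_of_le hEI] at this
    · have h4 := congrArg (Subgroup.map (M ⊓ N).subtype) h3
      rw [map_commutator, map_subgroupOf_eq_of_le hLI, map_subgroupOf_eq_of_le hEI,
        Subgroup.map_bot, commutator_eq_bot_iff_le_centralizer] at h4
      have h5 : L = ⊥ := le_bot_iff.mp ((le_inf hLN h4).trans hcent.le)
      exact h5 ▸ bot_le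
  obtain ⟨e⟩ := h.iso
  have heq : layerOf M = layerOf N := eq_of_le_of_card_ge hI (card_Y_eq none e).ge
  have h0 : layerOf M = ⊥ := h.eq_bot_of_normalized (map_subtype_le _)
    (le_normalizer_Y none le_normalizer) (heq ▸ le_normalizer_Y none le_normalizer)
  refine hr (eq_bot_iff.mpr ?_)
  rw [← h0]
  exact Y_le_Y_of_isSubnormal none (nCore_le_left _ _)
    (normal_subgroupOf_of_le_normalizer (le_normalizer_nCore M _)).isSubnormal

/-- The generalized Fitting part of the Thompson–Wielandt theorem. -/
theorem Hyp.exists_prime (h : Hyp M N) (hA : cA2 M N ≠ ⊥) (hB : cA2 N M ≠ ⊥) :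
    ∃ r : ℕ, r.Prime ∧
      generalizedFittingSubgroup ↥M = pCore r ↥M ∧
      generalizedFittingSubgroup ↥(cA M N) = pCore r ↥(cA M N) ∧
      generalizedFittingSubgroup ↥N = pCore r ↥N ∧
      generalizedFittingSubgroup ↥(cA N M) = pCore r ↥(cA N M) ∧
      coreOf r (cA2 M N) ≠ ⊥ ∧ coreOf r (cA2 N M) ≠ ⊥ := by
  obtain ⟨i, hi⟩ := exists_Y_ne_bot hA
  obtain ⟨j, hj⟩ := exists_Y_ne_bot hB
  obtain rfl := h.part_unique hi hj
  cases i with
  | none => exact (h.not_layer hi hj).elim
  | some r =>
    exact ⟨r, r.2, fstar_eq_pCore_of_Y r fun _ hq => h.Y_eq_bot hi hj hq,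
      fstar_eq_pCore_of_Y r fun _ hq => h.Y_cA_eq_bot hi hj hq,
      fstar_eq_pCore_of_Y r fun _ hq => h.symm.Y_eq_bot hj hi hq,
      fstar_eq_pCore_of_Y r fun _ hq => h.symm.Y_cA_eq_bot hj hi hq, hi, hj⟩

end CfsgLib.Recog.TW
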