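import Mathlib
import Cfsg.Agent.Lib.Recog.ThompsonWielandt
import Cfsg.Agent.Lib.Recog.PrimitiveSmallOrbit

/-!
# Order bound for point stabilisers with a trivial second core
-/

set_option autoImplicit false
set_option linter.style.haveILetI false
set_option linter.unusedSectionVars false

open MulAction
open scoped Pointwise

namespace CfsgLib.Recog.TW

open Cfsg CfsgLib.Base CfsgLib.Components

variable {G Ω : Type*} [Group G] [MulAction G Ω]

theorem le_normalizer_fixingSubgroup {H : Subgroup G} {s : Set Ω}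
    (hs : ∀ h ∈ H, ∀ x ∈ s, h • x ∈ s) :
    H ≤ Subgroup.normalizer (fixingSubgroup G s : Set G) := by
  refine le_normalizer_of_conj_mem fun h hh g hg => ?_
  rw [mem_fixingSubgroup_iff] at hg ⊢
  intro x hx
  rw [mul_smul, mul_smul, hg _ (hs _ (inv_mem hh) _ hx), smul_inv_smul]

/-- The kernel of the stabiliser of `a` on the orbit of `b`, as a subgroup of the group. -/
abbrev orbitKer (G : Type*) {Ω : Type*} [Group G] [MulAction G Ω] (a b : Ω) : Subgroup G :=
  stabilizer G a ⊓ fixingSubgroup G (orbit (stabilizer G a) b : Set Ω)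

theorem smul_mem_orbit_stabilizer {a b : Ω} {g : G} (hg : g ∈ stabilizer G a) {x : Ω}
    (hx : x ∈ orbit (stabilizer G a) b) : g • x ∈ orbit (stabilizer G a) b := by
  obtain ⟨m, rfl⟩ := hx
  exact ⟨⟨g, hg⟩ * m, mul_smul (⟨g, hg⟩ : stabilizer G a) m b⟩

theorem orbitKer_le_right (a b : Ω) : orbitKer G a b ≤ stabilizer G b := fun g hg =>
  mem_stabilizer_iff.mpr ((mem_fixingSubgroup_iff G).mp hg.2 b (mem_orbit_self b))

theorem le_normalizer_orbitKer (a b : Ω) :
    stabilizer G a ≤ Subgroup.normalizer (orbitKer G a b : Set G) :=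
  (le_inf Subgroup.le_normalizer (le_normalizer_fixingSubgroup
    fun _ hg _ hx => smul_mem_orbit_stabilizer hg hx)).trans Subgroup.inf_normalizer_le_normalizer_inf

theorem orbitKer_le_cA (a b : Ω) :
    orbitKer G a b ≤ cA (stabilizer G a) (stabilizer G b) :=
  le_nCore inf_le_left (le_inf inf_le_left (orbitKer_le_right a b)) (le_normalizer_orbitKer a b)

theorem ker_toPermHom_orbit (a b : Ω) :
    (toPermHom (stabilizer G a) (orbit (stabilizer G a) b)).ker =
      (orbitKer G a b).subgroupOf (stabilizer G a) := by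
  ext g
  rw [MonoidHom.mem_ker, Subgroup.mem_subgroupOf, Equiv.Perm.ext_iff]
  constructor
  · intro h
    exact ⟨g.2, (mem_fixingSubgroup_iff G).mpr fun x hx => congrArg Subtype.val (h ⟨x, hx⟩)⟩
  · intro h x
    exact Subtype.ext ((mem_fixingSubgroup_iff G).mp h.2 x x.2)

variable [Finite G]

theorem card_stabilizer_eq_card_orbit_mul (a b : Ω) :
    Nat.card (stabilizer G a) = Nat.card (orbit (stabilizer G a) b) *
      Nat.card (stabilizer G a ⊓ stabilizer G b : Subgroup G) := by
  rw [← Nat.card_congr (orbitProdStabilizerEquivGroup (stabilizer G a) b), Nat.card_prod]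
  congr 1
  have h : (stabilizer (stabilizer G a) b).map (stabilizer G a).subtype =
      stabilizer G a ⊓ stabilizer G b := by
    ext g
    constructor
    · rintro ⟨m, hm, rfl⟩
      exact ⟨m.2, hm⟩
    · intro hg
      exact ⟨⟨g, hg.1⟩, hg.2, rfl⟩
  rw [← h, card_map_subtype]

theorem card_orbit_stabilizer_symm [IsPretransitive G Ω] (a b : Ω) :
    Nat.card (orbit (stabilizer G a) b) = Nat.card (orbit (stabilizer G b) a) := by
  have h1 := card_stabilizer_eq_card_orbit_mul (G := G) a b
  have h2 := card_stabilizer_eq_card_orbit_mul (G := G) b a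
  rw [inf_comm] at h2
  have h3 : Nat.card (stabilizer G a ⊓ stabilizer G b : Subgroup G) ≠ 0 := Nat.card_pos.ne'
  exact mul_right_cancel₀ h3 (h1.symm.trans ((card_stabilizer_eq a b).trans h2))

theorem card_stabilizer_dvd [Finite Ω] (a b : Ω) :
    Nat.card (stabilizer G a) ∣
      (Nat.card (orbit (stabilizer G a) b)).factorial * Nat.card (orbitKer G a b) := by
  set φ := toPermHom (stabilizer G a) (orbit (stabilizer G a) b) with hφ
  have h1 : Nat.card φ.ker = Nat.card (orbitKer G a b) := by
    rw [hφ, ker_toPermHom_orbit, card_subgroupOf inf_le_left]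
  rw [← Subgroup.card_mul_index φ.ker, Subgroup.index_ker, h1, mul_comm, ← Nat.card_perm]
  exact mul_dvd_mul_right (Subgroup.card_subgroup_dvd_card φ.range) _

/-- The kernel on the orbit, modulo the second core, maps into a power of a symmetric group of
degree one less than the suborbit. -/
theorem exists_orbitKer_hom [Finite Ω] [IsPretransitive G Ω] (a b : Ω) (d : ℕ)
    (hd : Nat.card (orbit (stabilizer G a) b) = d) :
    ∃ Φ : orbitKer G a b →* (orbit (stabilizer G a) b → Equiv.Perm (Fin (d - 1))),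
      Φ.ker.map (orbitKer G a b).subtype ≤ cA2 (stabilizer G a) (stabilizer G b) := by
  classical
  set O := orbit (stabilizer G a) b with hO
  let D : O → Set Ω := fun c => orbit (stabilizer G (c : Ω)) a \ {a}
  have hKc : ∀ k : orbitKer G a b, ∀ c : O, (k : G) ∈ stabilizer G (c : Ω) := fun k c =>
    mem_stabilizer_iff.mpr ((mem_fixingSubgroup_iff G).mp k.2.2 c c.2)
  have hinv : ∀ k : orbitKer G a b, ∀ c : O, ∀ x : Ω, (k : G) • x ∈ D c ↔ x ∈ D c := by
    have hone : ∀ k : orbitKer G a b, ∀ c : O, ∀ x : Ω, x ∈ D c → (k : G) • x ∈ D c := by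
      rintro k c x ⟨hx, hxa⟩
      refine ⟨smul_mem_orbit_stabilizer (hKc k c) hx, fun he => hxa ?_⟩
      exact (smul_eq_iff_eq_inv_smul _).mp he |>.trans (mem_stabilizer_iff.mp (inv_mem k.2.1))
    intro k c x
    refine ⟨fun h => ?_, hone k c x⟩
    have := hone k⁻¹ c _ h
    rwa [Subgroup.coe_inv, inv_smul_smul] at this
  let Φ : orbitKer G a b →* (∀ c : O, Equiv.Perm (D c)) :=
    { toFun := fun k c => (MulAction.toPerm (k : G)).subtypePerm (p := fun x => x ∈ D c) (hinv k c)
      map_one' := by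
        funext c
        ext x
        exact one_smul G (x : Ω)
      map_mul' := fun k l => by
        funext c
        ext x
        exact mul_smul (k : G) (l : G) (x : Ω) }
  have hker : Φ.ker.map (orbitKer G a b).subtype ≤ cA2 (stabilizer G a) (stabilizer G b) := by
    let W : Subgroup G :=
      orbitKer G a b ⊓ fixingSubgroup G (⋃ c : O, orbit (stabilizer G (c : Ω)) a)
    have hW : stabilizer G a ≤ Subgroup.normalizer (W : Set G) := by
      refine (le_inf (le_normalizer_orbitKer a b) (le_normalizer_fixingSubgroup ?_)).trans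
        Subgroup.inf_normalizer_le_normalizer_inf
      intro m hm x hx
      obtain ⟨c, n, rfl⟩ := Set.mem_iUnion.mp hx
      refine Set.mem_iUnion.mpr ⟨⟨m • (c : Ω), smul_mem_orbit_stabilizer hm c.2⟩,
        ⟨m * (n : G) * m⁻¹, ?_⟩, ?_⟩
      · rw [mem_stabilizer_iff, mul_smul, mul_smul, inv_smul_smul, mem_stabilizer_iff.mp n.2]
      · change (m * (n : G) * m⁻¹) • a = m • ((n : G) • a)
        rw [mul_smul, mul_smul, mem_stabilizer_iff.mp (inv_mem hm)]
    have hW2 : W ≤ cA (stabilizer G b) (stabilizer G a) := by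
      refine le_trans (fun g (hg : g ∈ W) => ?_) (orbitKer_le_cA (G := G) b a)
      refine Subgroup.mem_inf.mpr ⟨orbitKer_le_right a b hg.1,
        (mem_fixingSubgroup_iff G).mpr fun x hx => ?_⟩
      exact (mem_fixingSubgroup_iff G).mp hg.2 x
        (Set.mem_iUnion.mpr ⟨⟨b, mem_orbit_self b⟩, hx⟩)
    have hW0 : W ≤ cA2 (stabilizer G a) (stabilizer G b) := le_nCore (inf_le_left.trans inf_le_left)
      (le_inf (inf_le_left.trans (orbitKer_le_cA a b)) hW2) hW
    refine le_trans ?_ hW0
    rintro _ ⟨k, hk, rfl⟩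
    have hmem : (k : G) ∈ W := by
      refine ⟨k.2, (mem_fixingSubgroup_iff G).mpr fun x hx => ?_⟩
      obtain ⟨c, hc⟩ := Set.mem_iUnion.mp hx
      by_cases hxa : x = a
      · rw [hxa]; exact mem_stabilizer_iff.mp k.2.1
      · exact congrArg Subtype.val
          (Equiv.Perm.ext_iff.mp (congrFun (MonoidHom.mem_ker.mp hk) c) ⟨x, hc, hxa⟩)
    exact hmem
  have hcard : ∀ c : O, Nat.card (D c) = d - 1 := fun c => by
    rw [Nat.card_coe_set_eq]
    rw [Set.ncard_sdiff_singleton_of_mem (mem_orbit_self a), ← Nat.card_coe_set_eq,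
      ← card_orbit_stabilizer_symm a (c : Ω), ← hd]
    obtain ⟨m, hm⟩ := c.2
    rw [← hm, orbit_smul]
  let e : ∀ c : O, Equiv.Perm (D c) ≃* Equiv.Perm (Fin (d - 1)) := fun c =>
    (Finite.equivFinOfCardEq (hcard c)).permCongrHom
  refine ⟨(MulEquiv.piCongrRight e).toMonoidHom.comp Φ, ?_⟩
  rwa [show ((MulEquiv.piCongrRight e).toMonoidHom.comp Φ).ker = Φ.ker from by
    ext k
    rw [MonoidHom.mem_ker, MonoidHom.mem_ker, MonoidHom.comp_apply, MulEquiv.coe_toMonoidHom,
      MulEquiv.map_eq_one_iff]]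

/-- The kernel on the orbit, modulo the second core, has order dividing a power of a factorial. -/
theorem card_orbitKer_dvd [Finite Ω] [IsPretransitive G Ω] (a b : Ω) (d : ℕ)
    (hd : Nat.card (orbit (stabilizer G a) b) = d) :
    Nat.card (orbitKer G a b) ∣
      ((d - 1).factorial) ^ d * Nat.card (cA2 (stabilizer G a) (stabilizer G b)) := by
  classical
  obtain ⟨Φ, hΦ⟩ := exists_orbitKer_hom (G := G) a b d hd
  rw [← Subgroup.card_mul_index Φ.ker, Subgroup.index_ker, mul_comm]
  refine mul_dvd_mul ((Subgroup.card_subgroup_dvd_card Φ.range).trans ?_)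
    (card_map_subtype Φ.ker ▸ Subgroup.card_dvd_of_le hΦ)
  haveI : Fintype (orbit (stabilizer G a) b) := Fintype.ofFinite _
  rw [Nat.card_pi, Finset.prod_const, Finset.card_univ, ← Nat.card_eq_fintype_card, hd,
    Nat.card_perm, Nat.card_fin]

theorem hyp_stabilizer [FaithfulSMul G Ω] [IsPreprimitive G Ω] {a b : Ω}
    (h2 : 2 ≤ Nat.card (orbit (stabilizer G a) b)) :
    Hyp (stabilizer G a) (stabilizer G b) := by
  have hab : a ≠ b := by
    rintro rfl
    have h1 : Nat.card (orbit (stabilizer G a) a) = 1 := by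
      have hs : orbit (stabilizer G a) a = ({a} : Set Ω) :=
        Set.eq_singleton_iff_unique_mem.mpr ⟨mem_orbit_self a, by rintro _ ⟨m, rfl⟩; exact m.2⟩
      rw [hs]
      simp
    omega
  haveI : Nontrivial Ω := ⟨⟨a, b, hab⟩⟩
  have hcore : ∀ x : Ω, (stabilizer G x).normalCore = ⊥ := fun x =>
    eq_bot_of_normal_le_stabilizer (hN := Subgroup.normalCore_normal _)
      (Subgroup.normalCore_le _)
  refine ⟨IsPreprimitive.isCoatom_stabilizer_of_isPreprimitive G a,
    IsPreprimitive.isCoatom_stabilizer_of_isPreprimitive G b, hcore a, hcore b, fun he => ?_, ?_⟩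
  · have h0 := stabilizer_eq_bot_of_eq hab he
    have h1 : Nat.card (orbit (stabilizer G a) b) = 1 := by
      have hs : orbit (stabilizer G a) b = ({b} : Set Ω) :=
        Set.eq_singleton_iff_unique_mem.mpr ⟨mem_orbit_self b, by
          rintro _ ⟨m, rfl⟩
          have : (m : G) = 1 := Subgroup.mem_bot.mp (h0 ▸ m.2)
          change (m : G) • b = b
          rw [this, one_smul]⟩
      rw [hs]
      simp
    omega
  · obtain ⟨g, hg⟩ := MulAction.exists_smul_eq G a b
    subst hg
    rw [stabilizer_smul_eq_stabilizer_map_conj]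
    exact ⟨Subgroup.equivMapOfInjective _ _ (MulEquiv.injective _)⟩

/-- A trivial second core on either side bounds the order of a point stabiliser. -/
theorem card_stabilizer_dvd_of_cA2 [Finite Ω] [IsPretransitive G Ω] (a b : Ω) (d : ℕ)
    (hd : Nat.card (orbit (stabilizer G a) b) = d)
    (h0 : cA2 (stabilizer G a) (stabilizer G b) = ⊥ ∨
      cA2 (stabilizer G b) (stabilizer G a) = ⊥) :
    Nat.card (stabilizer G a) ∣ d.factorial * (d - 1).factorial ^ d := by
  rcases h0 with h0 | h0
  · refine (card_stabilizer_dvd a b).trans ?_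
    rw [hd]
    exact mul_dvd_mul_left _ (by simpa [h0] using card_orbitKer_dvd a b d hd)
  · have hd' : Nat.card (orbit (stabilizer G b) a) = d := by
      rw [card_orbit_stabilizer_symm b a, hd]
    rw [card_stabilizer_eq a b]
    refine (card_stabilizer_dvd b a).trans ?_
    rw [hd']
    exact mul_dvd_mul_left _ (by simpa [h0] using card_orbitKer_dvd b a d hd')

theorem inf_normal_cA2 (M N : Subgroup G) :
    ((cA2 M N).subgroupOf (M ⊓ N)).Normal :=
  Subgroup.normal_subgroupOf_of_le_normalizer (inf_le_left.trans (le_normalizer_nCore M _))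

/-- If the group induced by the two-point stabiliser on the suborbit has trivial Fitting subgroup,
so has the two-point stabiliser. -/
theorem fitting_inf_eq_bot [Finite Ω] [FaithfulSMul G Ω] [IsPreprimitive G Ω] {a b : Ω}
    (h2 : 2 ≤ Nat.card (orbit (stabilizer G a) b))
    (hF : fittingSubgroup ↥(((stabilizer G b).subgroupOf (stabilizer G a)).map
      (toPermHom (stabilizer G a) (orbit (stabilizer G a) b))) = ⊥) :
    fittingSubgroup ↥(stabilizer G a ⊓ stabilizer G b) = ⊥ := by
  have h := hyp_stabilizer (G := G) h2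
  set M := stabilizer G a with hM
  set N := stabilizer G b with hN
  rw [fittingSubgroup_eq_iSup_pCore, iSup_eq_bot]
  intro p
  haveI := Fact.mk p.2
  apply (Subgroup.map_eq_bot_iff_of_injective _ (M ⊓ N).subtype_injective).mp
  set T := coreOf (p : ℕ) (M ⊓ N) with hT
  by_contra hT0
  have hTp : IsPGroup (p : ℕ) T := isPGroup_map_pCore _ _
  have hTI : T ≤ M ⊓ N := Subgroup.map_subtype_le _
  have hIT : M ⊓ N ≤ Subgroup.normalizer (T : Set G) := coreOf_normalizer _ _
  set φ := toPermHom M (orbit M b) with hφ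
  have hTker : T ≤ orbitKer G a b := by
    set I' := (N.subgroupOf M).map φ with hI'
    set S := (T.subgroupOf M).map φ with hS
    have hSI : S ≤ I' := Subgroup.map_mono fun x hx =>
      Subgroup.mem_subgroupOf.mpr (hTI (Subgroup.mem_subgroupOf.mp hx)).2
    have hSn : I' ≤ Subgroup.normalizer (S : Set (Equiv.Perm (orbit M b))) := by
      refine (Subgroup.map_mono ?_).trans (Subgroup.le_normalizer_map φ)
      intro x hx
      exact subgroupOf_le_normalizer M hIT (Subgroup.mem_subgroupOf.mpr ⟨x.2, hx⟩)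
    haveI : (S.subgroupOf I').Normal := Subgroup.normal_subgroupOf_of_le_normalizer hSn
    have hSp : IsPGroup (p : ℕ) S :=
      (hTp.comap_of_injective M.subtype M.subtype_injective).map φ
    have h1 : S.subgroupOf I' ≤ fittingSubgroup ↥I' := le_fittingSubgroup
      (isNilpotent_of_isPGroup (hSp.comap_of_injective I'.subtype I'.subtype_injective))
    rw [hF, le_bot_iff, Subgroup.subgroupOf_eq_bot, disjoint_iff, inf_eq_left.mpr hSI,
      Subgroup.map_eq_bot_iff, hφ, ker_toPermHom_orbit] at h1
    exact fun x hx => Subgroup.mem_subgroupOf.mp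
      (h1 (show (⟨x, (hTI hx).1⟩ : M) ∈ T.subgroupOf M from hx))
  -- hence `T` is normal in `M`
  have hKI : orbitKer G a b ≤ M ⊓ N := le_inf inf_le_left (orbitKer_le_right a b)
  have hTeq : T = coreOf (p : ℕ) (orbitKer G a b) := by
    refine le_antisymm (le_map_pCore hTker (hKI.trans hIT) hTp) ?_
    exact Y_le_Y_of_isSubnormal (some p) hKI (Subgroup.normal_subgroupOf_of_le_normalizer
      (inf_le_left.trans (le_normalizer_orbitKer a b))).isSubnormal
  have hMT : M ≤ Subgroup.normalizer (T : Set G) := by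
    rw [hTeq]
    exact le_normalizer_Y (some p) (le_normalizer_orbitKer a b)
  have hnT : Subgroup.normalizer (T : Set G) = M :=
    normalizer_eq h.hM h.cM (hTI.trans inf_le_left) hT0 hMT
  set Q₂ := coreOf (p : ℕ) N with hQ₂
  have hD : Q₂ ⊓ M ≤ T := le_map_pCore (le_inf inf_le_right (inf_le_left.trans (Subgroup.map_subtype_le _)))
    ((le_inf (inf_le_right.trans (coreOf_normalizer _ _)) (inf_le_left.trans Subgroup.le_normalizer)).trans
      Subgroup.inf_normalizer_le_normalizer_inf) ((isPGroup_map_pCore _ N).to_le inf_le_left)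
  have hTQn : T ≤ Subgroup.normalizer (Q₂ : Set G) :=
    (hTI.trans inf_le_right).trans (coreOf_normalizer _ _)
  set W := Q₂ ⊔ T with hW
  have hWp : IsPGroup (p : ℕ) W := (isPGroup_map_pCore _ N).to_sup_of_normal_left' hTp hTQn
  have hWM : W ⊓ M ≤ T := by
    intro x hx
    obtain ⟨hxW, hxM⟩ := Subgroup.mem_inf.mp hx
    have hx' : x ∈ ((Q₂ : Set G) * (T : Set G)) := by
      rw [← Subgroup.coe_mul_of_right_le_normalizer_left Q₂ T hTQn]
      exact hxW
    obtain ⟨q, hq, t, ht, rfl⟩ := Set.mem_mul.mp hx'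
    exact mul_mem (hD ⟨hq, (Subgroup.mul_mem_cancel_right M (Subgroup.mem_inf.mp (hTI ht)).1).mp hxM⟩) ht
  have hQT : Q₂ ≤ T := by
    by_contra hne
    have hlt : T.subgroupOf W < ⊤ := lt_top_iff_ne_top.mpr fun he =>
      hne (le_sup_left.trans (Subgroup.subgroupOf_eq_top.mp he))
    obtain ⟨y, hy, hyT⟩ := SetLike.exists_of_lt (CfsgLib.PGroups.lt_normalizer hWp hlt)
    refine hyT (Subgroup.mem_subgroupOf.mpr (hWM ⟨y.2, ?_⟩))
    have := Subgroup.le_normalizer_map W.subtype (Subgroup.mem_map_of_mem W.subtype hy)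
    rw [Subgroup.map_subgroupOf_eq_of_le le_sup_right, hnT] at this
    exact this
  have hTQ : T ≤ coreOf (p : ℕ) M := le_map_pCore (hTI.trans inf_le_left) hMT hTp
  obtain ⟨e⟩ := h.iso
  have heq : coreOf (p : ℕ) N = coreOf (p : ℕ) M :=
    Subgroup.eq_of_le_of_card_ge (hQT.trans hTQ) (card_Y_eq (some p) e).le
  have h0 : coreOf (p : ℕ) M = ⊥ := h.eq_bot_of_normalized (Subgroup.map_subtype_le _)
    (coreOf_normalizer _ _) (heq ▸ coreOf_normalizer _ _)
  exact hT0 (le_bot_iff.mp (h0 ▸ hTQ))

end CfsgLib.Recog.TW
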