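import Mathlib

/-!
Automorphisms of elementary abelian groups as matrices.
-/

set_option autoImplicit false

namespace CfsgLib.Recog

/-- The automorphism group of an elementary abelian group of order `p ^ e` embeds in `GL e p`. -/
theorem exists_injective_mulAut_to_GL {A : Type*} [CommGroup A] [Finite A] {p : ℕ} [Fact p.Prime]
    (hA : ∀ x : A, x ^ p = 1) {e : ℕ} (he : Nat.card A = p ^ e) :
    ∃ ψ : MulAut A →* GL (Fin e) (ZMod p), Function.Injective ψ := by
  letI : Module (ZMod p) (Additive A) := AddCommGroup.zmodModule (n := p) hA
  have hrank : Module.finrank (ZMod p) (Additive A) = e := by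
    have h := Module.natCard_eq_pow_finrank (K := ZMod p) (V := Additive A)
    rw [Nat.card_zmod, show Nat.card (Additive A) = p ^ e from he] at h
    exact Nat.pow_right_injective (Fact.out : p.Prime).two_le h.symm
  let b := Module.finBasisOfFinrankEq (ZMod p) (Additive A) hrank
  let f : MulAut A →* Module.End (ZMod p) (Additive A) :=
    { toFun := fun φ => φ.toMonoidHom.toAdditive.toZModLinearMap p
      map_one' := LinearMap.ext fun _ => rfl
      map_mul' := fun _ _ => LinearMap.ext fun _ => rfl }
  let g : MulAut A →* Matrix (Fin e) (Fin e) (ZMod p) :=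
    (LinearMap.toMatrixAlgEquiv b).toMonoidHom.comp f
  refine ⟨g.toHomUnits, fun φ ψ h => ?_⟩
  have h1 : f φ = f ψ := (LinearMap.toMatrixAlgEquiv b).injective (congrArg Units.val h)
  exact MulEquiv.ext fun x => LinearMap.congr_fun h1 (Additive.ofMul x)

end CfsgLib.Recog
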