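import Cfsg.Agent.Lib.Recog.Unbounded
import Cfsg.Agent.Lib.Recog.LinearAction
import Cfsg.Agent.Lib.Recog.AltSpectrum
import Cfsg.Agent.Lib.Recog.BinaryS5

/-!
A solvable-kernel extension `(7⁴ × W) ⋊ 2.S₅` with the spectrum of `A₁₀`.
-/

set_option autoImplicit false

namespace CfsgLib.Recog.A10Model

open CfsgLib.Recog.BinaryS5

/-- The central involution `-1`. -/
def negOne : GL (Fin 4) (ZMod 7) :=
  ⟨-1, -1, by simp, by simp⟩

theorem negOne_mem : negOne ∈ C := by
  have h : negOne = genA ^ 4 := Units.ext (by decide +kernel)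
  rw [h]
  exact pow_mem (Subgroup.subset_closure (Set.mem_insert _ _)) 4

/-- `-1` as an element of `C`. -/
def z : C := ⟨negOne, negOne_mem⟩

theorem commute_z (c : C) : z * c = c * z := by
  apply Subtype.ext
  apply Units.ext
  simp [z, negOne]

/-- Functions `f` on `C` over `F₃` with `f (z c) = - f c`. -/
def oddFun : AddSubgroup (C → ZMod 3) where
  carrier := {f | ∀ c, f (z * c) = -f c}
  zero_mem' := fun c => by simp
  add_mem' := fun {f g} hf hg c => by simp [Pi.add_apply, hf c, hg c, add_comm]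
  neg_mem' := fun {f} hf c => by simp [Pi.neg_apply, hf c]

/-- Left translation by `g`. -/
def shift (g : C) (f : oddFun) : oddFun :=
  ⟨fun c => (f : C → ZMod 3) (g⁻¹ * c), fun c => by
    change (f : C → ZMod 3) (g⁻¹ * (z * c)) = -(f : C → ZMod 3) (g⁻¹ * c)
    rw [← mul_assoc, ← commute_z, mul_assoc]
    exact f.2 _⟩

theorem shift_one (f : oddFun) : shift 1 f = f := by
  apply Subtype.ext; funext c; simp [shift]

theorem shift_mul (g h : C) (f : oddFun) : shift (g * h) f = shift g (shift h f) := by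
  apply Subtype.ext; funext c; simp [shift, mul_assoc]

/-- The action of `C` on `W`. -/
def wAct : C →* MulAut (Multiplicative oddFun) where
  toFun g := AddEquiv.toMultiplicative
    { toFun := shift g
      invFun := shift g⁻¹
      left_inv := fun f => by rw [← shift_mul, inv_mul_cancel, shift_one]
      right_inv := fun f => by rw [← shift_mul, mul_inv_cancel, shift_one]
      map_add' := fun _ _ => rfl }
  map_one' := by
    apply MulEquiv.ext
    intro v
    exact congrArg Multiplicative.ofAdd (shift_one v.toAdd)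
  map_mul' g h := by
    apply MulEquiv.ext
    intro v
    exact congrArg Multiplicative.ofAdd (shift_mul g h v.toAdd)

theorem wAct_apply (g : C) (v : Multiplicative oddFun) (c : C) :
    ((wAct g v).toAdd : C → ZMod 3) c = (v.toAdd : C → ZMod 3) (g⁻¹ * c) := rfl

theorem pow_three (v : Multiplicative oddFun) : v ^ 3 = 1 := by
  apply Multiplicative.toAdd.injective
  apply Subtype.ext
  funext c
  change 3 • ((v.toAdd : C → ZMod 3) c) = 0
  rw [nsmul_eq_mul]
  exact mul_eq_zero_of_left (by decide) _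

/-- A power of `c` equal to `z` rules out fixed points in `W`. -/
theorem eq_one_of_fixed_of_pow_eq_z {c : C} {k : ℕ} (hk : c ^ k = z) {v : Multiplicative oddFun}
    (h : wAct c v = v) : v = 1 := by
  have h1 : ∀ n : ℕ, wAct (c ^ n) v = v := by
    intro n
    induction n with
    | zero => simp
    | succ n ih => rw [pow_succ, map_mul, MulAut.mul_apply, h, ih]
  apply Multiplicative.toAdd.injective
  apply Subtype.ext
  funext x
  have h2 := congrArg (fun w : Multiplicative oddFun => (w.toAdd : C → ZMod 3) x) (h1 k)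
  simp only [wAct_apply, hk] at h2
  have hz : z⁻¹ = z := inv_eq_of_mul_eq_one_right (Subtype.ext (Units.ext (by simp [z, negOne])))
  rw [hz, v.toAdd.2 x] at h2
  change ((v.toAdd : C → ZMod 3) x) = 0
  revert h2
  generalize (v.toAdd : C → ZMod 3) x = y
  revert y
  decide

/-- The action on `7⁴`. -/
def vAct : Multiplicative oddFun ⋊[wAct] C →* MulAut (Multiplicative (Fin 4 → ZMod 7)) :=
  (mulVecAct.comp C.subtype).comp SemidirectProduct.rightHom

theorem vAct_apply (y : Multiplicative oddFun ⋊[wAct] C) :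
    vAct y = mulVecAct ((y.right : C) : GL (Fin 4) (ZMod 7)) := rfl

theorem eq_pow_of_matrix {c : C} {k : ℕ}
    (h : ((c : GL (Fin 4) (ZMod 7)) : Matrix (Fin 4) (Fin 4) (ZMod 7)) ^ k = -1) : c ^ k = z := by
  apply Subtype.ext
  apply Units.ext
  simpa [z, negOne] using h

theorem z_sq : z ^ 2 = 1 := Subtype.ext (Units.ext (by simp [z, negOne]))

theorem orderOf_dvd_of_pow_eq_z {c : C} {k : ℕ} (h : c ^ k = z) : orderOf c ∣ 2 * k :=
  orderOf_dvd_of_pow_eq_one (by rw [mul_comm, pow_mul, h, z_sq])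

/-- Orders in `C`, with the elements that may fix something in `W`. -/
theorem cases_C (c : C) :
    c = 1 ∨ (orderOf c ∈ ({1, 2, 3, 4, 5, 6, 8, 10, 12} : Set ℕ) ∧
      (∀ v : Multiplicative oddFun, wAct c v = v → v ≠ 1 → orderOf c ∣ 3 ∨ orderOf c ∣ 5) ∧
      ∀ v : Multiplicative (Fin 4 → ZMod 7),
        mulVecAct (c : GL (Fin 4) (ZMod 7)) v = v → v = 1) := by
  set M := ((c : GL (Fin 4) (ZMod 7)) : Matrix (Fin 4) (Fin 4) (ZMod 7)) with hM
  have hfix : ∀ (v : Multiplicative (Fin 4 → ZMod 7)),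
      mulVecAct (c : GL (Fin 4) (ZMod 7)) v = v → ∀ k : ℕ, (M ^ k).mulVec v.toAdd = v.toAdd := by
    intro v hv k
    have h1 : M.mulVec v.toAdd = v.toAdd := congrArg Multiplicative.toAdd hv
    induction k with
    | zero => simp
    | succ k ih => rw [pow_succ, ← Matrix.mulVec_mulVec, h1, ih]
  have hz : ∀ k : ℕ, 0 < k → M ^ k = -1 → (∀ d ∈ Nat.divisors (2 * k),
        d = 1 ∨ d = 2 ∨ d = 3 ∨ d = 4 ∨ d = 5 ∨ d = 6 ∨ d = 8 ∨ d = 10 ∨ d = 12) →
      orderOf c ∈ ({1, 2, 3, 4, 5, 6, 8, 10, 12} : Set ℕ) ∧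
      (∀ v : Multiplicative oddFun, wAct c v = v → v ≠ 1 → orderOf c ∣ 3 ∨ orderOf c ∣ 5) ∧
      ∀ v : Multiplicative (Fin 4 → ZMod 7), mulVecAct (c : GL (Fin 4) (ZMod 7)) v = v → v = 1 := by
    intro k hk hMk hd
    have hck := eq_pow_of_matrix hMk
    refine ⟨?_, fun v hv hv1 => absurd (eq_one_of_fixed_of_pow_eq_z hck hv) hv1, fun v hv => ?_⟩
    · simp only [Set.mem_insert_iff, Set.mem_singleton_iff]
      exact hd _ (Nat.mem_divisors.2 ⟨orderOf_dvd_of_pow_eq_z hck, by omega⟩)
    · have h1 := hfix v hv k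
      rw [hMk, Matrix.neg_mulVec, Matrix.one_mulVec] at h1
      apply Multiplicative.toAdd.injective
      funext i
      have h2 := congrFun h1 i
      revert h2
      change -(v.toAdd i) = v.toAdd i → v.toAdd i = 0
      generalize v.toAdd i = y
      revert y
      decide
  have hpow : ∀ k : ℕ, M ^ k = 1 → orderOf c ∣ k := fun k hk =>
    orderOf_dvd_of_matrix_pow (g := c) hk
  rcases (show Kind M from kind_of_mem c.2) with h | h | h | h | h | h | h | h | h
  · left
    exact Subtype.ext (Units.ext h)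
  · exact Or.inr (hz 1 one_pos ((pow_one M).trans h) (by decide))
  · exact Or.inr (hz 2 two_pos h (by decide))
  · exact Or.inr (hz 3 (by norm_num) h (by decide))
  · exact Or.inr (hz 4 (by norm_num) h (by decide))
  · exact Or.inr (hz 5 (by norm_num) h (by decide))
  · exact Or.inr (hz 6 (by norm_num) h (by decide))
  · have h3 : M ^ 3 = 1 := by
      have : M ^ 3 - 1 = (M - 1) * (1 + M + M ^ 2) := by noncomm_ring
      rw [h, mul_zero, sub_eq_zero] at this
      exact this
    refine Or.inr ⟨?_, fun _ _ _ => Or.inl (hpow 3 h3), fun v hv => ?_⟩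
    · rcases (Nat.dvd_prime Nat.prime_three).1 (hpow 3 h3) with e | e <;> simp [e]
    · have h1 := congrArg (fun A => Matrix.mulVec A v.toAdd) h
      simp only [Matrix.add_mulVec, Matrix.one_mulVec, Matrix.zero_mulVec, hfix v hv 2] at h1
      have h0 := hfix v hv 1
      rw [pow_one] at h0
      rw [h0] at h1
      apply Multiplicative.toAdd.injective
      funext i
      have h2 := congrFun h1 i
      revert h2
      change v.toAdd i + v.toAdd i + v.toAdd i = 0 → v.toAdd i = 0
      generalize v.toAdd i = y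
      revert y
      decide
  · have h5 : M ^ 5 = 1 := by
      have : M ^ 5 - 1 = (M - 1) * (1 + M + M ^ 2 + M ^ 3 + M ^ 4) := by noncomm_ring
      rw [h, mul_zero, sub_eq_zero] at this
      exact this
    refine Or.inr ⟨?_, fun _ _ _ => Or.inr (hpow 5 h5), fun v hv => ?_⟩
    · rcases (Nat.dvd_prime Nat.prime_five).1 (hpow 5 h5) with e | e <;> simp [e]
    · have h1 := congrArg (fun A => Matrix.mulVec A v.toAdd) h
      simp only [Matrix.add_mulVec, Matrix.one_mulVec, Matrix.zero_mulVec, hfix v hv 2, hfix v hv 3,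
        hfix v hv 4] at h1
      have h0 := hfix v hv 1
      rw [pow_one] at h0
      rw [h0] at h1
      apply Multiplicative.toAdd.injective
      funext i
      have h2 := congrFun h1 i
      revert h2
      change v.toAdd i + v.toAdd i + v.toAdd i + v.toAdd i + v.toAdd i = 0 → v.toAdd i = 0
      generalize v.toAdd i = y
      revert y
      decide

theorem pow_left_apply {M' G' : Type*} [CommGroup M'] [Group G'] (φ : G' →* MulAut M')
    (v : M') (g : G') : ∀ n : ℕ,
    ((⟨v, g⟩ : M' ⋊[φ] G') ^ n).left = ∏ i ∈ Finset.range n, φ (g ^ i) v ∧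
      ((⟨v, g⟩ : M' ⋊[φ] G') ^ n).right = g ^ n := by
  intro n
  induction n with
  | zero => simp
  | succ n ih =>
    rw [pow_succ, SemidirectProduct.mul_left, SemidirectProduct.mul_right, ih.1, ih.2,
      Finset.prod_range_succ, ← pow_succ]
    exact ⟨rfl, rfl⟩

/-- The odd function supported on `±1`. -/
def delta : oddFun :=
  ⟨fun c => if ((c : GL (Fin 4) (ZMod 7)) : Matrix (Fin 4) (Fin 4) (ZMod 7)) = 1 then 1 else
      if ((c : GL (Fin 4) (ZMod 7)) : Matrix (Fin 4) (Fin 4) (ZMod 7)) = -1 then -1 else 0, fun c => by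
    have hzc : (((z * c : C) : GL (Fin 4) (ZMod 7)) : Matrix (Fin 4) (Fin 4) (ZMod 7)) =
        -((c : GL (Fin 4) (ZMod 7)) : Matrix (Fin 4) (Fin 4) (ZMod 7)) := by simp [z, negOne]
    simp only [hzc]
    have h01 : (-1 : Matrix (Fin 4) (Fin 4) (ZMod 7)) ≠ 1 := by decide +kernel
    by_cases h1 : ((c : GL (Fin 4) (ZMod 7)) : Matrix (Fin 4) (Fin 4) (ZMod 7)) = 1
    · simp [h1, h01]
    · by_cases h2 : ((c : GL (Fin 4) (ZMod 7)) : Matrix (Fin 4) (Fin 4) (ZMod 7)) = -1
      · simp [h2, h01]
      · simp [h1, h2, neg_eq_iff_eq_neg]⟩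

/-- `genA` as an element of `C`. -/
def ga : C := ⟨genA, Subgroup.subset_closure (Set.mem_insert _ _)⟩

/-- `genB` as an element of `C`. -/
def gb : C := ⟨genB, Subgroup.subset_closure (Set.mem_insert_of_mem _ rfl)⟩

theorem orderOf_eq_of_matrix {c : C} {n : ℕ} (hn : 0 < n)
    (h : ((c : GL (Fin 4) (ZMod 7)) : Matrix (Fin 4) (Fin 4) (ZMod 7)) ^ n = 1)
    (h' : ∀ m < n, 0 < m → ((c : GL (Fin 4) (ZMod 7)) : Matrix (Fin 4) (Fin 4) (ZMod 7)) ^ m ≠ 1) :
    orderOf c = n := by
  refine (orderOf_eq_iff hn).2 ⟨Subtype.ext (Units.ext (by simpa using h)), fun m hm hm0 he => ?_⟩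
  exact h' m hm hm0 (by simpa using congrArg (fun x : C =>
    ((x : GL (Fin 4) (ZMod 7)) : Matrix (Fin 4) (Fin 4) (ZMod 7))) he)

theorem exists_orders : (∃ c : C, orderOf c = 8) ∧ (∃ c : C, orderOf c = 3) ∧
    (∃ c : C, orderOf c = 5) ∧ (∃ c : C, orderOf c = 10) ∧ (∃ c : C, orderOf c = 12) ∧
    (∃ c : C, orderOf c = 2) ∧ (∃ c : C, orderOf c = 4) ∧ (∃ c : C, orderOf c = 6) :=
  ⟨⟨ga, orderOf_eq_of_matrix (by norm_num) (by decide +kernel) (by decide +kernel)⟩,
   ⟨gb, orderOf_eq_of_matrix (by norm_num) (by decide +kernel) (by decide +kernel)⟩,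
   ⟨ga * ga * ga * gb * ga * gb, orderOf_eq_of_matrix (by norm_num) (by decide +kernel) (by decide +kernel)⟩,
   ⟨ga * ga * ga * ga * ga * ga * ga * gb * ga * gb,
      orderOf_eq_of_matrix (by norm_num) (by decide +kernel) (by decide +kernel)⟩,
   ⟨ga * gb, orderOf_eq_of_matrix (by norm_num) (by decide +kernel) (by decide +kernel)⟩,
   ⟨ga * ga * ga * ga, orderOf_eq_of_matrix (by norm_num) (by decide +kernel) (by decide +kernel)⟩,
   ⟨ga * ga, orderOf_eq_of_matrix (by norm_num) (by decide +kernel) (by decide +kernel)⟩,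
   ⟨ga * gb * ga * gb, orderOf_eq_of_matrix (by norm_num) (by decide +kernel) (by decide +kernel)⟩⟩

theorem exists_order_three_mul {c : C} {n : ℕ} (hn : 0 < n) (hc : orderOf c = n)
    (hne : ∀ i < n, 0 < i →
      ((c : GL (Fin 4) (ZMod 7)) : Matrix (Fin 4) (Fin 4) (ZMod 7)) ^ i ≠ -1) :
    orderOf (⟨Multiplicative.ofAdd delta, c⟩ : Multiplicative oddFun ⋊[wAct] C) = 3 * n := by
  rw [orderOf_eq_mul_of_left_ne_one wAct Nat.prime_three pow_three _ ?_]
  · rw [← hc]
  change ((⟨Multiplicative.ofAdd delta, c⟩ : Multiplicative oddFun ⋊[wAct] C) ^ orderOf c).left ≠ 1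
  rw [(pow_left_apply wAct _ c _).1, hc]
  intro h
  have h1 := congrArg (fun w : Multiplicative oddFun => (w.toAdd : C → ZMod 3) 1) h
  simp only [toAdd_prod, AddSubgroup.val_finsetSum, Finset.sum_apply, wAct_apply, mul_one] at h1
  rw [Finset.sum_eq_single_of_mem 0 (Finset.mem_range.2 hn)] at h1
  · simp [delta] at h1
  · intro i hi hi0
    have hin := Finset.mem_range.1 hi
    have hne1 : (c ^ i)⁻¹ ≠ 1 := by
      rw [Ne, inv_eq_one]
      exact pow_ne_one_of_lt_orderOf hi0 (by omega)
    have hne2 : (c ^ i)⁻¹ ≠ z := by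
      intro h2
      apply hne i hin (by omega)
      have h3 : c ^ i = z := by
        rw [← inv_inv (c ^ i), h2]
        exact inv_eq_of_mul_eq_one_right (by rw [← pow_two, z_sq])
      simpa [z, negOne] using congrArg (fun x : C =>
        ((x : GL (Fin 4) (ZMod 7)) : Matrix (Fin 4) (Fin 4) (ZMod 7))) h3
    change (Multiplicative.ofAdd delta).toAdd.1 ((c ^ i)⁻¹) = 0
    simp only [toAdd_ofAdd, delta]
    rw [if_neg, if_neg]
    · exact fun h => hne2 (Subtype.ext (Units.ext h))
    · exact fun h => hne1 (Subtype.ext (Units.ext h))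

/-- The spectrum of `A₁₀`. -/
theorem range_orderOf_alternating_ten :
    Set.range (orderOf : alternatingGroup (Fin 10) → ℕ) =
      {1, 2, 3, 4, 5, 6, 7, 8, 9, 10, 12, 15, 21} := by
  refine Set.Subset.antisymm ?_ ?_
  · rintro _ ⟨σ, rfl⟩
    refine orderOf_alternating_mem (fun l hl hP => ?_) σ
    simp only [Set.mem_insert_iff, Set.mem_singleton_iff]
    revert l
    decide +kernel
  · intro k hk
    have wit : ∀ (l : List (Fin 10 × Fin 10)) (n : ℕ), 0 < n →
        Equiv.Perm.sign (l.map fun p => Equiv.swap p.1 p.2).prod = 1 →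
        (l.map fun p => Equiv.swap p.1 p.2).prod ^ n = 1 →
        (∀ m < n, 0 < m → (l.map fun p => Equiv.swap p.1 p.2).prod ^ m ≠ 1) →
        n ∈ Set.range (orderOf : alternatingGroup (Fin 10) → ℕ) :=
      fun l n hn hs h1 h2 => ⟨⟨_, Equiv.Perm.mem_alternatingGroup.2 hs⟩, by
        rw [← Subgroup.orderOf_coe]
        exact (orderOf_eq_iff hn).2 ⟨h1, h2⟩⟩
    simp only [Set.mem_insert_iff, Set.mem_singleton_iff] at hk
    rcases hk with rfl | rfl | rfl | rfl | rfl | rfl | rfl | rfl | rfl | rfl | rfl | rfl | rfl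
    · exact ⟨1, orderOf_one⟩
    · exact wit [(0, 1), (2, 3)] 2 (by norm_num) (by decide +kernel) (by decide +kernel) (by decide +kernel)
    · exact wit [(0, 1), (1, 2)] 3 (by norm_num) (by decide +kernel) (by decide +kernel) (by decide +kernel)
    · exact wit [(0, 1), (1, 2), (2, 3), (4, 5)] 4 (by norm_num) (by decide +kernel) (by decide +kernel) (by decide +kernel)
    · exact wit [(0, 1), (1, 2), (2, 3), (3, 4)] 5 (by norm_num) (by decide +kernel) (by decide +kernel) (by decide +kernel)
    · exact wit [(0, 1), (1, 2), (3, 4), (5, 6)] 6 (by norm_num) (by decide +kernel) (by decide +kernel) (by decide +kernel)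
    · exact wit [(0, 1), (1, 2), (2, 3), (3, 4), (4, 5), (5, 6)] 7 (by norm_num) (by decide +kernel) (by decide +kernel) (by decide +kernel)
    · exact wit [(0, 1), (1, 2), (2, 3), (3, 4), (4, 5), (5, 6), (6, 7), (8, 9)] 8 (by norm_num) (by decide +kernel) (by decide +kernel) (by decide +kernel)
    · exact wit [(0, 1), (1, 2), (2, 3), (3, 4), (4, 5), (5, 6), (6, 7), (7, 8)] 9 (by norm_num) (by decide +kernel) (by decide +kernel) (by decide +kernel)
    · exact wit [(0, 1), (1, 2), (2, 3), (3, 4), (5, 6), (7, 8)] 10 (by norm_num) (by decide +kernel) (by decide +kernel) (by decide +kernel)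
    · exact wit [(0, 1), (1, 2), (2, 3), (4, 5), (6, 7), (7, 8)] 12 (by norm_num) (by decide +kernel) (by decide +kernel) (by decide +kernel)
    · exact wit [(0, 1), (1, 2), (2, 3), (3, 4), (5, 6), (6, 7)] 15 (by norm_num) (by decide +kernel) (by decide +kernel) (by decide +kernel)
    · exact wit [(0, 1), (1, 2), (2, 3), (3, 4), (4, 5), (5, 6), (7, 8), (8, 9)] 21 (by norm_num) (by decide +kernel) (by decide +kernel) (by decide +kernel)

/-- The spectrum of `(7⁴) ⋊ (W ⋊ C)`. -/
theorem range_orderOf_model :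
    Set.range (orderOf : Multiplicative (Fin 4 → ZMod 7) ⋊[vAct]
      (Multiplicative oddFun ⋊[wAct] C) → ℕ) = {1, 2, 3, 4, 5, 6, 7, 8, 9, 10, 12, 15, 21} := by
  have h7 : Nat.Prime 7 := by norm_num
  haveI : CharP (ZMod 7) 7 := ZMod.charP 7
  refine Set.Subset.antisymm ?_ ?_
  · rintro _ ⟨x, rfl⟩
    simp only [Set.mem_insert_iff, Set.mem_singleton_iff]
    have hy : orderOf x.right = 1 ∨ orderOf x.right = 2 ∨ orderOf x.right = 3 ∨ orderOf x.right = 4 ∨
        orderOf x.right = 5 ∨ orderOf x.right = 6 ∨ orderOf x.right = 8 ∨ orderOf x.right = 9 ∨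
        orderOf x.right = 10 ∨ orderOf x.right = 12 ∨ orderOf x.right = 15 := by
      rcases cases_C x.right.right with hc | ⟨hc, hW, -⟩
      · rcases orderOf_cases wAct Nat.prime_three pow_three x.right with h | ⟨h, -⟩ <;>
          rw [h, hc, orderOf_one] <;> simp
      · rcases orderOf_cases wAct Nat.prime_three pow_three x.right with h | ⟨h, v, hv, hfix⟩
        · simp only [Set.mem_insert_iff, Set.mem_singleton_iff] at hc
          rw [h]
          omega
        · rw [h]
          rcases hW v hfix hv with e | e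
          · rcases (Nat.dvd_prime Nat.prime_three).1 e with e | e <;> simp [e]
          · rcases (Nat.dvd_prime (by norm_num : Nat.Prime 5)).1 e with e | e <;> simp [e]
    rcases orderOf_cases vAct h7 (pow_char_eq_one 7) x with h | ⟨h, v, hv, hfix⟩
    · rw [h]
      omega
    · have hc1 : x.right.right = 1 := by
        rcases cases_C x.right.right with hc | ⟨-, -, hV⟩
        · exact hc
        · exact absurd (hV v hfix) hv
      rcases orderOf_cases wAct Nat.prime_three pow_three x.right with h' | ⟨h', -⟩ <;>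
        rw [h, h', hc1, orderOf_one] <;> simp
  · intro k hk
    obtain ⟨⟨c8, h8⟩, ⟨c3, h3⟩, ⟨c5, h5⟩, ⟨c10, h10⟩, ⟨c12, h12⟩, ⟨c2, h2⟩, ⟨c4, h4⟩, ⟨c6, h6⟩⟩ :=
      exists_orders
    have up : ∀ c : C, orderOf c ∈ Set.range (orderOf : Multiplicative (Fin 4 → ZMod 7) ⋊[vAct]
        (Multiplicative oddFun ⋊[wAct] C) → ℕ) := fun c =>
      range_orderOf_subset vAct (range_orderOf_subset wAct ⟨c, rfl⟩)
    let e : Multiplicative (Fin 4 → ZMod 7) := Multiplicative.ofAdd (Pi.single 0 1)
    have he : e ≠ 1 := fun h => by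
      have := congrFun (congrArg Multiplicative.toAdd h) 0
      simp [e] at this
      exact absurd this (by decide)
    let w : Multiplicative oddFun ⋊[wAct] C := SemidirectProduct.inl (Multiplicative.ofAdd delta)
    have hw : orderOf w = 3 := by
      rw [orderOf_injective _ SemidirectProduct.inl_injective]
      haveI : Fact (Nat.Prime 3) := ⟨Nat.prime_three⟩
      refine orderOf_eq_prime (pow_three _) fun h => ?_
      have h1 := congrArg (fun w : Multiplicative oddFun => (w.toAdd : C → ZMod 3) 1) h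
      simp [delta] at h1
    simp only [Set.mem_insert_iff, Set.mem_singleton_iff] at hk
    rcases hk with rfl | rfl | rfl | rfl | rfl | rfl | rfl | rfl | rfl | rfl | rfl | rfl | rfl
    · exact ⟨1, orderOf_one⟩
    · have := up c2; rwa [h2] at this
    · have := up c3; rwa [h3] at this
    · have := up c4; rwa [h4] at this
    · have := up c5; rwa [h5] at this
    · have := up c6; rwa [h6] at this
    · refine ⟨SemidirectProduct.inl e, ?_⟩
      rw [orderOf_injective _ SemidirectProduct.inl_injective]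
      haveI : Fact (Nat.Prime 7) := ⟨h7⟩
      exact orderOf_eq_prime (pow_char_eq_one 7 e) he
    · have := up c8; rwa [h8] at this
    · refine range_orderOf_subset vAct ⟨⟨Multiplicative.ofAdd delta, gb⟩, ?_⟩
      rw [exists_order_three_mul (n := 3) (by norm_num)
        (orderOf_eq_of_matrix (by norm_num) (by decide +kernel) (by decide +kernel)) (by decide +kernel)]
    · have := up c10; rwa [h10] at this
    · have := up c12; rwa [h12] at this
    · refine range_orderOf_subset vAct ⟨⟨Multiplicative.ofAdd delta, ga * ga * ga * gb * ga * gb⟩, ?_⟩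
      rw [exists_order_three_mul (n := 5) (by norm_num)
        (orderOf_eq_of_matrix (by norm_num) (by decide +kernel) (by decide +kernel)) (by decide +kernel)]
    · refine ⟨⟨e, w⟩, ?_⟩
      rw [orderOf_eq_mul_of_left_ne_one vAct h7 (pow_char_eq_one 7) _ ?_]
      · change 7 * orderOf w = 21
        rw [hw]
      change ((⟨e, w⟩ : Multiplicative (Fin 4 → ZMod 7) ⋊[vAct] (Multiplicative oddFun ⋊[wAct] C)) ^
        orderOf w).left ≠ 1
      rw [(pow_left_apply vAct _ w _).1, hw]
      have hwi : ∀ i : ℕ, vAct (w ^ i) e = e := by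
        intro i
        have : (w ^ i).right = 1 := by rw [(pow_left_apply wAct _ _ i).2]; exact one_pow i
        rw [vAct_apply, this]
        simp
      simp only [hwi, Finset.prod_const, Finset.card_range]
      intro h
      have h1 := congrFun (congrArg Multiplicative.toAdd h) 0
      simp [e] at h1
      exact absurd h1 (by decide)

end CfsgLib.Recog.A10Model
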