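import Mathlib

/-!
An abelian `p`-group of rank `k` permuting `n` points has order at most `(n / k) ^ k`.
-/

set_option autoImplicit false

namespace CfsgLib.Recog

/-- Weighted arithmetic-geometric mean for natural numbers. -/
theorem pow_mul_pow_mul_le (x y r s : ℕ) :
    y ^ r * x ^ s * (r + s) ^ (r + s) ≤ r ^ r * s ^ s * (x + y) ^ (r + s) := by
  rcases Nat.eq_zero_or_pos r with rfl | hr
  · simp only [pow_zero, one_mul, zero_add]
    rw [mul_comm]
    exact Nat.mul_le_mul_left _ (Nat.pow_le_pow_left (Nat.le_add_right x y) _)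
  rcases Nat.eq_zero_or_pos s with rfl | hs
  · simp only [pow_zero, mul_one, add_zero]
    rw [mul_comm]
    exact Nat.mul_le_mul_left _ (Nat.pow_le_pow_left (Nat.le_add_left y x) _)
  have hr' : (0 : ℝ) < r := by exact_mod_cast hr
  have hs' : (0 : ℝ) < s := by exact_mod_cast hs
  have hk : (0 : ℝ) < (r : ℝ) + s := by positivity
  have h := Real.geom_mean_le_arith_mean2_weighted
    (w₁ := (r : ℝ) / (r + s)) (w₂ := (s : ℝ) / (r + s))
    (p₁ := (y : ℝ) / r) (p₂ := (x : ℝ) / s) (by positivity) (by positivity) (by positivity)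
    (by positivity) (by field_simp)
  have hrhs : (r : ℝ) / (r + s) * ((y : ℝ) / r) + (s : ℝ) / (r + s) * ((x : ℝ) / s) =
      ((x : ℝ) + y) / (r + s) := by field_simp; ring
  rw [hrhs] at h
  have h2 := pow_le_pow_left₀ (by positivity) h (r + s)
  have key : ∀ (z : ℝ) (m : ℕ), 0 ≤ z →
      (z ^ ((m : ℝ) / ((r : ℝ) + s))) ^ (r + s) = z ^ m := by
    intro z m hz
    rw [← Real.rpow_natCast _ (r + s), ← Real.rpow_mul hz, Nat.cast_add, div_mul_cancel₀ _ hk.ne',
      Real.rpow_natCast]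
  rw [mul_pow, key _ r (by positivity), key _ s (by positivity), div_pow, div_pow, div_pow] at h2
  rw [div_mul_div_comm, div_le_div_iff₀ (by positivity) (by positivity)] at h2
  have h3 : ((y ^ r * x ^ s * (r + s) ^ (r + s) : ℕ) : ℝ) ≤
      ((r ^ r * s ^ s * (x + y) ^ (r + s) : ℕ) : ℝ) := by
    push_cast
    calc (y : ℝ) ^ r * (x : ℝ) ^ s * ((r : ℝ) + s) ^ (r + s)
        ≤ ((x : ℝ) + y) ^ (r + s) * ((r : ℝ) ^ r * (s : ℝ) ^ s) := h2
      _ = _ := by ring
  exact_mod_cast h3

theorem pow_self_le_pow {y r : ℕ} (hr : 1 ≤ r) (hy : 2 ^ r ≤ y) : y * r ^ r ≤ y ^ r := by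
  obtain ⟨t, rfl⟩ := Nat.exists_eq_succ_of_ne_zero (Nat.one_le_iff_ne_zero.1 hr)
  have h1 : (t + 1) ^ (t + 1) ≤ y ^ t :=
    calc (t + 1) ^ (t + 1) ≤ (2 ^ t) ^ (t + 1) := Nat.pow_le_pow_left Nat.lt_two_pow_self _
      _ = (2 ^ (t + 1)) ^ t := by rw [← pow_mul, ← pow_mul, mul_comm]
      _ ≤ y ^ t := Nat.pow_le_pow_left hy _
  calc y * (t + 1) ^ (t + 1) ≤ y * y ^ t := Nat.mul_le_mul_left _ h1
    _ = y ^ (t + 1) := by rw [pow_succ']

/-- Orbit-stabiliser for a subgroup of a permutation group. -/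
theorem card_orbit_mul_inf_stabilizer {Ω : Type*} [Finite Ω] (B : Subgroup (Equiv.Perm Ω)) (x : Ω) :
    Nat.card (MulAction.orbit B x) *
      Nat.card (B ⊓ MulAction.stabilizer (Equiv.Perm Ω) x : Subgroup (Equiv.Perm Ω)) = Nat.card B := by
  have e1 := (MulAction.stabilizer B x).card_mul_index
  rw [MulAction.index_stabilizer] at e1
  have e2 : Nat.card (MulAction.stabilizer B x) =
      Nat.card (B ⊓ MulAction.stabilizer (Equiv.Perm Ω) x : Subgroup (Equiv.Perm Ω)) := by
    refine Nat.card_congr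
      { toFun := fun b => ⟨b.1.1, b.1.2, b.2⟩
        invFun := fun b => ⟨⟨b.1, b.2.1⟩, b.2.2⟩
        left_inv := fun b => rfl
        right_inv := fun b => rfl }
  rw [← e1, ← e2, mul_comm]
  rw [Nat.card_coe_set_eq]

theorem card_mul_pow_le_pow {Ω : Type*} [Fintype Ω] (p : ℕ) (hp : p.Prime) :
    ∀ (B : Subgroup (Equiv.Perm Ω)), IsPGroup p B → (∀ a ∈ B, ∀ b ∈ B, a * b = b * a) →
      ∀ (S : Finset Ω), (∀ b ∈ B, ∀ x ∉ S, b x = x) → ∀ k : ℕ,
        Nat.card {x : B // x ^ p = 1} = p ^ k → Nat.card B * k ^ k ≤ S.card ^ k := by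
  classical
  haveI := Fact.mk hp
  intro B
  induction hc : Nat.card B using Nat.strong_induction_on generalizing B with
  | h c ih =>
    intro hB hcomm S hS k hk
    subst hc
    -- the elements killed by `p`
    let P : Subgroup (Equiv.Perm Ω) :=
      { carrier := {b | b ∈ B ∧ b ^ p = 1}
        one_mem' := ⟨B.one_mem, one_pow p⟩
        mul_mem' := fun {a b} ha hb =>
          ⟨B.mul_mem ha.1 hb.1, by rw [Commute.mul_pow (show Commute a b from hcomm a ha.1 b hb.1), ha.2, hb.2, one_mul]⟩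
        inv_mem' := fun {a} ha => ⟨B.inv_mem ha.1, by rw [inv_pow, ha.2, inv_one]⟩ }
    have hP : Nat.card P = p ^ k := by
      rw [← hk]
      exact Nat.card_congr
        { toFun := fun b => ⟨⟨b.1, b.2.1⟩, Subtype.ext b.2.2⟩
          invFun := fun b => ⟨b.1.1, b.1.2, congrArg Subtype.val b.2⟩
          left_inv := fun b => rfl
          right_inv := fun b => rfl }
    by_cases hB1 : Nat.card B = 1
    · have hk0 : k = 0 := by
        have : Nat.card P ≤ 1 := hB1 ▸ Subgroup.card_le_of_le (fun b hb => hb.1)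
        rw [hP] at this
        by_contra hne
        exact absurd (Nat.one_lt_pow hne hp.one_lt) (by omega)
      rw [hk0, hB1]
      simp
    -- an orbit moved by an element of order `p`
    obtain ⟨b, hb⟩ := exists_prime_orderOf_dvd_card' (G := B) p (by
      obtain ⟨e, he⟩ := hB.exists_card_eq
      rw [he]
      exact dvd_pow_self p (fun h0 => hB1 (by rw [he, h0, pow_zero])))
    obtain ⟨x, hx⟩ : ∃ x, (b : Equiv.Perm Ω) x ≠ x := by
      by_contra h
      push_neg at h
      have : b = 1 := Subtype.ext (Equiv.ext h)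
      rw [this, orderOf_one] at hb
      exact hp.ne_one hb.symm
    set B₀ := B ⊓ MulAction.stabilizer (Equiv.Perm Ω) x with hB₀
    have hB₀p : IsPGroup p B₀ := hB.to_le inf_le_left
    have hcard := card_orbit_mul_inf_stabilizer B x
    have hcardP := card_orbit_mul_inf_stabilizer P x
    have hP0 : Nat.card (P ⊓ MulAction.stabilizer (Equiv.Perm Ω) x : Subgroup (Equiv.Perm Ω)) =
        Nat.card {z : B₀ // z ^ p = 1} :=
      Nat.card_congr
        { toFun := fun z => ⟨⟨z.1, z.2.1.1, z.2.2⟩, Subtype.ext z.2.1.2⟩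
          invFun := fun z => ⟨z.1.1, ⟨z.1.2.1, congrArg Subtype.val z.2⟩, z.1.2.2⟩
          left_inv := fun z => rfl
          right_inv := fun z => rfl }
    rw [hP] at hcardP
    obtain ⟨r, -, hr⟩ := (Nat.dvd_prime_pow hp).1 (Dvd.intro _ hcardP)
    obtain ⟨s, -, hs⟩ := (Nat.dvd_prime_pow hp).1 (Dvd.intro_left _ hcardP)
    have hrs : r + s = k := by
      rw [hr, hs, ← pow_add] at hcardP
      exact Nat.pow_right_injective hp.two_le hcardP
    have hr1 : 1 ≤ r := by
      by_contra h0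
      have h1 : Nat.card (MulAction.orbit P x) = 1 := by rw [hr, show r = 0 by omega, pow_zero]
      have hbP : (b : Equiv.Perm Ω) ∈ P := ⟨b.2, by
        rw [← SubgroupClass.coe_pow, ← hb, pow_orderOf_eq_one, OneMemClass.coe_one]⟩
      haveI := (Nat.card_eq_one_iff_unique.1 h1).1
      have h2 := Subsingleton.elim (α := MulAction.orbit P x)
        ⟨(b : Equiv.Perm Ω) x, ⟨⟨_, hbP⟩, rfl⟩⟩ ⟨x, MulAction.mem_orbit_self x⟩
      exact hx (congrArg Subtype.val h2)
    have hsub : MulAction.orbit P x ⊆ MulAction.orbit B x := by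
      rintro _ ⟨⟨g, hg⟩, rfl⟩
      exact ⟨⟨g, hg.1⟩, rfl⟩
    have hy : 2 ^ r ≤ Nat.card (MulAction.orbit B x) :=
      calc 2 ^ r ≤ p ^ r := Nat.pow_le_pow_left hp.two_le r
        _ = Nat.card (MulAction.orbit P x) := hr.symm
        _ ≤ _ := Nat.card_mono (Set.toFinite _) hsub
    set O := (MulAction.orbit B x).toFinset with hO
    have hOc : Nat.card (MulAction.orbit B x) = O.card := by
      rw [hO, Set.toFinset_card, Nat.card_eq_fintype_card]
    have hlt : Nat.card B₀ < Nat.card B := by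
      rw [← hcard]
      have h2 : 2 ≤ Nat.card (MulAction.orbit B x) := le_trans (Nat.le_self_pow (by omega) 2) hy
      have h3 : 0 < Nat.card B₀ := Nat.card_pos
      calc Nat.card B₀ < 2 * Nat.card B₀ := by omega
        _ ≤ _ := Nat.mul_le_mul_right _ h2
    have hS0 : ∀ z ∈ B₀, ∀ w ∉ S \ O, z w = w := by
      intro z hz w hw
      rw [Finset.mem_sdiff, not_and_or, not_not] at hw
      rcases hw with hw | hw
      · exact hS z hz.1 w hw
      · obtain ⟨⟨g, hg⟩, rfl⟩ := Set.mem_toFinset.1 hw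
        change z (g x) = g x
        rw [← Equiv.Perm.mul_apply, hcomm z hz.1 g hg, Equiv.Perm.mul_apply]
        exact congrArg g hz.2
    have hrec := ih _ hlt B₀ rfl hB₀p (fun a ha c hc => hcomm a ha.1 c hc.1) (S \ O) hS0 s
      (by rw [← hP0, hs])
    have hOS : O ⊆ S := by
      intro w hw
      obtain ⟨⟨g, hg⟩, rfl⟩ := Set.mem_toFinset.1 hw
      by_contra hn
      apply hx
      have h1 := hS (b : Equiv.Perm Ω) b.2 (g x) hn
      rw [← Equiv.Perm.mul_apply, hcomm _ b.2 g hg, Equiv.Perm.mul_apply] at h1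
      exact g.injective h1
    have hsum : (S \ O).card + O.card = S.card := Finset.card_sdiff_add_card_eq_card hOS
    rw [← hcard, ← hrs, ← hsum, hOc]
    rw [hOc] at hy
    have h1 := pow_self_le_pow hr1 hy
    have h2 := pow_mul_pow_mul_le (S \ O).card O.card r s
    have hpos : 0 < r ^ r * s ^ s := by
      refine Nat.mul_pos (pow_pos (by omega) r) ?_
      rcases Nat.eq_zero_or_pos s with h | h
      · simp [h]
      · exact pow_pos h s
    refine Nat.le_of_mul_le_mul_left ?_ hpos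
    calc r ^ r * s ^ s * (O.card * Nat.card B₀ * (r + s) ^ (r + s))
        = (O.card * r ^ r) * (Nat.card B₀ * s ^ s) * (r + s) ^ (r + s) := by ring
      _ ≤ O.card ^ r * (S \ O).card ^ s * (r + s) ^ (r + s) :=
          Nat.mul_le_mul_right _ (Nat.mul_le_mul h1 hrec)
      _ ≤ _ := h2

end CfsgLib.Recog
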