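import Mathlib

/-!
Permutations agreeing with affine maps on all triples of points.
-/

set_option autoImplicit false

namespace CfsgLib.Recog

variable {p : ℕ} [Fact p.Prime] {d : ℕ}

/-- An affine map of `(ZMod p)^d`. -/
def IsAffineMap (τ : Equiv.Perm (Fin d → ZMod p)) : Prop :=
  ∃ (A : (Fin d → ZMod p) ≃ₗ[ZMod p] (Fin d → ZMod p)) (b : Fin d → ZMod p), ∀ x, τ x = A x + b

theorem isAffineMap_of_map_add {σ : Equiv.Perm (Fin d → ZMod p)}
    (h : ∀ x y, σ (x + y) = σ x + σ y - σ 0) : IsAffineMap σ := by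
  let f : (Fin d → ZMod p) →+ (Fin d → ZMod p) :=
    AddMonoidHom.mk' (fun x => σ x - σ 0) fun x y => by rw [h]; abel
  have hb : Function.Bijective (f.toZModLinearMap p) :=
    ⟨fun x y hxy => σ.injective (sub_left_injective hxy),
      fun y => ⟨σ.symm (y + σ 0), by simp [f]⟩⟩
  exact ⟨LinearEquiv.ofBijective _ hb, σ 0, fun x => by simp [f]⟩

/-- For odd `p`, agreeing with affine maps on all triples forces affinity. -/
theorem isAffineMap_of_triples (hp : p ≠ 2) {σ : Equiv.Perm (Fin d → ZMod p)}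
    (h : ∀ t : Fin 3 → Fin d → ZMod p, ∃ g, IsAffineMap g ∧ ∀ i, σ (t i) = g (t i)) :
    IsAffineMap σ := by
  have h2 : (2 : ZMod p) ≠ 0 := by
    intro h2
    have h3 : ((2 : ℕ) : ZMod p) = 0 := by simpa using h2
    rw [ZMod.natCast_eq_zero_iff] at h3
    exact hp ((Nat.prime_dvd_prime_iff_eq Fact.out Nat.prime_two).1 h3)
  have hmid : ∀ x y, σ x + σ y = σ ((2 : ZMod p)⁻¹ • (x + y)) + σ ((2 : ZMod p)⁻¹ • (x + y)) := by
    intro x y
    obtain ⟨g, ⟨A, b, hA⟩, hg⟩ := h ![x, y, (2 : ZMod p)⁻¹ • (x + y)]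
    have h0 := hg 0
    have h1 := hg 1
    have h3 := hg 2
    simp only [Matrix.cons_val_zero, Matrix.cons_val_one, Matrix.cons_val_two, Matrix.tail_cons,
      Matrix.head_cons, hA] at h0 h1 h3
    rw [h0, h1, h3]
    have h4 : A ((2 : ZMod p)⁻¹ • (x + y)) + A ((2 : ZMod p)⁻¹ • (x + y)) = A x + A y := by
      rw [← map_add, ← map_add, ← add_smul, ← two_mul, mul_inv_cancel₀ h2, one_smul]
    calc A x + b + (A y + b) = A x + A y + (b + b) := by abel
      _ = _ := by rw [← h4]; abel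
  refine isAffineMap_of_map_add fun x y => ?_
  have e1 := hmid x y
  have e2 := hmid (x + y) 0
  rw [add_zero] at e2
  rw [← e1] at e2
  rw [← e2]
  abel

theorem isAffineMap_two_two (σ : Equiv.Perm (Fin 2 → ZMod 2)) : IsAffineMap σ := by
  have key : ∀ a b c : Fin 2 → ZMod 2, a ≠ 0 → b ≠ 0 → c ≠ 0 → a ≠ b → a ≠ c → b ≠ c →
      c = a + b := by decide
  refine isAffineMap_of_map_add fun x y => ?_
  by_cases hx : x = 0
  · subst hx; simp
  by_cases hy : y = 0
  · subst hy; simp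
  have hsub : ∀ v : Fin 2 → ZMod 2, v + v = 0 := by decide
  have hsub' : ∀ v w : Fin 2 → ZMod 2, v + v - w = w := by decide
  by_cases hxy : x = y
  · subst hxy
    rw [hsub, hsub']
  · have hne : ∀ {v w}, v ≠ w → σ v - σ 0 ≠ σ w - σ 0 := fun hvw h =>
      hvw (σ.injective (sub_left_injective h))
    have hxy0 : x + y ≠ 0 := fun h => hxy (add_right_cancel (h.trans (hsub y).symm))
    have h1 := key (σ x - σ 0) (σ y - σ 0) (σ (x + y) - σ 0) (by simpa using hne hx)
      (by simpa using hne hy) (by simpa using hne hxy0) (hne hxy)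
      (hne fun h => hy (left_eq_add.1 h)) (hne fun h => hx (right_eq_add.1 h))
    rw [sub_eq_iff_eq_add] at h1
    rw [h1]
    abel

/-- A linear map agreeing with a given one on two vectors and with prescribed determinant. -/
theorem exists_det_one_agree (hd : 3 ≤ d) (A : (Fin d → ZMod p) ≃ₗ[ZMod p] (Fin d → ZMod p))
    (u w : Fin d → ZMod p) : ∃ B : (Fin d → ZMod p) ≃ₗ[ZMod p] (Fin d → ZMod p),
      LinearMap.det (B : (Fin d → ZMod p) →ₗ[ZMod p] (Fin d → ZMod p)) = 1 ∧ B u = A u ∧ B w = A w := by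
  set W := Submodule.span (ZMod p) (Set.range ![u, w]) with hW
  have hWlt : W < ⊤ := by
    refine lt_top_iff_ne_top.2 fun h => ?_
    have h1 := finrank_range_le_card (R := ZMod p) ![u, w]
    rw [Set.finrank, ← hW, h, finrank_top, Module.finrank_fin_fun, Fintype.card_fin] at h1
    omega
  obtain ⟨φ, hφ, hker⟩ := Submodule.exists_le_ker_of_lt_top W hWlt
  obtain ⟨z₀, hz₀⟩ : ∃ z, φ z ≠ 0 := by
    by_contra hall
    push_neg at hall
    exact hφ (LinearMap.ext hall)
  set a := (φ z₀)⁻¹ * ((LinearMap.det (A : (Fin d → ZMod p) →ₗ[ZMod p] (Fin d → ZMod p)))⁻¹ - 1)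
  set D := LinearMap.transvection φ (a • z₀)
  have hdet : LinearMap.det D =
      (LinearMap.det (A : (Fin d → ZMod p) →ₗ[ZMod p] (Fin d → ZMod p)))⁻¹ := by
    rw [LinearMap.transvection.det, map_smul, smul_eq_mul, mul_comm, mul_inv_cancel_left₀ hz₀,
      add_sub_cancel]
  have hA0 : LinearMap.det (A : (Fin d → ZMod p) →ₗ[ZMod p] (Fin d → ZMod p)) ≠ 0 :=
    A.isUnit_det'.ne_zero
  have hdet1 : LinearMap.det ((A : (Fin d → ZMod p) →ₗ[ZMod p] (Fin d → ZMod p)).comp D) = 1 := by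
    rw [LinearMap.det_comp, hdet, mul_inv_cancel₀ hA0]
  refine ⟨LinearMap.equivOfDetNeZero _ (by rw [hdet1]; exact one_ne_zero),
    ?_, ?_, ?_⟩
  · refine Eq.trans (congrArg LinearMap.det ?_) hdet1
    exact LinearMap.ext fun _ => rfl
  all_goals
    refine congrArg A ?_
    have h : ∀ v ∈ W, D v = v := fun v hv => by
      rw [LinearMap.transvection.apply, LinearMap.mem_ker.1 (hker hv), zero_smul, add_zero]
  · exact h u (Submodule.subset_span ⟨0, rfl⟩)
  · exact h w (Submodule.subset_span ⟨1, rfl⟩)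

end CfsgLib.Recog
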