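import Mathlib

/-!
Orders of `p`-elements of affine groups.
-/

set_option autoImplicit false
set_option maxHeartbeats 400000

namespace CfsgLib.Recog

open Polynomial

/-- In characteristic `p`, `1 + X + ⋯ + X ^ (q - 1) = (X - 1) ^ (q - 1)` for a power `q` of `p`. -/
theorem geom_sum_eq_sub_one_pow (p k : ℕ) [Fact p.Prime] :
    ∑ i ∈ Finset.range (p ^ k), (X : (ZMod p)[X]) ^ i = (X - 1) ^ (p ^ k - 1) := by
  have h0 : (X - 1 : (ZMod p)[X]) ≠ 0 := by simpa using X_sub_C_ne_zero (1 : ZMod p)
  refine mul_right_cancel₀ h0 ?_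
  rw [geom_sum_mul, ← pow_succ, Nat.sub_add_cancel (Nat.one_le_pow _ _ (Fact.out : p.Prime).pos),
    sub_pow_char_pow, one_pow]

theorem pow_sub_one_eq (p k : ℕ) [Fact p.Prime] :
    ((X - 1 : (ZMod p)[X])) ^ p ^ k = X ^ p ^ k - 1 := by
  rw [sub_pow_char_pow, one_pow]

/-- For a linear map `A` of period a power of `p` on an `m`-dimensional space, the norm of `A` and
`A ^ q - 1` vanish once the power `q` of `p` exceeds `m`. -/
theorem norm_eq_zero_of_lt {p : ℕ} [Fact p.Prime] {V : Type*} [AddCommGroup V] [Module (ZMod p) V]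
    [Finite V] {m : ℕ} (hV : Nat.card V = p ^ m) {A : Module.End (ZMod p) V} {r k : ℕ}
    (hA : A ^ p ^ r = 1) (hk : m < p ^ k) :
    ∑ i ∈ Finset.range (p ^ k), A ^ i = 0 ∧ A ^ p ^ k = 1 := by
  have hnil : (A - 1) ^ p ^ r = 0 := by
    have := congrArg (aeval A) (pow_sub_one_eq p r)
    simpa [hA] using this
  have hm : Module.finrank (ZMod p) V = m := by
    have h := Module.natCard_eq_pow_finrank (K := ZMod p) (V := V)
    rw [Nat.card_zmod, hV] at h
    exact Nat.pow_right_injective (Fact.out : p.Prime).two_le h.symm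
  have hzero : ∀ j, m ≤ j → (A - 1) ^ j = 0 := fun j hj => by
    have h : (A - 1) ^ Module.finrank (ZMod p) V = 0 := by
      refine LinearMap.ker_eq_top.1 (top_unique ?_)
      rw [← show LinearMap.ker ((A - 1) ^ p ^ r) = ⊤ by rw [hnil, LinearMap.ker_zero]]
      exact Module.End.ker_pow_le_ker_pow_finrank _ _
    rw [hm] at h
    exact pow_eq_zero_of_le hj h
  refine ⟨?_, ?_⟩
  · have := congrArg (aeval A) (geom_sum_eq_sub_one_pow p k)
    simpa [hzero (p ^ k - 1) (by omega)] using this
  · have := congrArg (aeval A) (pow_sub_one_eq p k)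
    simp [hzero (p ^ k) hk.le] at this
    exact (sub_eq_zero.1 this.symm)

/-- The same, for an automorphism of an elementary abelian group written multiplicatively. -/
theorem mulAut_norm_eq_one_of_lt {p : ℕ} [Fact p.Prime] {M : Type*} [CommGroup M] [Finite M]
    (hM : ∀ x : M, x ^ p = 1) {m : ℕ} (hcard : Nat.card M = p ^ m) {φ : MulAut M} {r k : ℕ}
    (hφ : φ ^ p ^ r = 1) (hk : m < p ^ k) :
    (∀ v : M, ∏ i ∈ Finset.range (p ^ k), (φ ^ i) v = 1) ∧ φ ^ p ^ k = 1 := by
  letI : Module (ZMod p) (Additive M) := AddCommGroup.zmodModule (n := p) hM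
  let A : Module.End (ZMod p) (Additive M) := φ.toMonoidHom.toAdditive.toZModLinearMap p
  have hA : ∀ (i : ℕ) (v : M), (A ^ i) (Additive.ofMul v) = Additive.ofMul ((φ ^ i) v) := by
    intro i
    induction i with
    | zero => intro v; rfl
    | succ i ih =>
      intro v
      rw [pow_succ', Module.End.mul_apply, ih, pow_succ', MulAut.mul_apply]
      rfl
  obtain ⟨h1, h2⟩ := norm_eq_zero_of_lt (V := Additive M) (A := A) (r := r) (k := k) hcard
    (LinearMap.ext fun v => (hA _ (Additive.toMul v)).trans (by rw [hφ]; rfl)) hk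
  refine ⟨fun v => ?_, MulEquiv.ext fun v => ?_⟩
  · have h := LinearMap.congr_fun h1 (Additive.ofMul v)
    rw [LinearMap.sum_apply, Finset.sum_congr rfl fun i _ => hA i v, ← ofMul_prod] at h
    exact h
  · exact (hA _ v).symm.trans (LinearMap.congr_fun h2 (Additive.ofMul v))

end CfsgLib.Recog
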