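import Cfsg.Agent.Lib.Recog.Unbounded

/-!
Groups `L ⋊ C` with `C` a group of units of the finite field `L`.
-/

set_option autoImplicit false

namespace CfsgLib.Recog

variable {L : Type*} [Field L]

/-- Multiplication by units, as automorphisms of the additive group. -/
def scaleAct : Lˣ →* MulAut (Multiplicative L) where
  toFun u :=
    { toFun := fun v => Multiplicative.ofAdd ((u : L) * v.toAdd)
      invFun := fun v => Multiplicative.ofAdd (((u⁻¹ : Lˣ) : L) * v.toAdd)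
      left_inv := fun v => by simp
      right_inv := fun v => by simp
      map_mul' := fun v w => by simp [mul_add, ← ofAdd_add] }
  map_one' := by ext v; simp
  map_mul' u w := by ext v; simp [mul_assoc]

theorem scaleAct_apply (u : Lˣ) (v : Multiplicative L) :
    (scaleAct u v).toAdd = (u : L) * v.toAdd := rfl

variable [Finite L]

/-- The spectrum of `L ⋊ C`. -/
theorem range_orderOf_affineLine (p : ℕ) [hp : Fact p.Prime] [CharP L p] {u : Lˣ} {m : ℕ}
    (hu : orderOf u = m) :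
    Set.range (orderOf :
        Multiplicative L ⋊[scaleAct.comp (Subgroup.zpowers u).subtype] Subgroup.zpowers u → ℕ) =
      {n | n ∣ m ∨ n = p} := by
  have hm : m ≠ 0 := hu ▸ (orderOf_pos u).ne'
  have hexp : ∀ v : Multiplicative L, v ^ p = 1 := fun v => by
    apply Multiplicative.toAdd.injective
    rw [toAdd_pow, toAdd_one, nsmul_eq_mul, CharP.cast_eq_zero, zero_mul]
  ext n
  constructor
  · rintro ⟨x, rfl⟩
    rcases orderOf_cases _ hp.out hexp x with h | ⟨h, v, hv, hfix⟩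
    · refine Or.inl ?_
      rw [h, ← hu, ← Nat.card_zpowers u]
      exact orderOf_dvd_natCard x.right
    · refine Or.inr ?_
      have h2 := congrArg Multiplicative.toAdd hfix
      rw [MonoidHom.comp_apply, scaleAct_apply] at h2
      have hv0 : v.toAdd ≠ 0 := fun h0 => hv (Multiplicative.toAdd.injective (by simpa using h0))
      have h1 : (x.right : Lˣ) = 1 := Units.ext (mul_right_cancel₀ hv0 (h2.trans (one_mul _).symm))
      rw [h, ← Subgroup.orderOf_coe, h1, orderOf_one, mul_one]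
  · rintro (h | rfl)
    · obtain ⟨y, hy⟩ : ∃ y : Subgroup.zpowers u, orderOf y = n := by
        refine ⟨⟨u, Subgroup.mem_zpowers u⟩ ^ (m / n), ?_⟩
        rw [orderOf_pow' _ (Nat.div_ne_zero_iff_of_dvd h |>.2 ⟨hm, ne_zero_of_dvd_ne_zero hm h⟩),
          Subgroup.orderOf_mk, hu, Nat.gcd_eq_right (Nat.div_dvd_of_dvd h), Nat.div_div_self h hm]
      exact hy ▸ range_orderOf_subset _ ⟨y, rfl⟩
    · refine ⟨SemidirectProduct.inl (Multiplicative.ofAdd (1 : L)), ?_⟩
      rw [orderOf_injective _ SemidirectProduct.inl_injective]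
      exact orderOf_eq_prime (hexp _) (by simp)

theorem isSolvable_affineLine (S : Subgroup Lˣ) :
    Group.IsSolvable (Multiplicative L ⋊[scaleAct.comp S.subtype] S) :=
  Group.isSolvable_of_ker_le_range SemidirectProduct.inl SemidirectProduct.rightHom
    SemidirectProduct.range_inl_eq_ker_rightHom.ge

theorem exists_units_orderOf {m : ℕ} (hm : m ∣ Nat.card L - 1) : ∃ u : Lˣ, orderOf u = m := by
  obtain ⟨ζ, hζ⟩ := IsCyclic.exists_ofOrder_eq_natCard (α := Lˣ)
  rw [Nat.card_units] at hζ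
  have h0 : Nat.card L - 1 ≠ 0 := hζ ▸ (orderOf_pos ζ).ne'
  refine ⟨ζ ^ ((Nat.card L - 1) / m), ?_⟩
  rw [orderOf_pow' _ (Nat.div_ne_zero_iff_of_dvd hm |>.2 ⟨h0, ne_zero_of_dvd_ne_zero h0 hm⟩), hζ,
    Nat.gcd_eq_right (Nat.div_dvd_of_dvd hm), Nat.div_div_self hm h0]

theorem range_orderOf_prod {A B : Type*} [Group A] [Group B] :
    Set.range (orderOf : A × B → ℕ) =
      {n | ∃ a ∈ Set.range (orderOf : A → ℕ), ∃ b ∈ Set.range (orderOf : B → ℕ),
        n = Nat.lcm a b} := by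
  ext n
  constructor
  · rintro ⟨x, rfl⟩
    exact ⟨_, ⟨x.1, rfl⟩, _, ⟨x.2, rfl⟩, Prod.orderOf x⟩
  · rintro ⟨_, ⟨a, rfl⟩, _, ⟨b, rfl⟩, rfl⟩
    exact ⟨(a, b), Prod.orderOf (a, b)⟩

/-- Spectra `div a ∪ {p}` and `div b ∪ {p}` have the lcm's of `div a ∪ div b ∪ {p}`. -/
theorem lcm_set_eq (a b p : ℕ) :
    {n | ∃ x ∈ {n | n ∣ a ∨ n = p}, ∃ y ∈ {n | n ∣ b ∨ n = p}, n = Nat.lcm x y} =
      {n | ∃ x ∈ {n | n = p ∨ n ∣ a ∨ n ∣ b}, ∃ y ∈ {n | n = p ∨ n ∣ a ∨ n ∣ b},
        n = Nat.lcm x y} := by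
  ext n
  constructor
  · rintro ⟨x, hx, y, hy, rfl⟩
    exact ⟨x, by rcases hx with h | h; exacts [Or.inr (Or.inl h), Or.inl h],
      y, by rcases hy with h | h; exacts [Or.inr (Or.inr h), Or.inl h], rfl⟩
  · rintro ⟨x, hx, y, hy, rfl⟩
    rcases hx with hx | hx | hx <;> rcases hy with hy | hy | hy
    · exact ⟨x, Or.inr hx, y, Or.inr hy, rfl⟩
    · exact ⟨y, Or.inl hy, x, Or.inr hx, Nat.lcm_comm _ _⟩
    · exact ⟨x, Or.inr hx, y, Or.inl hy, rfl⟩
    · exact ⟨x, Or.inl hx, y, Or.inr hy, rfl⟩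
    · exact ⟨Nat.lcm x y, Or.inl (Nat.lcm_dvd hx hy), 1, Or.inl (one_dvd _), by simp⟩
    · exact ⟨x, Or.inl hx, y, Or.inl hy, rfl⟩
    · exact ⟨y, Or.inr hy, x, Or.inl hx, Nat.lcm_comm _ _⟩
    · exact ⟨y, Or.inl hy, x, Or.inl hx, Nat.lcm_comm _ _⟩
    · exact ⟨1, Or.inl (one_dvd _), Nat.lcm x y, Or.inl (Nat.lcm_dvd hx hy), by simp⟩

end CfsgLib.Recog
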