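import Cfsg.Agent.Lib.Recog.TwoPrimes
import Cfsg.Agent.Lib.Recog.AltSpectrum

/-!
Large primes in the order of an alternating group, and elements of order `pq`.
-/

set_option autoImplicit false

namespace CfsgLib.Recog

theorem not_sq_dvd_factorial {p n : ℕ} (hp : p.Prime) (hn : n < 2 * p) : ¬ p ^ 2 ∣ n.factorial := by
  induction n with
  | zero =>
    simp only [Nat.factorial_zero, Nat.dvd_one]
    have := hp.one_lt
    nlinarith
  | succ n ih =>
    intro h
    rw [Nat.factorial_succ] at h
    by_cases hpn : n + 1 = p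
    · rw [← hpn, pow_two] at h
      have h1 : (n + 1) ∣ n.factorial := (Nat.mul_dvd_mul_iff_left n.succ_pos).1 h
      have := (Nat.Prime.dvd_factorial (hpn ▸ hp)).1 h1
      omega
    · have h1 : ¬ p ∣ n + 1 := by
        rintro ⟨c, hc⟩
        rcases c with _ | _ | c
        · omega
        · omega
        · nlinarith
      exact ih (by omega) (((hp.coprime_iff_not_dvd.2 h1).pow_left 2).dvd_of_dvd_mul_left h)

/-- A prime dividing an lcm divides a member. -/
theorem exists_dvd_of_prime_dvd_lcm {p : ℕ} (hp : p.Prime) :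
    ∀ s : Multiset ℕ, p ∣ s.lcm → ∃ i ∈ s, p ∣ i := by
  intro s
  induction s using Multiset.induction_on with
  | empty =>
    intro h
    rw [Multiset.lcm_zero] at h
    exact absurd (Nat.dvd_one.1 h) hp.ne_one
  | cons a s ih =>
    intro h
    rw [Multiset.lcm_cons] at h
    rcases hp.dvd_mul.1 (h.trans (Nat.lcm_dvd_mul a s.lcm)) with h | h
    · exact ⟨a, Multiset.mem_cons_self _ _, h⟩
    · obtain ⟨i, hi, hpi⟩ := ih h
      exact ⟨i, Multiset.mem_cons_of_mem hi, hpi⟩

/-- A permutation has no order divisible by two primes of sum and product above the degree. -/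
theorem not_mul_dvd_orderOf {n p q : ℕ} (hp : p.Prime) (hq : q.Prime) (hpq : p ≠ q)
    (hsum : n < p + q) (σ : Equiv.Perm (Fin n)) : ¬ p * q ∣ orderOf σ := by
  intro h
  rw [orderOf_eq_lcm_partition] at h
  obtain ⟨i, hi, hpi⟩ := exists_dvd_of_prime_dvd_lcm hp _ ((dvd_mul_right p q).trans h)
  obtain ⟨j, hj, hqj⟩ := exists_dvd_of_prime_dvd_lcm hq _ ((dvd_mul_left q p).trans h)
  have hi0 := σ.partition.parts_pos hi
  have hj0 := σ.partition.parts_pos hj
  have hle : p + q ≤ σ.partition.parts.sum := by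
    by_cases hij : i = j
    · subst hij
      have h1 := Nat.le_of_dvd hi0 (((Nat.coprime_primes hp hq).2 hpq).mul_dvd_of_dvd_of_dvd hpi hqj)
      have h2 := Multiset.le_sum_of_mem hi
      have h3 := hp.two_le
      have h4 := hq.two_le
      nlinarith
    · obtain ⟨t, ht⟩ := Multiset.exists_cons_of_mem hi
      rw [ht] at hj ⊢
      rw [Multiset.sum_cons]
      rcases Multiset.mem_cons.1 hj with hj' | hj'
      · exact absurd hj'.symm hij
      · have h1 := Nat.le_of_dvd hi0 hpi
        have h2 := Nat.le_of_dvd hj0 hqj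
        have h3 := Multiset.le_sum_of_mem hj'
        omega
  rw [σ.partition.parts_sum, Fintype.card_fin] at hle
  omega

/-- Two Sylow subgroups forced to be normal give an element of order `p q`. -/
theorem exists_orderOf_mul_of_sylow_unique {H : Type*} [Group H] [Finite H] {p q : ℕ}
    (hp : p.Prime) (hq : q.Prime) (hpq : p ≠ q) (hpd : p ∣ Nat.card H) (hqd : q ∣ Nat.card H)
    (h1 : ∀ d, d ∣ Nat.card H → d % p = 1 → d = 1) (h2 : ∀ d, d ∣ Nat.card H → d % q = 1 → d = 1) :
    ∃ x : H, orderOf x = p * q := by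
  have key : ∀ r : ℕ, r.Prime → r ∣ Nat.card H → (∀ d, d ∣ Nat.card H → d % r = 1 → d = 1) →
      ∃ (P : Subgroup H) (x : H), P.Normal ∧ IsPGroup r P ∧ x ∈ P ∧ orderOf x = r := by
    intro r hr hrd hu
    haveI := Fact.mk hr
    obtain ⟨P⟩ : Nonempty (Sylow r H) := inferInstance
    have hc : Nat.card (Sylow r H) = 1 := hu _
      (P.card_dvd_index.trans (Subgroup.index_dvd_card _))
      (by
        have := card_sylow_modEq_one r H
        rw [Nat.ModEq, Nat.mod_eq_of_lt hr.one_lt] at this
        exact this)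
    haveI := (Nat.card_eq_one_iff_unique.1 hc).1
    obtain ⟨x, hx⟩ := exists_prime_orderOf_dvd_card' r hrd
    have hz : IsPGroup r (Subgroup.zpowers x) :=
      IsPGroup.of_card (n := 1) (by rw [Nat.card_zpowers, hx, pow_one])
    obtain ⟨Q, hQ⟩ := hz.exists_le_sylow
    rw [Subsingleton.elim Q P] at hQ
    exact ⟨P, x, Sylow.normal_of_subsingleton P, P.isPGroup', hQ (Subgroup.mem_zpowers x), hx⟩
  obtain ⟨P, x, hPn, hPp, hxP, hx⟩ := key p hp hpd h1
  obtain ⟨Q, y, hQn, hQp, hyQ, hy⟩ := key q hq hqd h2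
  haveI := Fact.mk hp
  haveI := Fact.mk hq
  have hdis : Disjoint P Q := IsPGroup.disjoint_of_ne p q hpq P Q hPp hQp
  have hcomm : Commute x y := Subgroup.commute_of_normal_of_disjoint P Q hPn hQn hdis x y hxP hyQ
  exact ⟨x * y, by
    rw [hcomm.orderOf_mul_eq_mul_orderOf_of_coprime (by rw [hx, hy]; exact (Nat.coprime_primes hp hq).2 hpq),
      hx, hy]⟩

end CfsgLib.Recog
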