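import Mathlib

/-!
Carmichael's presentation of the alternating groups: the order bound by coset enumeration.
-/

set_option autoImplicit false
set_option maxHeartbeats 400000

namespace CfsgLib.Recog

open scoped Pointwise

variable {P : Type*} [Group P] (x : ℕ → P)

/-- The coset `x k x (k+1) ⋯ x m H`, counted from the top: `chain x c₀ m j = x (m+1-j) • ⋯ • x m • c₀`. -/
def chain {X : Type*} [MulAction P X] (c₀ : X) (m : ℕ) : ℕ → X
  | 0 => c₀
  | j + 1 => x (m - j) • chain c₀ m j

/-- Carmichael's relations on `x 0, …, x (m - 1)`. -/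
structure CarmichaelRels (m : ℕ) : Prop where
  cube : 0 < m → x 0 ^ 3 = 1
  sq : ∀ i, 1 ≤ i → i < m → x i * x i = 1
  braid : ∀ i, i + 1 < m → (x i * x (i + 1)) ^ 3 = 1
  far : ∀ i j, i + 1 < j → j < m → (x i * x j) ^ 2 = 1

variable {x}

theorem CarmichaelRels.mono {m m' : ℕ} (h : CarmichaelRels x m) (hm : m' ≤ m) : CarmichaelRels x m' :=
  ⟨fun h0 => h.cube (by omega), fun i h1 h2 => h.sq i h1 (by omega),
    fun i h1 => h.braid i (by omega), fun i j h1 h2 => h.far i j h1 (by omega)⟩

/-- Distant generators: `x i x j = x j x i⁻¹`. -/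
theorem CarmichaelRels.swap_far {m : ℕ} (h : CarmichaelRels x m) {i j : ℕ} (hij : i + 1 < j) (hj : j < m) :
    x i * x j = x j * (x i)⁻¹ := by
  have h1 := h.far i j hij hj
  rw [pow_two] at h1
  rw [eq_inv_of_mul_eq_one_left h1, mul_inv_rev, inv_eq_of_mul_eq_one_right (h.sq j (by omega) hj)]

theorem CarmichaelRels.commute_far {m : ℕ} (h : CarmichaelRels x m) {i j : ℕ} (hi : 1 ≤ i)
    (hij : i + 1 < j) (hj : j < m) : x i * x j = x j * x i := by
  rw [h.swap_far hij hj, inv_eq_of_mul_eq_one_right (h.sq i hi (by omega))]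

variable {m : ℕ} (h : CarmichaelRels x (m + 1))
include h

section Action

variable {X : Type*} [MulAction P X] {c₀ : X} (h0 : ∀ i < m, x i • c₀ = c₀)
include h0

theorem fix_low : ∀ j, j ≤ m → ∀ i, i + j + 1 ≤ m → x i • chain x c₀ m j = chain x c₀ m j := by
  intro j
  induction j with
  | zero => intro _ i hi; exact h0 i (by omega)
  | succ j ih =>
    intro hj i hi
    have hfix := ih (by omega) i (by omega)
    change x i • x (m - j) • chain x c₀ m j = x (m - j) • chain x c₀ m j
    rw [smul_smul, h.swap_far (by omega) (by omega), ← smul_smul, inv_smul_eq_iff.2 hfix.symm]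

theorem fix_high : ∀ j, j ≤ m → ∀ i, i ≤ m → m + 1 < i + j → x i • chain x c₀ m j = chain x c₀ m j := by
  intro j
  induction j with
  | zero => intro _ i hi hlt; omega
  | succ j ih =>
    intro hj i hi hlt
    rcases Nat.lt_or_ge (m + 1) (i + j) with hlt' | hge
    · change x i • x (m - j) • chain x c₀ m j = x (m - j) • chain x c₀ m j
      rw [smul_smul, ← h.commute_far (by omega) (by omega) (by omega), ← smul_smul,
        ih (by omega) i hi hlt']
    · obtain ⟨j', rfl⟩ : ∃ j', j = j' + 1 := ⟨j - 1, by omega⟩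
      obtain rfl : i = m - j' := by omega
      obtain ⟨k, hk⟩ : ∃ k, m - j' = k + 1 := ⟨m - j' - 1, by omega⟩
      have hk' : m - (j' + 1) = k := by omega
      change x (m - j') • x (m - (j' + 1)) • x (m - j') • chain x c₀ m j' =
        x (m - (j' + 1)) • x (m - j') • chain x c₀ m j'
      rw [hk, hk']
      have hbr : x (k + 1) * x k * x (k + 1) = x k * x (k + 1) * x k := by
        have h1 := h.braid k (by omega)
        rw [pow_three'] at h1
        have e1 := inv_eq_of_mul_eq_one_right (h.sq k (by omega) (by omega))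
        have e2 := inv_eq_of_mul_eq_one_right (h.sq (k + 1) (by omega) (by omega))
        calc x (k + 1) * x k * x (k + 1)
            = (x k * x (k + 1) * x k)⁻¹ * (x k * x (k + 1) * (x k * x (k + 1)) * (x k * x (k + 1))) := by group
          _ = (x k * x (k + 1) * x k)⁻¹ := by rw [h1, mul_one]
          _ = x k * x (k + 1) * x k := by rw [mul_inv_rev, mul_inv_rev, e1, e2, mul_assoc]
      rw [smul_smul, smul_smul, hbr, ← smul_smul, fix_low h h0 j' (by omega) k (by omega), ← smul_smul]

/-- The points `chain j` for `j ≤ m` and two more are permuted by the generators. -/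
theorem generators_permute : ∀ i ≤ m, ∀ c, ((∃ j ≤ m, c = chain x c₀ m j) ∨
      c = x 0 • chain x c₀ m m ∨ c = x 0 • x 0 • chain x c₀ m m) →
    ((∃ j ≤ m, x i • c = chain x c₀ m j) ∨
      x i • c = x 0 • chain x c₀ m m ∨ x i • c = x 0 • x 0 • chain x c₀ m m) := by
  have h3 : ∀ c : X, x 0 • x 0 • x 0 • c = c := fun c => by
    rw [smul_smul, smul_smul, ← pow_three', h.cube (by omega), one_smul]
  have hsq : ∀ i, 1 ≤ i → i ≤ m → ∀ c : X, x i • x i • c = c := fun i h1 h2 c => by
    rw [smul_smul, h.sq i h1 (by omega), one_smul]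
  -- the generators other than `x 0` exchange the two extra points
  have hex : ∀ i, 1 ≤ i → i ≤ m →
      x i • x 0 • chain x c₀ m m = x 0 • x 0 • chain x c₀ m m := by
    intro i hi1 hi
    obtain ⟨m', rfl⟩ : ∃ m', m = m' + 1 := ⟨m - 1, by omega⟩
    rcases Nat.lt_or_ge 1 i with h1 | h1
    · have e : x i * x 0 = x 0 * x 0 * x i := by
        rw [← inv_inv (x i * x 0), mul_inv_rev, inv_eq_of_mul_eq_one_right (h.sq i hi1 (by omega))]
        have e0 := h.swap_far (i := 0) (by omega : 0 + 1 < i) (by omega)
        have c3 := h.cube (by omega)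
        rw [pow_three'] at c3
        rw [inv_eq_of_mul_eq_one_left c3]
        calc (x 0 * x 0 * x i)⁻¹ = (x i)⁻¹ * (x 0)⁻¹ * (x 0)⁻¹ := by group
          _ = x i * (x 0)⁻¹ * (x 0)⁻¹ := by rw [inv_eq_of_mul_eq_one_right (h.sq i hi1 (by omega))]
          _ = x 0 * x i * (x 0)⁻¹ := by rw [← e0]
          _ = x 0 * (x i * (x 0)⁻¹) := by rw [mul_assoc]
          _ = x 0 * (x 0 * x i) := by rw [← e0]
          _ = _ := by rw [mul_assoc]
      rw [smul_smul, e, ← smul_smul, ← smul_smul, fix_high h h0 (m' + 1) le_rfl i hi (by omega)]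
    · obtain rfl : i = 1 := by omega
      change x 1 • x 0 • x (m' + 1 - m') • chain x c₀ (m' + 1) m' =
        x 0 • x 0 • x (m' + 1 - m') • chain x c₀ (m' + 1) m'
      rw [show m' + 1 - m' = 1 by omega]
      have hf := fix_low h h0 m' (by omega) 0 (by omega)
      have hb := h.braid 0 (by omega)
      have h1s := h.sq 1 le_rfl (by omega)
      set d := chain x c₀ (m' + 1) m'
      have e : x 1 • x 0 • x 1 • d = x 0 • x 0 • x 1 • x 0 • x 0 • d := by
        refine MulAction.injective (x 0) ?_
        change x 0 • x 1 • x 0 • x 1 • d = x 0 • x 0 • x 0 • x 1 • x 0 • x 0 • d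
        rw [h3]
        refine MulAction.injective (x 0 * x 1) ?_
        change (x 0 * x 1) • x 0 • x 1 • x 0 • x 1 • d = (x 0 * x 1) • x 1 • x 0 • x 0 • d
        rw [← smul_smul, ← smul_smul, hsq 1 le_rfl (by omega), h3]
        simp only [smul_smul]
        rw [show x 0 * (x 1 * (x 0 * (x 1 * (x 0 * x 1)))) = (x 0 * x (0 + 1)) ^ 3 by
          simp [pow_succ, mul_assoc], hb, one_smul]
      rw [e, hf, hf]
  intro i hi c hc
  rcases Nat.eq_zero_or_pos i with rfl | hipos
  · rcases hc with ⟨j, hj, rfl⟩ | rfl | rfl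
    · rcases Nat.lt_or_ge j m with hjm | hjm
      · exact Or.inl ⟨j, hj, fix_low h h0 j hj 0 (by omega)⟩
      · obtain rfl : j = m := by omega
        exact Or.inr (Or.inl rfl)
    · exact Or.inr (Or.inr rfl)
    · exact Or.inl ⟨m, le_rfl, h3 _⟩
  · rcases hc with ⟨j, hj, rfl⟩ | rfl | rfl
    · refine Or.inl ?_
      rcases Nat.lt_trichotomy (i + j) m with h1 | h1 | h1
      · exact ⟨j, hj, fix_low h h0 j hj i (by omega)⟩
      · refine ⟨j + 1, by omega, ?_⟩
        change x i • chain x c₀ m j = x (m - j) • chain x c₀ m j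
        rw [show m - j = i by omega]
      · rcases Nat.lt_or_ge (m + 1) (i + j) with h2 | h2
        · exact ⟨j, hj, fix_high h h0 j hj i hi h2⟩
        · obtain ⟨j', rfl⟩ : ∃ j', j = j' + 1 := ⟨j - 1, by omega⟩
          refine ⟨j', by omega, ?_⟩
          change x i • x (m - j') • chain x c₀ m j' = _
          rw [show m - j' = i by omega, hsq i hipos hi]
    · exact Or.inr (Or.inr (hex i hipos hi))
    · refine Or.inr (Or.inl ?_)
      rw [← hex i hipos hi, hsq i hipos hi]

end Action

omit h in
/-- A group on Carmichael generators `x 0, …, x (m - 1)` has at most `(m + 2)! / 2` elements. -/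
theorem card_closure_le : ∀ m, CarmichaelRels x m →
    Finite (Subgroup.closure (x '' Set.Iio m)) ∧
      2 * Nat.card (Subgroup.closure (x '' Set.Iio m)) ≤ (m + 2).factorial := by
  intro m
  induction m with
  | zero =>
    intro _
    have e : Subgroup.closure (x '' Set.Iio 0) = ⊥ := by simp
    rw [e, Subgroup.card_bot]
    exact ⟨inferInstance, by simp [Nat.factorial]⟩
  | succ m ih =>
    intro h
    obtain ⟨hfin, hle⟩ := ih (h.mono (Nat.le_succ m))
    set H := Subgroup.closure (x '' Set.Iio m) with hH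
    set K := Subgroup.closure (x '' Set.Iio (m + 1)) with hK
    have hHK : H ≤ K := Subgroup.closure_mono (Set.image_mono fun i (hi : i < m) => Nat.lt_succ_of_lt hi)
    set c₀ : P ⧸ H := ((1 : P) : P ⧸ H) with hc₀
    have h0 : ∀ i < m, x i • c₀ = c₀ := fun i hi => by
      rw [hc₀, MulAction.Quotient.smul_coe, QuotientGroup.eq]
      rw [smul_eq_mul, mul_one, mul_one]
      exact inv_mem (Subgroup.subset_closure (Set.mem_image_of_mem x (show i ∈ Set.Iio m from hi)))
    let f : Fin (m + 1) ⊕ Fin 2 → P ⧸ H :=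
      Sum.elim (fun j => chain x c₀ m j) ![x 0 • chain x c₀ m m, x 0 • x 0 • chain x c₀ m m]
    have hmem : ∀ c, c ∈ Set.range f ↔ ((∃ j ≤ m, c = chain x c₀ m j) ∨
        c = x 0 • chain x c₀ m m ∨ c = x 0 • x 0 • chain x c₀ m m) := by
      intro c
      constructor
      · rintro ⟨j | j, rfl⟩
        · exact Or.inl ⟨j, by omega, rfl⟩
        · fin_cases j
          · exact Or.inr (Or.inl rfl)
          · exact Or.inr (Or.inr rfl)
      · rintro (⟨j, hj, rfl⟩ | rfl | rfl)
        · exact ⟨Sum.inl ⟨j, by omega⟩, rfl⟩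
        · exact ⟨Sum.inr 0, rfl⟩
        · exact ⟨Sum.inr 1, rfl⟩
    have hstab : K ≤ MulAction.stabilizer P (Set.range f) := by
      rw [hK, Subgroup.closure_le]
      rintro _ ⟨i, hi, rfl⟩
      rw [SetLike.mem_coe, MulAction.mem_stabilizer_set' (Set.finite_range f)]
      intro c hc
      rw [hmem] at hc ⊢
      exact generators_permute h h0 i (Nat.lt_succ_iff.1 hi) c hc
    let g : K ⧸ H.subgroupOf K → Set.range f := Quotient.lift
      (fun k : K => (⟨(k : P) • c₀, by
        have hc : c₀ ∈ Set.range f := ⟨Sum.inl 0, rfl⟩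
        rw [← MulAction.mem_stabilizer_iff.1 (hstab k.2)]
        exact Set.smul_mem_smul_set hc⟩ : Set.range f))
      (fun a b hab => Subtype.ext (by
        change (a : P) • c₀ = (b : P) • c₀
        rw [hc₀, MulAction.Quotient.smul_coe, MulAction.Quotient.smul_coe, QuotientGroup.eq]
        have h1 : (a⁻¹ * b : K) ∈ H.subgroupOf K := QuotientGroup.leftRel_apply.1 hab
        simpa [Subgroup.mem_subgroupOf] using h1))
    have hg : Function.Injective g := by
      intro a b
      induction a using QuotientGroup.induction_on with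
      | H a =>
        induction b using QuotientGroup.induction_on with
        | H b =>
          intro hab
          have h1 : (a : P) • c₀ = (b : P) • c₀ := congrArg Subtype.val hab
          rw [hc₀, MulAction.Quotient.smul_coe, MulAction.Quotient.smul_coe, QuotientGroup.eq] at h1
          refine QuotientGroup.eq.2 ?_
          simpa [Subgroup.mem_subgroupOf] using h1
    haveI : Finite (K ⧸ H.subgroupOf K) := Finite.of_injective g hg
    have hq : Nat.card (K ⧸ H.subgroupOf K) ≤ m + 3 := by
      refine (Nat.card_le_card_of_injective g hg).trans ?_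
      refine (Finite.card_range_le f).trans ?_
      simp
    haveI := hfin
    have hcard : Nat.card K = Nat.card (K ⧸ H.subgroupOf K) * Nat.card H := by
      rw [Subgroup.card_eq_card_quotient_mul_card_subgroup (H.subgroupOf K),
        Nat.card_congr (Subgroup.subgroupOfEquivOfLe hHK).toEquiv]
    refine ⟨Nat.finite_of_card_ne_zero (by
      rw [hcard]; exact mul_ne_zero Nat.card_pos.ne' Nat.card_pos.ne'), ?_⟩
    rw [hcard, Nat.factorial_succ (m + 2), show 2 * (Nat.card (K ⧸ H.subgroupOf K) * Nat.card H) =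
      Nat.card (K ⧸ H.subgroupOf K) * (2 * Nat.card H) by ring]
    exact Nat.mul_le_mul hq hle

end CfsgLib.Recog
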