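import Cfsg.Agent.Lib.Recog.Extension

/-!
Groups of unbounded order with a prescribed spectrum or prime graph, and transfer to `Type`.
-/

set_option autoImplicit false

namespace CfsgLib.Recog

theorem orderOf_equiv_range {A B : Type*} [Group A] [Group B] (e : A ≃* B) :
    Set.range (orderOf : A → ℕ) = Set.range (orderOf : B → ℕ) := by
  refine Set.Subset.antisymm ?_ ?_
  · rintro _ ⟨a, rfl⟩
    exact ⟨e a, orderOf_injective e.toMonoidHom e.injective a⟩
  · rintro _ ⟨b, rfl⟩
    exact ⟨e.symm b, orderOf_injective e.symm.toMonoidHom e.symm.injective b⟩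

theorem exists_orderOf_eq_iff {A B : Type*} [Group A] [Group B]
    (h : Set.range (orderOf : A → ℕ) = Set.range (orderOf : B → ℕ)) (n : ℕ) :
    (∃ a : A, orderOf a = n) ↔ ∃ b : B, orderOf b = n := by
  simpa [Set.mem_range] using Set.ext_iff.1 h n

theorem card_pi_semidirect {M G : Type*} [CommGroup M] [Group G] [Finite M] [Finite G]
    (φ : G →* MulAut M) (k : ℕ) :
    Nat.card ((Fin k → M) ⋊[piAct φ k] G) = Nat.card M ^ k * Nat.card G := by
  rw [SemidirectProduct.card, Nat.card_fun, Nat.card_eq_fintype_card (α := Fin k), Fintype.card_fin]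

theorem lt_card_pi_semidirect {M G : Type*} [CommGroup M] [Group G] [Finite M] [Nontrivial M]
    [Finite G] (φ : G →* MulAut M) (N : ℕ) :
    N < Nat.card ((Fin (N + 1) → M) ⋊[piAct φ (N + 1)] G) := by
  rw [card_pi_semidirect]
  have h1 : 2 ≤ Nat.card M := Finite.one_lt_card
  have h3 : 0 < Nat.card G := Nat.card_pos
  calc N < 2 ^ N := Nat.lt_two_pow_self
    _ ≤ 2 ^ (N + 1) := Nat.pow_le_pow_right (by norm_num) N.le_succ
    _ ≤ Nat.card M ^ (N + 1) := Nat.pow_le_pow_left h1 _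
    _ ≤ Nat.card M ^ (N + 1) * Nat.card G := Nat.le_mul_of_pos_right _ h3

/-- The groups `(Fin k → M) ⋊ G` give groups of unbounded order with the spectrum of `M ⋊ G`. -/
theorem exists_large_isospectral {M G : Type*} [CommGroup M] [Group G] [Finite M] [Nontrivial M]
    [Finite G] (φ : G →* MulAut M) {p : ℕ} (hp : p.Prime) (hM : ∀ v : M, v ^ p = 1) (N : ℕ) :
    ∃ (H : Type) (_ : Group H) (_ : Fintype H), N < Fintype.card H ∧
      Set.range (orderOf : H → ℕ) = Set.range (orderOf : M ⋊[φ] G → ℕ) := by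
  haveI : Finite ((Fin (N + 1) → M) ⋊[piAct φ (N + 1)] G) :=
    Finite.of_equiv _ SemidirectProduct.equivProd.symm
  obtain ⟨H, hG, hF, ⟨e⟩⟩ :=
    Finite.exists_type_univ_nonempty_mulEquiv ((Fin (N + 1) → M) ⋊[piAct φ (N + 1)] G)
  refine ⟨H, hG, hF, ?_, ?_⟩
  · rw [← Nat.card_eq_fintype_card, ← Nat.card_congr e.toEquiv]
    exact lt_card_pi_semidirect φ N
  · rw [← orderOf_equiv_range e]
    exact range_orderOf_pi φ hp hM N.succ_pos

/-- If elements with a non-trivial fixed point do not create new adjacencies, the prime graph of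
`M ⋊ G` is that of `G`. -/
theorem primeGraph_semidirect {M G : Type*} [CommGroup M] [Group G] [Finite M] [Finite G]
    (φ : G →* MulAut M) {p : ℕ} (hp : p.Prime) (hM : ∀ v : M, v ^ p = 1)
    (hpG : p ∣ Nat.card G)
    (hfix : ∀ g : G, (orderOf g).Prime → orderOf g ≠ p → (∃ v : M, v ≠ 1 ∧ φ g v = v) →
      ∃ y : G, orderOf y = p * orderOf g) :
    (∀ r : ℕ, r.Prime → (r ∣ Nat.card G ↔ r ∣ Nat.card (M ⋊[φ] G))) ∧
      (∀ r s : ℕ, r.Prime → s.Prime → r ≠ s →
        ((∃ g : G, orderOf g = r * s) ↔ (∃ x : M ⋊[φ] G, orderOf x = r * s))) := by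
  refine ⟨fun r hr => ?_, fun r s hr hs hrs => ⟨?_, ?_⟩⟩
  · rw [SemidirectProduct.card]
    refine ⟨fun h => dvd_mul_of_dvd_right h _, fun h => ?_⟩
    rcases hr.dvd_mul.1 h with h | h
    · haveI : Fact r.Prime := ⟨hr⟩
      obtain ⟨v, hv⟩ := exists_prime_orderOf_dvd_card' r h
      have : r ∣ p := by
        rw [← hv]
        exact orderOf_dvd_of_pow_eq_one (hM v)
      rw [(Nat.prime_dvd_prime_iff_eq hr hp).1 this]
      exact hpG
    · exact h
  · intro h
    obtain ⟨x, hx⟩ := range_orderOf_subset φ (Set.mem_range.2 h)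
    exact ⟨x, hx⟩
  · rintro ⟨x, hx⟩
    rcases orderOf_cases φ hp hM x with h | ⟨h, hv⟩
    · exact ⟨x.right, h.symm.trans hx⟩
    · have hprod : p * orderOf x.right = r * s := h.symm.trans hx
      have hpd : p ∣ r * s := ⟨_, hprod.symm⟩
      rcases hp.dvd_mul.1 hpd with hd | hd
      · obtain rfl := (Nat.prime_dvd_prime_iff_eq hp hr).1 hd
        have hg : orderOf x.right = s := Nat.eq_of_mul_eq_mul_left hr.pos hprod
        simpa [hg] using hfix x.right (hg ▸ hs) (by rw [hg]; exact hrs.symm) hv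
      · obtain rfl := (Nat.prime_dvd_prime_iff_eq hp hs).1 hd
        have hg : orderOf x.right = r := by
          rw [mul_comm r p] at hprod
          exact Nat.eq_of_mul_eq_mul_left hs.pos hprod
        rw [mul_comm r p]
        simpa [hg] using hfix x.right (hg ▸ hr) (by rw [hg]; exact hrs) hv

/-- Groups of unbounded order with the prime graph of `G`. -/
theorem exists_large_primeGraph {M G : Type*} [CommGroup M] [Group G] [Finite M] [Nontrivial M]
    [Finite G] (φ : G →* MulAut M) {p : ℕ} (hp : p.Prime) (hM : ∀ v : M, v ^ p = 1)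
    (hpG : p ∣ Nat.card G)
    (hfix : ∀ g : G, (orderOf g).Prime → orderOf g ≠ p → (∃ v : M, v ≠ 1 ∧ φ g v = v) →
      ∃ y : G, orderOf y = p * orderOf g) (N : ℕ) :
    ∃ (H : Type) (_ : Group H) (_ : Fintype H), N < Fintype.card H ∧
      ((∀ r : ℕ, r.Prime → (r ∣ Nat.card G ↔ r ∣ Nat.card H)) ∧
        (∀ r s : ℕ, r.Prime → s.Prime → r ≠ s →
          ((∃ g : G, orderOf g = r * s) ↔ (∃ x : H, orderOf x = r * s)))) := by
  obtain ⟨hcard, hord⟩ := primeGraph_semidirect φ hp hM hpG hfix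
  haveI : Finite ((Fin (N + 1) → M) ⋊[piAct φ (N + 1)] G) :=
    Finite.of_equiv _ SemidirectProduct.equivProd.symm
  obtain ⟨H, hG, hF, ⟨e⟩⟩ :=
    Finite.exists_type_univ_nonempty_mulEquiv ((Fin (N + 1) → M) ⋊[piAct φ (N + 1)] G)
  have hHc : Nat.card H = Nat.card M ^ (N + 1) * Nat.card G := by
    rw [← Nat.card_congr e.toEquiv, card_pi_semidirect]
  refine ⟨H, hG, hF, ?_, fun r hr => ?_, fun r s hr hs hrs => ?_⟩
  · rw [← Nat.card_eq_fintype_card, ← Nat.card_congr e.toEquiv]
    exact lt_card_pi_semidirect φ N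
  · rw [hHc, hcard r hr, SemidirectProduct.card, hr.dvd_mul, hr.dvd_mul]
    exact or_congr ⟨fun h => dvd_pow h (Nat.succ_ne_zero N), hr.dvd_of_dvd_pow⟩ Iff.rfl
  · rw [hord r s hr hs hrs]
    exact exists_orderOf_eq_iff ((range_orderOf_pi φ hp hM N.succ_pos).symm.trans
      (orderOf_equiv_range e)) _

end CfsgLib.Recog
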