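import Cfsg.Agent.Lib.Recog.ProjSpectrum
import Cfsg.Agent.Lib.Recog.Unbounded
import Cfsg.Agent.Lib.GLTwo.Basic

/-!
A module over `GF(2)` for `PSL₂(p)` in which elements of order `p` act without fixed points and
the maximal tori double their orders: functions on the conjugacy class of trace-zero matrices of
non-square discriminant.
-/

set_option autoImplicit false

namespace CfsgLib.Recog.Conic

open Matrix

variable {F : Type*} [Field F]

/-- Trace-zero matrices of determinant `-ν`. -/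
def Pts (ν : F) : Type _ := {M : Matrix (Fin 2) (Fin 2) F // M.trace = 0 ∧ M.det = -ν}

/-- Conjugation of a point by an invertible matrix. -/
def conjPt {ν : F} (g : GL (Fin 2) F) (M : Pts ν) : Pts ν :=
  ⟨(g : Matrix (Fin 2) (Fin 2) F) * M.1 * (g⁻¹ : GL (Fin 2) F),
    by rw [Matrix.trace_units_conj]; exact M.2.1, by rw [Matrix.det_units_conj]; exact M.2.2⟩

/-- Conjugation as a permutation representation. -/
def conjX (ν : F) : GL (Fin 2) F →* Equiv.Perm (Pts ν) :=
  MonoidHom.toHomUnits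
    { toFun := fun g => (conjPt g : Function.End (Pts ν))
      map_one' := funext fun M => Subtype.ext (by simp [conjPt]; rfl)
      map_mul' := fun g h => funext fun M => Subtype.ext (by
        simp only [conjPt, _root_.mul_inv_rev, Units.val_mul]
        change _ = (g : Matrix (Fin 2) (Fin 2) F) * (conjPt h M).1 *
          ((g⁻¹ : GL (Fin 2) F) : Matrix (Fin 2) (Fin 2) F)
        simp only [conjPt, mul_assoc]) } |> Equiv.Perm.equivUnitsEnd.symm.toMonoidHom.comp

theorem conjX_val (ν : F) (g : GL (Fin 2) F) (M : Pts ν) :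
    (conjX ν g M).1 = (g : Matrix (Fin 2) (Fin 2) F) * M.1 * (g⁻¹ : GL (Fin 2) F) := rfl

theorem conjX_eq_of_eq_smul (ν : F) {g h : GL (Fin 2) F} {c : F}
    (H : (g : Matrix (Fin 2) (Fin 2) F) = c • (h : Matrix (Fin 2) (Fin 2) F)) :
    conjX ν g = conjX ν h := by
  refine Equiv.ext fun M => Subtype.ext ?_
  rw [conjX_val, conjX_val]
  have h1 : (g : Matrix (Fin 2) (Fin 2) F) * M.1 =
      ((h : Matrix (Fin 2) (Fin 2) F) * M.1 * (h⁻¹ : GL (Fin 2) F)) * g := by
    rw [H, Matrix.smul_mul, Matrix.mul_smul, mul_assoc ((h : Matrix (Fin 2) (Fin 2) F) * M.1),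
      Units.inv_mul, mul_one]
  rw [h1, mul_assoc, Units.mul_inv, mul_one]

theorem conjX_of_mem_center (ν : F) {g : GL (Fin 2) F}
    (h : g ∈ Subgroup.center (GL (Fin 2) F)) : conjX ν g = 1 := by
  obtain ⟨c, hc⟩ := mem_center_GL_two_iff.1 h
  rw [conjX_eq_of_eq_smul ν (h := 1) (c := c) (by simpa using hc), map_one]

/-- The invariant bilinear form. -/
def bf {ν : F} (A B : Pts ν) : F := (A.1 * B.1).trace / 2

theorem bf_comm {ν : F} (A B : Pts ν) : bf A B = bf B A := by
  rw [bf, bf, Matrix.trace_mul_comm]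

theorem bf_conj {ν : F} (g : GL (Fin 2) F) (A B : Pts ν) :
    bf (conjX ν g A) (conjX ν g B) = bf A B := by
  rw [bf, bf, conjX_val, conjX_val]
  congr 1
  rw [show (g : Matrix (Fin 2) (Fin 2) F) * A.1 * (g⁻¹ : GL (Fin 2) F) *
      ((g : Matrix (Fin 2) (Fin 2) F) * B.1 * (g⁻¹ : GL (Fin 2) F)) =
      (g : Matrix (Fin 2) (Fin 2) F) * (A.1 * B.1) * (g⁻¹ : GL (Fin 2) F) by
    simp only [← mul_assoc]
    rw [mul_assoc ((g : Matrix (Fin 2) (Fin 2) F) * A.1), Units.inv_mul, mul_one],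
    Matrix.trace_units_conj]

theorem bf_self {ν : F} (h2 : (2 : F) ≠ 0) (A : Pts ν) : bf A A = ν := by
  rw [bf, div_eq_iff h2]
  have ht := A.2.1
  have hd := A.2.2
  rw [Matrix.trace_fin_two] at ht
  rw [Matrix.det_fin_two] at hd
  simp [Matrix.trace_fin_two, Matrix.mul_apply, Fin.sum_univ_two]
  linear_combination (A.1 0 0 + A.1 1 1) * ht - (2 : F) * hd

open Classical in
/-- The indicator of `s² - ν²` being a non-square. -/
noncomputable def hInd (ν s : F) : ZMod 2 := if IsSquare (s ^ 2 - ν ^ 2) then 0 else 1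

theorem hInd_eq_zero {ν s : F} (h : IsSquare (s ^ 2 - ν ^ 2)) : hInd ν s = 0 := by
  simp [hInd, h]

theorem hInd_eq_one {ν s : F} (h : ¬IsSquare (s ^ 2 - ν ^ 2)) : hInd ν s = 1 := by
  simp [hInd, h]

/-- The function attached to a point. -/
noncomputable def fn {ν : F} (N : Pts ν) (M : Pts ν) : ZMod 2 := hInd ν (bf M N)

theorem fn_conj {ν : F} (g : GL (Fin 2) F) (N M : Pts ν) :
    fn N (conjX ν g M) = fn (conjX ν g⁻¹ N) M := by
  rw [fn, fn, ← bf_conj g M (conjX ν g⁻¹ N), ← Equiv.Perm.mul_apply (conjX ν g) (conjX ν g⁻¹),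
    ← map_mul, mul_inv_cancel, map_one, Equiv.Perm.one_apply]

/-- A transvection. -/
def tv (b : F) : GL (Fin 2) F :=
  Matrix.GeneralLinearGroup.mkOfDetNeZero !![1, b; 0, 1] (by simp [Matrix.det_fin_two])

theorem tv_inv (b : F) :
    (((tv b)⁻¹ : GL (Fin 2) F) : Matrix (Fin 2) (Fin 2) F) = !![1, -b; 0, 1] := by
  have h : (tv b : GL (Fin 2) F) * tv (-b) = 1 := Units.ext (by
    change (!![1, b; 0, 1] : Matrix (Fin 2) (Fin 2) F) * !![1, -b; 0, 1] = 1
    ext i j; fin_cases i <;> fin_cases j <;> simp [Matrix.mul_apply, Fin.sum_univ_two])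
  rw [inv_eq_of_mul_eq_one_right h]
  rfl

theorem entry_ne_zero {ν : F} (hν : ¬IsSquare ν) (M : Pts ν) :
    M.1 1 1 = -M.1 0 0 ∧ M.1 0 0 ^ 2 + M.1 0 1 * M.1 1 0 = ν ∧ M.1 1 0 ≠ 0 := by
  have ht := M.2.1
  have hd := M.2.2
  rw [Matrix.trace_fin_two] at ht
  rw [Matrix.det_fin_two] at hd
  refine ⟨by linear_combination ht, by linear_combination -hd + (M.1 0 0) * ht, fun h0 => hν ?_⟩
  refine ⟨M.1 0 0, ?_⟩
  rw [h0, mul_zero, sub_zero] at hd
  linear_combination hd - M.1 0 0 * ht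

theorem bf_tv {ν : F} (hν : ¬IsSquare ν) (M N : Pts ν) (b : F) :
    bf (conjX ν (tv b) M) N =
      N.1 0 0 * (M.1 0 0 + b * M.1 1 0) +
        (N.1 1 0 * (M.1 0 1 - 2 * M.1 0 0 * b - M.1 1 0 * b ^ 2) + M.1 1 0 * N.1 0 1) / 2 ∨
      (2 : F) = 0 := by
  by_cases h2 : (2 : F) = 0
  · exact Or.inr h2
  refine Or.inl ?_
  obtain ⟨hM, -, -⟩ := entry_ne_zero hν M
  obtain ⟨hN, -, -⟩ := entry_ne_zero hν N
  rw [bf, conjX_val, tv_inv]
  change ((!![1, b; 0, 1] : Matrix (Fin 2) (Fin 2) F) * M.1 * !![1, -b; 0, 1] * N.1).trace / 2 = _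
  simp [Matrix.trace_fin_two, Matrix.mul_apply, Matrix.vecMul, dotProduct, Fin.sum_univ_two, hM,
    hN]
  field_simp
  ring

variable [Fintype F]

theorem sum_tv {ν : F} (hν : ¬IsSquare ν) (h2 : (2 : F) ≠ 0) (M N : Pts ν) :
    ∑ b : F, fn N (conjX ν (tv b) M) = 0 := by
  obtain ⟨hM, hM2, hc⟩ := entry_ne_zero hν M
  obtain ⟨hN, hN2, hz⟩ := entry_ne_zero hν N
  set a := M.1 0 0
  set c := M.1 1 0
  set x := N.1 0 0
  set z := N.1 1 0
  set b₀ := x / z - a / c with hb₀
  have hb : ∀ b, bf (conjX ν (tv b) M) N =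
      x * (a + b * c) + (z * (M.1 0 1 - 2 * a * b - c * b ^ 2) + c * N.1 0 1) / 2 :=
    fun b => (bf_tv hν M N b).resolve_right h2
  refine Finset.sum_involution (fun b _ => 2 * b₀ - b) (fun b _ => ?_) (fun b _ hne => ?_)
    (fun b _ => Finset.mem_univ _) (fun b _ => by ring)
  · have : bf (conjX ν (tv (2 * b₀ - b)) M) N = bf (conjX ν (tv b) M) N := by
      rw [hb, hb, hb₀]
      field_simp
      ring
    rw [fn, fn, this]
    exact CharTwo.add_self_eq_zero _
  · intro heq
    have hbb : b = b₀ := by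
      apply mul_left_cancel₀ h2
      linear_combination -heq
    apply hne
    rw [fn, hbb]
    apply hInd_eq_zero
    refine ⟨ν / 2 * (c / z - z / c), ?_⟩
    have hval : bf (conjX ν (tv b₀) M) N = ν / 2 * (c / z + z / c) := by
      rw [hb, hb₀]
      field_simp
      linear_combination (z ^ 2) * hM2 + (c ^ 2) * hN2
    rw [hval]
    field_simp
    ring

variable (p : ℕ) [hp : Fact p.Prime] [CharP F p]

/-- An element of order `p` modulo scalars is conjugate to a transvection, up to a scalar. -/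
theorem exists_tv_conj (hq : Fintype.card F = p) {u : Matrix.SpecialLinearGroup (Fin 2) F}
    (hu : u ∉ Subgroup.center (Matrix.SpecialLinearGroup (Fin 2) F))
    (hup : u ^ p ∈ Subgroup.center (Matrix.SpecialLinearGroup (Fin 2) F)) (ν : F) :
    ∃ (P : GL (Fin 2) F) (s : F), s ≠ 0 ∧ ∀ i : ℕ,
      conjX ν (Matrix.SpecialLinearGroup.toGL (u ^ i)) = conjX ν (P * tv (i * s) * P⁻¹) := by
  obtain ⟨c, hc⟩ := mem_center_SL_two_iff.1 hup
  rw [Matrix.SpecialLinearGroup.coe_pow] at hc
  set U : Matrix (Fin 2) (Fin 2) F := (u : Matrix (Fin 2) (Fin 2) F) with hU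
  have hd : U.det = 1 := u.2
  have hc0 : c ≠ 0 := by
    rintro rfl
    have h := congrArg Matrix.det hc
    simp [Matrix.det_pow, hd] at h
  set A := U - c • 1 with hA
  have hAp : A ^ p = 0 := by
    rw [hA, sub_pow_char_of_commute (p := p) ((Commute.one_right U).smul_right c), _root_.smul_pow,
      one_pow, hc, ← hq, FiniteField.pow_card, sub_self]
  have hA0 : A ≠ 0 := fun h => hu (mem_center_SL_two_iff.2 ⟨c, sub_eq_zero.1 h⟩)
  have hAdet : A.det = 0 := by
    have h := congrArg Matrix.det hAp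
    rw [Matrix.det_pow, Matrix.det_zero] at h
    exact eq_zero_of_pow_eq_zero h
  have hA2 : A ^ 2 = A.trace • A := by
    have h := sq_sub_trace_mul_add_det A
    rw [hAdet, zero_smul, add_zero, sub_eq_zero] at h
    exact h
  have htr : A.trace = 0 := by
    by_contra ht
    have hpow : ∀ k : ℕ, A ^ (k + 1) = A.trace ^ k • A := by
      intro k
      induction k with
      | zero => simp
      | succ k ih => rw [pow_succ, ih, Matrix.smul_mul, ← pow_two, hA2, smul_smul, pow_succ]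
    have h := hpow (p - 1)
    rw [Nat.sub_add_cancel hp.out.one_le, hAp] at h
    exact hA0 ((smul_eq_zero.1 h.symm).resolve_left (pow_ne_zero _ ht))
  rw [htr, zero_smul] at hA2
  obtain ⟨P, k, hk, hAP⟩ : ∃ (P : GL (Fin 2) F) (k : F), k ≠ 0 ∧
      A * (P : Matrix (Fin 2) (Fin 2) F) = (P : Matrix (Fin 2) (Fin 2) F) * !![0, k; 0, 0] := by
    rw [Matrix.trace_fin_two] at htr
    rw [Matrix.det_fin_two] at hAdet
    by_cases h10 : A 1 0 = 0
    · rw [h10, mul_zero, sub_zero] at hAdet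
      have h00 : A 0 0 = 0 := by
        refine eq_zero_of_pow_eq_zero (n := 2) ?_
        linear_combination -hAdet + A 0 0 * htr
      have h11 : A 1 1 = 0 := by linear_combination htr - h00
      refine ⟨1, A 0 1, fun h01 => hA0 ?_, ?_⟩
      · ext i j; fin_cases i <;> fin_cases j <;> simp [h00, h01, h10, h11]
      · rw [Units.val_one, mul_one, one_mul]
        ext i j; fin_cases i <;> fin_cases j <;> simp [h00, h10, h11]
    · refine ⟨Matrix.GeneralLinearGroup.mkOfDetNeZero !![A 0 0, 1; A 1 0, 0]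
        (by simpa [Matrix.det_fin_two] using h10), 1, one_ne_zero, ?_⟩
      change A * !![A 0 0, 1; A 1 0, 0] = !![A 0 0, 1; A 1 0, 0] * !![0, 1; 0, 0]
      have e00 := congrFun (congrFun hA2 0) 0
      have e10 := congrFun (congrFun hA2 1) 0
      simp [pow_two, Matrix.mul_apply, Fin.sum_univ_two] at e00 e10
      ext i j; fin_cases i <;> fin_cases j <;>
        simp [Matrix.mul_apply, Fin.sum_univ_two, e00, e10]
  refine ⟨P, k / c, div_ne_zero hk hc0, fun i => ?_⟩
  have h1 : ∀ j : ℕ, (U ^ j) * (P : Matrix (Fin 2) (Fin 2) F) =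
      c ^ j • ((P : Matrix (Fin 2) (Fin 2) F) * !![1, (j : F) * (k / c); 0, 1]) := by
    intro j
    induction j with
    | zero =>
      rw [pow_zero, pow_zero, one_smul, one_mul,
        show (!![1, ((0 : ℕ) : F) * (k / c); 0, 1] : Matrix (Fin 2) (Fin 2) F) = 1 by
          ext i j; fin_cases i <;> fin_cases j <;> simp, mul_one]
    | succ j ih =>
      have hstep : U * (P : Matrix (Fin 2) (Fin 2) F) =
          c • ((P : Matrix (Fin 2) (Fin 2) F) * !![1, k / c; 0, 1]) := by
        rw [show U = c • 1 + A by rw [hA]; abel, add_mul, hAP, Matrix.smul_mul, one_mul]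
        ext i l; fin_cases i <;> fin_cases l <;>
          simp [Matrix.mul_apply, Fin.sum_univ_two] <;> field_simp <;> ring
      rw [pow_succ', mul_assoc, ih, Matrix.mul_smul, ← mul_assoc, hstep, Matrix.smul_mul,
        smul_smul, ← pow_succ, mul_assoc]
      congr 2
      ext i l; fin_cases i <;> fin_cases l <;>
        simp [Matrix.mul_apply, Fin.sum_univ_two] <;> ring
  refine conjX_eq_of_eq_smul ν (c := c ^ i) ?_
  rw [Units.val_mul, Units.val_mul, ← Matrix.smul_mul]
  change (↑(u ^ i) : Matrix (Fin 2) (Fin 2) F) = c ^ i • ((P : Matrix (Fin 2) (Fin 2) F) *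
    !![1, (i : F) * (k / c); 0, 1]) * _
  rw [← h1 i, Units.mul_inv_cancel_right, Matrix.SpecialLinearGroup.coe_pow]

/-- The action of `SL₂` on the points. -/
def slPerm (ν : F) : Matrix.SpecialLinearGroup (Fin 2) F →* Equiv.Perm (Pts ν) :=
  (conjX ν).comp Matrix.SpecialLinearGroup.toGL

theorem slPerm_of_mem_center (ν : F) {u : Matrix.SpecialLinearGroup (Fin 2) F}
    (h : u ∈ Subgroup.center (Matrix.SpecialLinearGroup (Fin 2) F)) : slPerm ν u = 1 :=
  conjX_of_mem_center ν ((Matrix.SpecialLinearGroup.toGL_mem_center_iff _).2 h)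

/-- The module: functions with zero sums over all orbits of elements of order `p`. -/
def modV (ν : F) : AddSubgroup (Pts ν → ZMod 2) where
  carrier := {f | ∀ u : Matrix.SpecialLinearGroup (Fin 2) F,
    u ∉ Subgroup.center (Matrix.SpecialLinearGroup (Fin 2) F) →
    u ^ p ∈ Subgroup.center (Matrix.SpecialLinearGroup (Fin 2) F) →
    ∀ M, ∑ i ∈ Finset.range p, f (slPerm ν (u ^ i) M) = 0}
  zero_mem' := fun u _ _ M => by simp
  add_mem' := fun {f g} hf hg u h1 h2 M => by
    simp only [Pi.add_apply, Finset.sum_add_distrib, hf u h1 h2 M, hg u h1 h2 M, add_zero]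
  neg_mem' := fun {f} hf u h1 h2 M => by
    simp only [Pi.neg_apply, Finset.sum_neg_distrib, hf u h1 h2 M, neg_zero]

theorem fn_mem_modV (hq : Fintype.card F = p) {ν : F} (hν : ¬IsSquare ν) (h2 : (2 : F) ≠ 0)
    (N : Pts ν) : fn N ∈ modV p ν := by
  classical
  intro u hu hup M
  obtain ⟨P, s, hs, hP⟩ := exists_tv_conj p hq hu hup ν
  have hterm : ∀ i : ℕ, fn N (slPerm ν (u ^ i) M) =
      fn (conjX ν P⁻¹ N) (conjX ν (tv (i * s)) (conjX ν P⁻¹ M)) := by
    intro i
    rw [show slPerm ν (u ^ i) = conjX ν (Matrix.SpecialLinearGroup.toGL (u ^ i)) from rfl, hP i,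
      map_mul, map_mul, Equiv.Perm.mul_apply, Equiv.Perm.mul_apply, fn_conj P]
  rw [Finset.sum_congr rfl fun i _ => hterm i, ← sum_tv hν h2 (conjX ν P⁻¹ M) (conjX ν P⁻¹ N)]
  refine Finset.sum_bij (fun i _ => (i : F) * s) (fun i _ => Finset.mem_univ _) ?_ ?_
    (fun i _ => rfl)
  · intro i hi j hj hij
    exact CharP.natCast_injOn_Iio F p (Finset.mem_range.1 hi) (Finset.mem_range.1 hj)
      (mul_right_cancel₀ hs hij)
  · intro b _
    have hsurj : (Finset.range p).image (fun i : ℕ => (i : F) * s) = Finset.univ := by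
      refine Finset.eq_univ_of_card _ ?_
      rw [Finset.card_image_of_injOn, Finset.card_range, hq]
      intro i hi j hj hij
      exact CharP.natCast_injOn_Iio F p (Finset.mem_range.1 hi) (Finset.mem_range.1 hj)
        (mul_right_cancel₀ hs hij)
    obtain ⟨i, hi, rfl⟩ := Finset.mem_image.1 (hsurj.symm ▸ Finset.mem_univ b)
    exact ⟨i, hi, rfl⟩

end CfsgLib.Recog.Conic
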