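import Cfsg.Agent.Lib.Recog.ConicModule

/-!
The split extension of the conic module by `PSL₂(p)` has the spectrum of `PGL₂(p)`.
-/

set_option autoImplicit false

namespace CfsgLib.Recog.Conic

open Matrix

/-- The `M`-part of a power in a split extension with abelian kernel. -/
theorem pow_left_prod {M G : Type*} [CommGroup M] [Group G] (φ : G →* MulAut M) (x : M ⋊[φ] G)
    (n : ℕ) : (x ^ n).left = ∏ i ∈ Finset.range n, φ (x.right ^ i) x.left := by
  induction n with
  | zero => simp
  | succ n ih =>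
    rw [pow_succ, SemidirectProduct.mul_left, ih, Finset.prod_range_succ]
    congr 1
    rw [show (x ^ n).right = x.right ^ n from map_pow SemidirectProduct.rightHom x n]

variable {F : Type*} [Field F] [Fintype F] (p : ℕ) [hp : Fact p.Prime] [CharP F p] (ν : F)

theorem comp_mem_modV {f : Pts ν → ZMod 2} (hf : f ∈ modV p ν)
    (g : Matrix.SpecialLinearGroup (Fin 2) F) : f ∘ slPerm ν g ∈ modV p ν := by
  intro u hu hup M
  have hu' : g * u * g⁻¹ ∉ Subgroup.center (Matrix.SpecialLinearGroup (Fin 2) F) := fun h => hu (by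
    have h2 := Subgroup.Normal.conj_mem inferInstance _ h g⁻¹
    simpa [mul_assoc] using h2)
  have hup' : (g * u * g⁻¹) ^ p ∈ Subgroup.center (Matrix.SpecialLinearGroup (Fin 2) F) := by
    rw [conj_pow]
    exact Subgroup.Normal.conj_mem inferInstance _ hup g
  refine (Finset.sum_congr rfl fun i _ => ?_).trans (hf _ hu' hup' (slPerm ν g M))
  rw [Function.comp_apply, ← Equiv.Perm.mul_apply, ← Equiv.Perm.mul_apply, ← map_mul, ← map_mul,
    conj_pow, inv_mul_cancel_right]

/-- The module as a multiplicative group. -/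
abbrev ModV : Type _ := Multiplicative (modV (F := F) p ν)

omit [Fintype F] in
theorem slPerm_cancel (g : Matrix.SpecialLinearGroup (Fin 2) F) (M : Pts ν) :
    slPerm ν g (slPerm ν g⁻¹ M) = M ∧ slPerm ν g⁻¹ (slPerm ν g M) = M := by
  constructor <;> rw [← Equiv.Perm.mul_apply, ← map_mul] <;> simp

/-- The action of `SL₂` on the module. -/
noncomputable def actSL : Matrix.SpecialLinearGroup (Fin 2) F →* MulAut (ModV p ν) :=
  MonoidHom.mk'
    (fun g =>
      { toFun := fun v => Multiplicative.ofAdd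
          ⟨(v.toAdd : Pts ν → ZMod 2) ∘ slPerm ν g⁻¹, comp_mem_modV p ν v.toAdd.2 _⟩
        invFun := fun v => Multiplicative.ofAdd
          ⟨(v.toAdd : Pts ν → ZMod 2) ∘ slPerm ν g, comp_mem_modV p ν v.toAdd.2 _⟩
        left_inv := fun v => by
          apply Multiplicative.toAdd.injective
          refine Subtype.ext (funext fun M => ?_)
          simp [(slPerm_cancel ν g M).1, (slPerm_cancel ν g M).2, -map_inv]
        right_inv := fun v => by
          apply Multiplicative.toAdd.injective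
          refine Subtype.ext (funext fun M => ?_)
          simp [(slPerm_cancel ν g M).1, (slPerm_cancel ν g M).2, -map_inv]
        map_mul' := fun v w => by
          apply Multiplicative.toAdd.injective
          refine Subtype.ext (funext fun M => ?_)
          simp })
    (fun g h => by
      refine MulEquiv.ext fun v => ?_
      apply Multiplicative.toAdd.injective
      refine Subtype.ext (funext fun M => ?_)
      simp [map_mul])

theorem actSL_apply (g : Matrix.SpecialLinearGroup (Fin 2) F) (v : ModV p ν) (M : Pts ν) :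
    ((actSL p ν g v).toAdd : Pts ν → ZMod 2) M = (v.toAdd : Pts ν → ZMod 2) (slPerm ν g⁻¹ M) :=
  rfl

/-- The action of `PSL₂` on the module. -/
noncomputable def actPSL : Matrix.ProjectiveSpecialLinearGroup (Fin 2) F →* MulAut (ModV p ν) :=
  QuotientGroup.lift _ (actSL p ν) (fun g hg => by
    rw [MonoidHom.mem_ker]
    refine MulEquiv.ext fun v => ?_
    apply Multiplicative.toAdd.injective
    refine Subtype.ext (funext fun M => ?_)
    rw [actSL_apply, slPerm_of_mem_center ν (inv_mem hg)]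
    rfl)

theorem actPSL_mk (g : Matrix.SpecialLinearGroup (Fin 2) F) :
    actPSL p ν (QuotientGroup.mk' (Subgroup.center (Matrix.SpecialLinearGroup (Fin 2) F)) g) =
      actSL p ν g := rfl

theorem pow_two_eq_one (v : ModV p ν) : v ^ 2 = 1 := by
  apply Multiplicative.toAdd.injective
  refine Subtype.ext (funext fun M => ?_)
  simp [two_nsmul, CharTwo.add_self_eq_zero]

theorem fixedPointFree (hodd : Odd p) {x : Matrix.ProjectiveSpecialLinearGroup (Fin 2) F}
    (hx : orderOf x = p) (v : ModV p ν) (hv : actPSL p ν x v = v) : v = 1 := by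
  obtain ⟨u, rfl⟩ := QuotientGroup.mk'_surjective _ x
  have hu : u ∉ Subgroup.center (Matrix.SpecialLinearGroup (Fin 2) F) := fun h => by
    rw [QuotientGroup.mk'_apply, (QuotientGroup.eq_one_iff u).2 h, orderOf_one] at hx
    exact hp.out.ne_one hx.symm
  have hup : u ^ p ∈ Subgroup.center (Matrix.SpecialLinearGroup (Fin 2) F) := by
    rw [← QuotientGroup.eq_one_iff, ← QuotientGroup.mk'_apply, map_pow, ← hx, pow_orderOf_eq_one]
  rw [actPSL_mk] at hv
  apply Multiplicative.toAdd.injective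
  refine Subtype.ext (funext fun M => ?_)
  have hinv : ∀ (i : ℕ) M, (v.toAdd : Pts ν → ZMod 2) (slPerm ν (u ^ i) M) =
      (v.toAdd : Pts ν → ZMod 2) M := by
    intro i
    induction i with
    | zero => intro M; simp
    | succ i ih =>
      intro M
      rw [pow_succ, map_mul, Equiv.Perm.mul_apply, ih]
      conv_lhs => rw [← hv]
      rw [actSL_apply, ← Equiv.Perm.mul_apply, ← map_mul, inv_mul_cancel, map_one,
        Equiv.Perm.one_apply]
  have h := v.toAdd.2 u hu hup M
  rw [Finset.sum_congr rfl fun i _ => hinv i M, Finset.sum_const, Finset.card_range,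
    nsmul_eq_mul] at h
  have hp2 : ((p : ℕ) : ZMod 2) = 1 := (ZMod.natCast_eq_one_iff_odd).2 hodd
  rw [hp2, one_mul] at h
  simpa using h

/-- Solutions for the doubling computation. -/
theorem exists_hInd_one (hp5 : 5 ≤ p) (hq : Fintype.card F = p) (hν : ¬IsSquare ν) {D : F}
    (hD : D ≠ 0) :
    ∃ a b c : F, a ^ 2 + b * c = ν ∧
      hInd ν (-a ^ 2 + (b ^ 2 + D ^ 2 * c ^ 2) / (2 * D)) = 1 := by
  classical
  have h2 : (2 : F) ≠ 0 := by
    rw [show (2 : F) = ((2 : ℕ) : F) by norm_num, ne_eq, CharP.cast_eq_zero_iff F p]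
    exact fun h => by have := Nat.le_of_dvd (by norm_num) h; omega
  have hcast : ∀ k : ℕ, 0 < k → k < p → ((k : ℕ) : F) ≠ 0 := fun k h0 hk h => by
    rw [CharP.cast_eq_zero_iff F p] at h
    exact absurd (Nat.le_of_dvd h0 h) (by omega)
  have hex : ∃ k : ℕ, ¬IsSquare (k : F) := by
    have hu : (Finset.range p).image (fun i : ℕ => (i : F)) = Finset.univ := by
      refine Finset.eq_univ_of_card _ ?_
      rw [Finset.card_image_of_injOn, Finset.card_range, hq]
      exact fun i hi j hj hij =>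
        CharP.natCast_injOn_Iio F p (Finset.mem_range.1 hi) (Finset.mem_range.1 hj) hij
    obtain ⟨k, -, hk⟩ := Finset.mem_image.1 (hu.symm ▸ Finset.mem_univ ν)
    exact ⟨k, hk ▸ hν⟩
  -- the least natural number which is not a square
  set m := Nat.find hex with hm
  have hmns : ¬IsSquare (m : F) := Nat.find_spec hex
  have hlt : ∀ k, k < m → IsSquare (k : F) := fun k hk => not_not.1 (Nat.find_min hex hk)
  have hm2 : 2 ≤ m := by
    by_contra h
    interval_cases m
    · exact hmns ⟨0, by simp⟩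
    · exact hmns ⟨1, by simp⟩
  have hmp : m < p := by
    by_contra h
    have h1 : m % p < m := lt_of_lt_of_le (Nat.mod_lt _ hp.out.pos) (by omega)
    have h2' := hlt _ h1
    rw [← CharP.cast_eq_mod F p m] at h2'
    exact hmns h2'
  have hm0 : (m : F) ≠ 0 := hcast m (by omega) hmp
  have hm1 : (m : F) + 1 ≠ 0 := by
    intro h
    rw [← Nat.cast_add_one, CharP.cast_eq_zero_iff F p] at h
    have h' : m + 1 = p := Nat.le_antisymm hmp (Nat.le_of_dvd (by omega) h)
    obtain ⟨k, hk⟩ := hp.out.odd_of_ne_two (by omega)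
    apply hmns
    rw [show m = 2 * k by omega, Nat.cast_mul]
    exact (hlt 2 (by omega)).mul (hlt k (by omega))
  -- `e ≠ 0` with `e² - 4νD` not a square
  obtain ⟨e, he0, he⟩ : ∃ e : F, e ≠ 0 ∧ ¬IsSquare (e ^ 2 - 4 * ν * D) := by
    have hK : 4 * ν * D ≠ 0 := by
      have hν0 : ν ≠ 0 := fun h => hν ⟨0, by simp [h]⟩
      exact mul_ne_zero (mul_ne_zero (by
        rw [show (4 : F) = 2 * 2 by norm_num]; exact mul_ne_zero h2 h2) hν0) hD
    generalize 4 * ν * D = K at hK ⊢
    by_cases hKs : IsSquare K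
    · obtain ⟨k, rfl⟩ := hKs
      have hk : k ≠ 0 := fun h => hK (by simp [h])
      have h1m : 1 - (m : F) ≠ 0 := fun h => hmns ⟨1, by rw [one_mul]; linear_combination -h⟩
      refine ⟨k * ((1 + (m : F)) / (1 - m)),
        mul_ne_zero hk (div_ne_zero (by rwa [add_comm]) h1m), fun hs => hmns ?_⟩
      obtain ⟨r, hr⟩ := hs
      refine ⟨r * (1 - m) / (2 * k), ?_⟩
      field_simp at hr ⊢
      linear_combination hr
    · -- `K / m` is a square
      have hKm : IsSquare (K * (m : F)) := by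
        have hχ : quadraticChar F (K * m) = 1 := by
          rw [map_mul, quadraticChar_neg_one_iff_not_isSquare.2 hKs,
            quadraticChar_neg_one_iff_not_isSquare.2 hmns]
          norm_num
        exact (quadraticChar_one_iff_isSquare (mul_ne_zero hK hm0)).1 hχ
      obtain ⟨k, hk⟩ := hKm
      have hk0 : k ≠ 0 := fun h => mul_ne_zero hK hm0 (by rw [hk, h, mul_zero])
      refine ⟨k, hk0, fun hs => hmns ?_⟩
      obtain ⟨r, hr⟩ := hs
      obtain ⟨s, hs1⟩ := hlt (m - 1) (by omega)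
      rw [Nat.cast_sub (by omega), Nat.cast_one] at hs1
      have hs0 : s ≠ 0 := fun h => hcast (m - 1) (by omega) (by omega) (by
        rw [Nat.cast_sub (by omega), Nat.cast_one, hs1, h, mul_zero])
      have key : r * r * (m : F) = s * s * k * k := by
        linear_combination -(m : F) * hr - hk + k ^ 2 * hs1
      refine ⟨r * (m : F) / (s * k), ?_⟩
      field_simp
      first
        | linear_combination key
        | linear_combination -key
        | linear_combination (m : F) * key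
        | linear_combination -(m : F) * key
  -- a point on the conic
  have h4D : (4 : F) * D ≠ 0 := mul_ne_zero (by
    rw [show (4 : F) = 2 * 2 by norm_num]; exact mul_ne_zero h2 h2) hD
  obtain ⟨a, w, haw⟩ := FiniteField.exists_root_sum_quadratic
    (f := (Polynomial.X ^ 2 : Polynomial F))
    (g := Polynomial.C (-(4 * D)⁻¹) * Polynomial.X ^ 2 +
      Polynomial.C (e ^ 2 * (4 * D)⁻¹ - ν))
    (by rw [Polynomial.degree_X_pow]; rfl)
    (by rw [Polynomial.degree_add_C (by
          rw [Polynomial.degree_C_mul_X_pow 2 (neg_ne_zero.2 (inv_ne_zero h4D))]; norm_num),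
        Polynomial.degree_C_mul_X_pow 2 (neg_ne_zero.2 (inv_ne_zero h4D))]; rfl)
    (by rw [hq]; exact Nat.odd_iff.1 (hp.out.odd_of_ne_two (by omega)))
  simp at haw
  have h4 : (4 : F) ≠ 0 := left_ne_zero_of_mul h4D
  have hνe : ν = a ^ 2 + (e ^ 2 - w ^ 2) / (4 * D) := by
    field_simp at haw ⊢
    first
      | linear_combination -haw
      | linear_combination -4 * haw
  refine ⟨a, (e + w) / 2, (e - w) / (2 * D), ?_, hInd_eq_one ?_⟩
  · rw [hνe]
    field_simp
    ring
  · have hs : -a ^ 2 + (((e + w) / 2) ^ 2 + D ^ 2 * ((e - w) / (2 * D)) ^ 2) / (2 * D) =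
        -ν + e ^ 2 / (2 * D) := by
      rw [hνe]
      field_simp
      ring
    rw [hs]
    rintro ⟨r, hr⟩
    apply he
    refine ⟨2 * D * r / e, ?_⟩
    field_simp at hr ⊢
    linear_combination hr

/-- Some point is sent by the torus involution to one pairing non-trivially with it. -/
theorem exists_pairing (hp5 : 5 ≤ p) (hq : Fintype.card F = p) (hν : ¬IsSquare ν)
    (N₀ : GL (Fin 2) F) {D : F} (hD : D ≠ 0)
    (hsq : (N₀ : Matrix (Fin 2) (Fin 2) F) * (N₀ : Matrix (Fin 2) (Fin 2) F) = D • 1)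
    (hns : ¬CfsgLib.GLTwo.IsScalar2 (N₀ : Matrix (Fin 2) (Fin 2) F)) :
    ∃ M : Pts ν, hInd ν (bf M (conjX ν N₀ M)) = 1 := by
  have htr : (N₀ : Matrix (Fin 2) (Fin 2) F).trace = 0 := by
    by_contra ht
    have h := CfsgLib.GLTwo.sq_eq (N₀ : Matrix (Fin 2) (Fin 2) F)
    rw [hsq] at h
    apply hns
    have hsm : (N₀ : Matrix (Fin 2) (Fin 2) F) =
        ((N₀ : Matrix (Fin 2) (Fin 2) F).trace⁻¹ * (D + (N₀ : Matrix (Fin 2) (Fin 2) F).det)) •
          (1 : Matrix (Fin 2) (Fin 2) F) := by
      rw [← smul_smul, add_smul, h, sub_add_cancel, smul_smul, inv_mul_cancel₀ ht, one_smul]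
    rw [hsm]
    exact CfsgLib.GLTwo.isScalar2_smul_one _
  have hdet : (N₀ : Matrix (Fin 2) (Fin 2) F).det = -D := by
    have h := CfsgLib.GLTwo.sq_eq (N₀ : Matrix (Fin 2) (Fin 2) F)
    rw [hsq, htr, zero_smul, zero_sub] at h
    have h00 := congrFun (congrFun h 0) 0
    simp at h00
    linear_combination h00
  obtain ⟨X, hX, hNX⟩ := CfsgLib.GLTwo.exists_cyclic hns
  rw [htr, hdet] at hNX
  let P : GL (Fin 2) F := Matrix.GeneralLinearGroup.mkOfDetNeZero X hX
  let C : GL (Fin 2) F := Matrix.GeneralLinearGroup.mkOfDetNeZero !![0, D; 1, 0]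
    (by simpa [Matrix.det_fin_two] using hD)
  have hconj : N₀ = P * C * P⁻¹ := by
    rw [eq_mul_inv_iff_mul_eq]
    refine Units.ext ?_
    rw [Units.val_mul, Units.val_mul]
    change (N₀ : Matrix (Fin 2) (Fin 2) F) * X = X * !![0, D; 1, 0]
    rw [hNX, CfsgLib.GLTwo.companion, neg_neg]
  obtain ⟨a, b, c, habc, hh⟩ := exists_hInd_one p ν hp5 hq hν hD
  have hMp : (!![a, b; c, -a] : Matrix (Fin 2) (Fin 2) F).trace = 0 ∧
      (!![a, b; c, -a] : Matrix (Fin 2) (Fin 2) F).det = -ν := by
    refine ⟨by simp [Matrix.trace_fin_two], ?_⟩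
    rw [Matrix.det_fin_two_of]
    linear_combination -habc
  let M0 : Pts ν := ⟨_, hMp⟩
  refine ⟨conjX ν P M0, ?_⟩
  rw [hconj, ← Equiv.Perm.mul_apply, ← map_mul, mul_assoc, inv_mul_cancel, mul_one, map_mul,
    Equiv.Perm.mul_apply, bf_conj]
  rw [← hh]
  congr 1
  have hCinv : ((C⁻¹ : GL (Fin 2) F) : Matrix (Fin 2) (Fin 2) F) = !![0, 1; D⁻¹, 0] := by
    refine Units.inv_eq_of_mul_eq_one_right ?_
    change (!![0, D; 1, 0] : Matrix (Fin 2) (Fin 2) F) * _ = 1
    ext i j; fin_cases i <;> fin_cases j <;> simp [Matrix.mul_apply, Fin.sum_univ_two, hD]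
  have h2 : (2 : F) ≠ 0 := by
    rw [show (2 : F) = ((2 : ℕ) : F) by norm_num, ne_eq, CharP.cast_eq_zero_iff F p]
    exact fun h => by have := Nat.le_of_dvd (by norm_num) h; omega
  rw [bf, conjX_val, hCinv]
  change ((!![a, b; c, -a] : Matrix (Fin 2) (Fin 2) F) *
    ((!![0, D; 1, 0] : Matrix (Fin 2) (Fin 2) F) * !![a, b; c, -a] * !![0, 1; D⁻¹, 0])).trace / 2 = _
  simp [Matrix.trace_fin_two, Matrix.mul_apply, Matrix.vecMul, dotProduct, Fin.sum_univ_two]
  field_simp
  ring

/-- Elements of the tori double their orders. -/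
theorem exists_orderOf_two_mul (hp5 : 5 ≤ p) (hq : Fintype.card F = p) (hν : ¬IsSquare ν)
    {x : Matrix.ProjectiveSpecialLinearGroup (Fin 2) F} (hx1 : x ≠ 1) (hxp : orderOf x ≠ p) :
    ∃ y : ModV p ν ⋊[actPSL p ν] Matrix.ProjectiveSpecialLinearGroup (Fin 2) F,
      orderOf y = 2 * orderOf x := by
  classical
  obtain ⟨g, rfl⟩ := QuotientGroup.mk'_surjective _ x
  have h2 : (2 : F) ≠ 0 := by
    rw [show (2 : F) = ((2 : ℕ) : F) by norm_num, ne_eq, CharP.cast_eq_zero_iff F p]
    exact fun h => by have := Nat.le_of_dvd (by norm_num) h; omega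
  set n := orderOf (QuotientGroup.mk' (Subgroup.center (Matrix.SpecialLinearGroup (Fin 2) F)) g)
    with hn
  set G : Matrix (Fin 2) (Fin 2) F := (g : Matrix (Fin 2) (Fin 2) F) with hG
  have hd : G.det = 1 := g.2
  set t := G.trace with ht
  set D : F := t ^ 2 / 4 - 1 with hD
  have h4 : (4 : F) ≠ 0 := by rw [show (4 : F) = 2 * 2 by norm_num]; exact mul_ne_zero h2 h2
  have hsq : (G - (t / 2) • 1) * (G - (t / 2) • 1) = D • (1 : Matrix (Fin 2) (Fin 2) F) := by
    have h := sq_sub_trace_mul_add_det G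
    rw [hd, one_smul, pow_two] at h
    simp only [sub_mul, mul_sub, Matrix.smul_mul, Matrix.mul_smul, one_mul, mul_one, smul_smul]
    rw [hD, sub_smul, one_smul, show t ^ 2 / 4 = t / 2 * (t / 2) by field_simp; ring,
      show t • G = (t / 2) • G + (t / 2) • G by rw [← add_smul]; congr 1; field_simp; ring] at *
    linear_combination (norm := abel) h
  have hns : ¬CfsgLib.GLTwo.IsScalar2 (G - (t / 2) • 1) := by
    intro h
    rw [CfsgLib.GLTwo.isScalar2_iff] at h
    apply hx1
    refine (QuotientGroup.eq_one_iff _).2 (mem_center_SL_two_iff.2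
      ⟨(G - (t / 2) • 1) 0 0 + t / 2, ?_⟩)
    rw [add_smul, ← h, sub_add_cancel]
  have hD0 : D ≠ 0 := by
    intro h0
    rw [h0, zero_smul, ← pow_two] at hsq
    have h1 := pow_eq_zero_of_le hp.out.two_le hsq
    rw [sub_pow_char_of_commute (p := p) ((Commute.one_right G).smul_right (t / 2)), sub_eq_zero,
      _root_.smul_pow, one_pow, hG, ← Matrix.SpecialLinearGroup.coe_pow] at h1
    have h2' : (QuotientGroup.mk' (Subgroup.center (Matrix.SpecialLinearGroup (Fin 2) F)) g) ^ p = 1 := by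
      rw [← map_pow]
      exact (QuotientGroup.eq_one_iff _).2 (mem_center_SL_two_iff.2 ⟨_, h1⟩)
    exact hxp (orderOf_eq_prime h2' hx1)
  let N₀ : GL (Fin 2) F :=
    ⟨G - (t / 2) • 1, D⁻¹ • (G - (t / 2) • 1),
      by rw [Matrix.mul_smul, hsq, smul_smul, inv_mul_cancel₀ hD0, one_smul],
      by rw [Matrix.smul_mul, hsq, smul_smul, inv_mul_cancel₀ hD0, one_smul]⟩
  have hspan : ∀ i : ℕ, ∃ α β : F, G ^ i = α • 1 + β • (N₀ : Matrix (Fin 2) (Fin 2) F) := by
    intro i
    induction i with
    | zero => exact ⟨1, 0, by simp⟩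
    | succ i ih =>
      obtain ⟨α, β, h⟩ := ih
      refine ⟨α * (t / 2) + β * D, α + β * (t / 2), ?_⟩
      have hGN : G = (t / 2) • 1 + (N₀ : Matrix (Fin 2) (Fin 2) F) := by
        change G = (t / 2) • 1 + (G - (t / 2) • 1); abel
      rw [pow_succ, h]
      nth_rewrite 1 [hGN]
      rw [add_mul, mul_add, mul_add, Matrix.smul_mul, Matrix.smul_mul, Matrix.smul_mul,
        Matrix.smul_mul, one_mul, one_mul,
        show (N₀ : Matrix (Fin 2) (Fin 2) F) * N₀ = D • 1 from hsq, Matrix.mul_smul, mul_one,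
        smul_smul, smul_smul, smul_smul, add_smul, add_smul]
      abel
  obtain ⟨M, hM⟩ := exists_pairing p ν hp5 hq hν N₀ hD0 hsq hns
  set j := conjX ν N₀ with hj
  have hj2 : ∀ Q, j (j Q) = Q := by
    intro Q
    rw [hj, ← Equiv.Perm.mul_apply, ← map_mul, conjX_eq_of_eq_smul ν (h := 1) (c := D)
      (by rw [Units.val_mul, Units.val_one]; exact hsq), map_one, Equiv.Perm.one_apply]
  set a : ℕ → Equiv.Perm (Pts ν) := fun i => slPerm ν (g ^ i) with ha
  have hcomm : ∀ i Q, j (a i Q) = a i (j Q) := by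
    intro i Q
    rw [ha, hj]
    change conjX ν N₀ (conjX ν _ Q) = conjX ν _ (conjX ν N₀ Q)
    rw [← Equiv.Perm.mul_apply, ← Equiv.Perm.mul_apply, ← map_mul, ← map_mul]
    congr 2
    refine Units.ext ?_
    obtain ⟨α, β, h⟩ := hspan i
    rw [Units.val_mul, Units.val_mul]
    change (N₀ : Matrix (Fin 2) (Fin 2) F) * ((g ^ i : Matrix.SpecialLinearGroup (Fin 2) F) : Matrix (Fin 2) (Fin 2) F) = ((g ^ i : Matrix.SpecialLinearGroup (Fin 2) F) : Matrix (Fin 2) (Fin 2) F) * (N₀ : Matrix (Fin 2) (Fin 2) F)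
    rw [Matrix.SpecialLinearGroup.coe_pow, ← hG, h]
    simp [mul_add, add_mul]
  have han : ∀ i, i ≤ n → ∀ Q, a i (a (n - i) Q) = Q := by
    intro i hi Q
    rw [ha]
    change slPerm ν (g ^ i) (slPerm ν (g ^ (n - i)) Q) = Q
    rw [← Equiv.Perm.mul_apply, ← map_mul, ← pow_add, Nat.add_sub_cancel' hi,
      slPerm_of_mem_center ν, Equiv.Perm.one_apply]
    rw [← QuotientGroup.eq_one_iff, ← QuotientGroup.mk'_apply, map_pow, hn, pow_orderOf_eq_one]
  have hsym : ∀ i, i ≤ n → bf (a (n - i) M) (j M) = bf (a i M) (j M) := by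
    intro i hi
    have h1 : bf (a (n - i) M) (j M) = bf (a i (a (n - i) M)) (a i (j M)) := by
      rw [ha]; exact (bf_conj _ _ _).symm
    rw [h1, han i hi, ← hcomm i]
    conv_lhs => rw [← hj2 M]
    rw [hj2 M, hj, bf_comm, ← bf_conj N₀]
    rw [← hj, hj2]
  let v : ModV p ν := Multiplicative.ofAdd
    ⟨fn (j M), fn_mem_modV p hq hν h2 (j M)⟩
  refine ⟨⟨v, (QuotientGroup.mk' _ g)⁻¹⟩, ?_⟩
  rw [orderOf_eq_mul_of_left_ne_one (actPSL p ν) Nat.prime_two (pow_two_eq_one p ν) _ ?_]
  · change 2 * orderOf (QuotientGroup.mk' _ g)⁻¹ = 2 * n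
    rw [orderOf_inv]
  intro h
  rw [pow_left_prod] at h
  have hS := congrFun (congrArg (fun z : ModV p ν => (z.toAdd : Pts ν → ZMod 2)) h) M
  simp only [toAdd_prod, AddSubgroup.val_finset_sum, Finset.sum_apply, toAdd_one,
    AddSubgroup.coe_zero, Pi.zero_apply, orderOf_inv] at hS
  have hterm : ∀ i, ((actPSL p ν ((QuotientGroup.mk'
      (Subgroup.center (Matrix.SpecialLinearGroup (Fin 2) F)) g)⁻¹ ^ i) v).toAdd :
        Pts ν → ZMod 2) M = hInd ν (bf (a i M) (j M)) := by
    intro i
    rw [← map_inv, ← map_pow, actPSL_mk, actSL_apply, inv_pow, inv_inv]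
    rfl
  rw [Finset.sum_congr rfl fun i _ => hterm i, ← hn] at hS
  have hn2 : 2 ≤ n := by
    rcases Nat.lt_or_ge n 2 with hlt | hge
    · exfalso
      interval_cases n
      · exact absurd hn.symm (orderOf_pos _).ne'
      · exact hx1 (orderOf_eq_one_iff.1 hn.symm)
    · exact hge
  rw [Finset.range_eq_Ico, Finset.sum_eq_sum_Ico_succ_bot (by omega)] at hS
  have hrest : ∑ i ∈ Finset.Ico (0 + 1) n, hInd ν (bf (a i M) (j M)) = 0 := by
    refine Finset.sum_involution (fun i _ => n - i) (fun i hi => ?_) (fun i hi hne => ?_)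
      (fun i hi => ?_) (fun i hi => ?_)
    · rw [hsym i (Finset.mem_Ico.1 hi).2.le]
      exact CharTwo.add_self_eq_zero _
    · intro heq
      apply hne
      have hi' := Finset.mem_Ico.1 hi
      have hai : slPerm ν (g ^ i) = j := by
        obtain ⟨α, β, hab⟩ := hspan i
        have hnc : g ^ i ∉ Subgroup.center (Matrix.SpecialLinearGroup (Fin 2) F) := by
          intro hc
          rw [← QuotientGroup.eq_one_iff, ← QuotientGroup.mk'_apply, map_pow,
            ← orderOf_dvd_iff_pow_eq_one, ← hn] at hc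
          exact absurd (Nat.le_of_dvd (by omega) hc) (by omega)
        have hc : g ^ (i + i) ∈ Subgroup.center (Matrix.SpecialLinearGroup (Fin 2) F) := by
          rw [← QuotientGroup.eq_one_iff, ← QuotientGroup.mk'_apply, map_pow,
            ← orderOf_dvd_iff_pow_eq_one, ← hn, show i + i = n by omega]
        obtain ⟨c, hc⟩ := mem_center_SL_two_iff.1 hc
        rw [Matrix.SpecialLinearGroup.coe_pow, ← hG, pow_add, hab] at hc
        simp only [add_mul, mul_add, Matrix.smul_mul, Matrix.mul_smul, one_mul, mul_one,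
          show (N₀ : Matrix (Fin 2) (Fin 2) F) * N₀ = D • 1 from hsq, smul_smul] at hc
        have hsc : (2 * α * β) • (N₀ : Matrix (Fin 2) (Fin 2) F) =
            (c - α * α - β * β * D) • 1 := by
          rw [sub_smul, sub_smul, ← hc, show 2 * α * β = α * β + β * α by ring, add_smul]
          simp only [mul_assoc]
          abel
        have hαβ : 2 * α * β = 0 := by
          by_contra hne'
          apply hns
          have : (N₀ : Matrix (Fin 2) (Fin 2) F) =
              ((2 * α * β)⁻¹ * (c - α * α - β * β * D)) • 1 := by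
            rw [← smul_smul, ← hsc, smul_smul, inv_mul_cancel₀ hne', one_smul]
          change CfsgLib.GLTwo.IsScalar2 (N₀ : Matrix (Fin 2) (Fin 2) F)
          rw [this]
          exact CfsgLib.GLTwo.isScalar2_smul_one _
        have hβ : β ≠ 0 := by
          rintro rfl
          refine hnc (mem_center_SL_two_iff.2 ⟨α, ?_⟩)
          rw [Matrix.SpecialLinearGroup.coe_pow, ← hG, hab, zero_smul, add_zero]
        have hα : α = 0 :=
          ((mul_eq_zero.1 ((mul_eq_zero.1 hαβ).resolve_right hβ)).resolve_left h2)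
        refine conjX_eq_of_eq_smul ν (c := β) ?_
        change (↑(g ^ i) : Matrix (Fin 2) (Fin 2) F) = _
        rw [Matrix.SpecialLinearGroup.coe_pow, ← hG, hab, hα, zero_smul, zero_add]
      apply hInd_eq_zero
      rw [show a i = j from hai, bf_self h2]
      exact ⟨0, by ring⟩
    · have hi' := Finset.mem_Ico.1 hi
      exact Finset.mem_Ico.2 ⟨by omega, by omega⟩
    · have hi' := Finset.mem_Ico.1 hi
      omega
  rw [hrest, add_zero, show a 0 = 1 by rw [ha]; simp, Equiv.Perm.one_apply, hM] at hS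
  exact one_ne_zero hS

/-- The spectrum of the extension is that of `PGL₂(p)`. -/
theorem range_orderOf (hp5 : 5 ≤ p) (hq : Fintype.card F = p) (hν : ¬IsSquare ν) :
    Set.range (orderOf :
        ModV p ν ⋊[actPSL p ν] Matrix.ProjectiveSpecialLinearGroup (Fin 2) F → ℕ) =
      {n | n = p ∨ n ∣ p - 1 ∨ n ∣ p + 1} := by
  obtain ⟨k, hk⟩ := hp.out.odd_of_ne_two (show p ≠ 2 by omega)
  have hd : dTwo F = 2 := by
    rw [dTwo, if_neg]
    rw [hq, Nat.even_iff]; omega
  have hspec := range_orderOf_PSL_two (F := F) p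
  rw [hq, hd] at hspec
  have e1 : (p - 1) / 2 * 2 = p - 1 := by omega
  have e2 : (p + 1) / 2 * 2 = p + 1 := by omega
  ext n
  constructor
  · rintro ⟨y, rfl⟩
    have hy : orderOf y.right ∈
        Set.range (orderOf : Matrix.ProjectiveSpecialLinearGroup (Fin 2) F → ℕ) := ⟨_, rfl⟩
    rw [hspec] at hy
    rcases orderOf_cases (actPSL p ν) Nat.prime_two (pow_two_eq_one p ν) y with h | ⟨h, v, hv, hf⟩
    · rw [h]
      rcases hy with h' | h' | h'
      · exact Or.inl h'
      · exact Or.inr (Or.inl (h'.trans ⟨2, e1.symm⟩))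
      · exact Or.inr (Or.inr (h'.trans ⟨2, e2.symm⟩))
    · rw [h]
      rcases hy with h' | h' | h'
      · exact absurd (fixedPointFree p ν ⟨k, hk⟩ h' v hf) hv
      · exact Or.inr (Or.inl (e1 ▸ mul_comm 2 (orderOf y.right) ▸ Nat.mul_dvd_mul_right h' 2))
      · exact Or.inr (Or.inr (e2 ▸ mul_comm 2 (orderOf y.right) ▸ Nat.mul_dvd_mul_right h' 2))
  · have key : ∀ m : ℕ, 2 ≤ m / 2 → m / 2 ≠ p → m / 2 * 2 = m →
        (∃ x : Matrix.ProjectiveSpecialLinearGroup (Fin 2) F, orderOf x = m / 2) → n ∣ m →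
        ∃ y : ModV p ν ⋊[actPSL p ν] Matrix.ProjectiveSpecialLinearGroup (Fin 2) F,
          orderOf y = n := by
      rintro m h2m hne hm ⟨x, hx⟩ hdvd
      obtain ⟨y, hy⟩ := exists_orderOf_two_mul p ν hp5 hq hν (x := x)
        (fun h => by rw [h, orderOf_one] at hx; omega) (by omega)
      exact exists_orderOf_of_dvd (x := y) (N := m) (by omega) (by omega) hdvd
    rintro (rfl | h | h)
    · obtain ⟨x, hx⟩ := exists_orderOf_eq_char_PSL (F := F) n
      exact ⟨SemidirectProduct.inr x, by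
        rw [orderOf_injective _ SemidirectProduct.inr_injective, hx]⟩
    · obtain ⟨x, hx⟩ := exists_orderOf_eq_card_sub_one_PSL (F := F)
      rw [hq, hd] at hx
      exact key _ (by omega) (by omega) e1 ⟨x, hx⟩ h
    · obtain ⟨x, hx⟩ := exists_orderOf_eq_card_add_one_PSL (F := F) p
      rw [hq, hd] at hx
      exact key _ (by omega) (by omega) e2 ⟨x, hx⟩ h

end CfsgLib.Recog.Conic
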