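import Cfsg.Agent.Lib.Recog.SocleTypes

/-!
A primitive group with a non-abelian socle that is not almost simple has three classes of
derangements.
-/

set_option autoImplicit false
set_option maxHeartbeats 800000

namespace CfsgLib.Recog

variable {G Ω : Type*} [Group G] [Finite G] [MulAction G Ω] [FaithfulSMul G Ω]
  [MulAction.IsPreprimitive G Ω] [Finite Ω]

variable (Ω) in
/-- Three pairwise non-conjugate derangements. -/
theorem IsSocleFactor.exists_three_derangements {N T : Subgroup G} (h : IsSocleFactor N T)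
    (hTN : ¬ (T = N ∧ Subgroup.centralizer (N : Set G) = ⊥)) :
    ∃ x y z : G, (∀ ω : Ω, x • ω ≠ ω) ∧ (∀ ω : Ω, y • ω ≠ ω) ∧ (∀ ω : Ω, z • ω ≠ ω) ∧
      ¬ IsConj x y ∧ ¬ IsConj x z ∧ ¬ IsConj y z := by
  classical
  by_cases hsemi : ∀ (b : Ω) (x : G), x ∈ T → x • b = b → x = 1
  · -- three elements of distinct prime orders
    obtain ⟨q1, q2, q3, h1, h2, h3, h12, h13, h23⟩ := Finset.two_lt_card_iff.1 h.two_lt_card_primeFactors
    have hex : ∀ q ∈ (Nat.card T).primeFactors, ∃ x : G, orderOf x = q ∧ ∀ ω : Ω, x • ω ≠ ω := by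
      intro q hq
      obtain ⟨hq, hqd, -⟩ := Nat.mem_primeFactors.1 hq
      haveI := Fact.mk hq
      obtain ⟨x, hx⟩ := exists_prime_orderOf_dvd_card' q hqd
      refine ⟨x, by rw [Subgroup.orderOf_coe, hx], fun b hb => ?_⟩
      have := hsemi b x x.2 hb
      rw [← Subgroup.orderOf_coe, this, orderOf_one] at hx
      exact hq.one_lt.ne hx
    obtain ⟨x, hxo, hx⟩ := hex q1 h1
    obtain ⟨y, hyo, hy⟩ := hex q2 h2
    obtain ⟨z, hzo, hz⟩ := hex q3 h3
    have ho : ∀ u v : G, IsConj u v → orderOf u = orderOf v := fun u v huv => by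
      obtain ⟨c, rfl⟩ := isConj_iff.1 huv
      rw [← MulAut.conj_apply, MulEquiv.orderOf_eq]
    exact ⟨x, y, z, hx, hy, hz, fun e => h12 (by rw [← hxo, ← hyo]; exact ho _ _ e),
      fun e => h13 (by rw [← hxo, ← hzo]; exact ho _ _ e),
      fun e => h23 (by rw [← hyo, ← hzo]; exact ho _ _ e)⟩
  push_neg at hsemi
  obtain ⟨a, x₀, hx₀, hx₀a, hx₀1⟩ := hsemi
  have hC : Subgroup.centralizer (N : Set G) = ⊥ := by
    by_contra hC
    exact hx₀1 (h.semiregular_of_centralizer hC (h.le hx₀) hx₀a)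
  rcases h.semiregular_or_product Ω with hs | hprod
  · exfalso; exact hx₀1 (hs 1 a x₀ (by rwa [CfsgLib.Recog.conjSub_one]) hx₀a)
  obtain ⟨t, ht, htd⟩ := h.exists_derangement ⟨x₀, hx₀, hx₀1, hx₀a⟩
  have ht1 : t ≠ 1 := fun e => htd a (by rw [e, one_smul])
  obtain ⟨g, hg⟩ : ∃ g, CfsgLib.Recog.conjSub g T ≠ T := by
    by_contra hc
    push_neg at hc
    refine hTN ⟨?_, hC⟩
    conv_rhs => rw [← h.iSup_conj_eq]
    simp [hc]
  have hL := h.map_conj g
  have hu : g * t * g⁻¹ ∈ CfsgLib.Recog.conjSub g T := CfsgLib.Recog.conj_mem_conjSub ht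
  have hv : g * x₀ * g⁻¹ ∈ CfsgLib.Recog.conjSub g T := CfsgLib.Recog.conj_mem_conjSub hx₀
  have hud : ∀ b : Ω, (g * t * g⁻¹) • b ≠ b := fun b hb => htd (g⁻¹ • b) (by
    rw [mul_smul, mul_smul, ← eq_inv_smul_iff] at hb; exact hb)
  -- the components of a product from two factors
  have hpair : ∀ u ∈ CfsgLib.Recog.conjSub g T, ∀ c : G,
      CfsgLib.Recog.IsSocleFactor.comp (CfsgLib.Recog.conjSub c T) (t * u) =
        if CfsgLib.Recog.conjSub c T = T then t
        else if CfsgLib.Recog.conjSub c T = CfsgLib.Recog.conjSub g T then u else 1 := by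
    intro u hu c
    have hM := h.map_conj c
    rw [hM.comp_mul (h.le ht) (hL.le hu)]
    split_ifs with e1 e2
    · rw [e1, h.comp_self ht, h.comp_of_ne hL (Ne.symm hg) hu, mul_one]
    · rw [e2, hL.comp_of_ne h hg ht, hL.comp_self hu, one_mul]
    · rw [hM.comp_of_ne h e1 ht, hM.comp_of_ne hL e2 hu, one_mul]
  have hder : ∀ u ∈ CfsgLib.Recog.conjSub g T, ∀ b : Ω, (t * u) • b ≠ b := by
    intro u hu b hb
    have h1 := hprod b _ (mul_mem (h.le ht) (hL.le hu)) hb 1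
    rw [hpair u hu 1, if_pos (CfsgLib.Recog.conjSub_one T)] at h1
    exact htd b h1
  have hnot : ∀ u ∈ CfsgLib.Recog.conjSub g T, u ≠ 1 → ¬ IsConj t (t * u) := by
    intro u hu hu1 hconj
    obtain ⟨c, hc⟩ := isConj_iff.1 hconj
    have hmem : t * u ∈ CfsgLib.Recog.conjSub c T := hc ▸ CfsgLib.Recog.conj_mem_conjSub ht
    have hM := h.map_conj c
    by_cases e : CfsgLib.Recog.conjSub c T = T
    · have h1 := hpair u hu g
      rw [if_neg hg, if_pos rfl, hL.comp_of_ne h hg (e ▸ hmem)] at h1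
      exact hu1 h1.symm
    · have h1 := hpair u hu 1
      rw [if_pos (CfsgLib.Recog.conjSub_one T), CfsgLib.Recog.conjSub_one,
        h.comp_of_ne hM (Ne.symm e) hmem] at h1
      exact ht1 h1.symm
  -- conjugation invariant: some non-trivial component has a fixed point
  let Q : G → Prop := fun z => ∃ c : G,
    CfsgLib.Recog.IsSocleFactor.comp (CfsgLib.Recog.conjSub c T) z ≠ 1 ∧
      ∃ b : Ω, CfsgLib.Recog.IsSocleFactor.comp (CfsgLib.Recog.conjSub c T) z • b = b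
  have hQ : ∀ z ∈ N, ∀ d : G, Q z → Q (d * z * d⁻¹) := by
    rintro z hz d ⟨c, hc1, b, hb⟩
    refine ⟨d * c, ?_, d • b, ?_⟩
    · rw [CfsgLib.Recog.conjSub_mul, (h.map_conj c).comp_conj hz]
      exact fun e => hc1 (by simpa using e)
    · rw [CfsgLib.Recog.conjSub_mul, (h.map_conj c).comp_conj hz, mul_smul, mul_smul, inv_smul_smul, hb]
  have hu1 : g * t * g⁻¹ ≠ 1 := fun e => ht1 (by simpa using e)
  have hv1 : g * x₀ * g⁻¹ ≠ 1 := fun e => hx₀1 (by simpa using e)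
  refine ⟨t, t * (g * t * g⁻¹), t * (g * x₀ * g⁻¹), htd, hder _ hu, hder _ hv,
    hnot _ hu hu1, hnot _ hv hv1, fun hconj => ?_⟩
  obtain ⟨d, hd⟩ := isConj_iff.1 hconj.symm
  have hQv : Q (t * (g * x₀ * g⁻¹)) := by
    refine ⟨g, ?_, g • a, ?_⟩
    · rw [hpair _ hv g, if_neg hg, if_pos rfl]; exact hv1
    · rw [hpair _ hv g, if_neg hg, if_pos rfl, mul_smul, mul_smul, inv_smul_smul, hx₀a]
  obtain ⟨c, hc1, b, hb⟩ := hd ▸ hQ _ (mul_mem (h.le ht) (hL.le hv)) d hQv
  rw [hpair _ hu c] at hc1 hb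
  split_ifs at hc1 hb
  · exact htd b hb
  · exact hud b hb
  · exact hc1 rfl

end CfsgLib.Recog
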