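import Mathlib

/-!
Orbit counting for the subgroup generated by the derangements.
-/

set_option autoImplicit false

namespace CfsgLib.Recog

open Finset

variable (G : Type*) (X : Type*) [Group G] [Finite G] [MulAction G X] [Finite X]

/-- Burnside's orbit counting lemma with `Nat.card`. -/
theorem sum_card_fixedBy [Fintype G] :
    ∑ g : G, Nat.card (MulAction.fixedBy X g) =
      Nat.card (MulAction.orbitRel.Quotient G X) * Nat.card G := by
  classical
  haveI := Fintype.ofFinite X
  haveI := Fintype.ofFinite (MulAction.orbitRel.Quotient G X)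
  simp only [Nat.card_eq_fintype_card]
  exact MulAction.sum_card_fixedBy_eq_card_orbits_mul_card_group G X

variable {G X}

theorem card_fixedBy_prod (g : G) :
    Nat.card (MulAction.fixedBy (X × X) g) = Nat.card (MulAction.fixedBy X g) ^ 2 := by
  rw [sq, ← Nat.card_prod]
  refine Nat.card_congr ⟨fun z => (⟨z.1.1, congrArg Prod.fst z.2⟩, ⟨z.1.2, congrArg Prod.snd z.2⟩),
    fun z => ⟨(z.1.1, z.2.1), Prod.ext z.1.2 z.2.2⟩, fun _ => rfl, fun _ => rfl⟩

theorem one_le_card_fixedBy {D : Subgroup G}
    (hD : {g : G | ∀ x : X, g • x ≠ x} ⊆ D) {g : G} (hg : g ∉ D) :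
    1 ≤ Nat.card (MulAction.fixedBy X g) := by
  have h : ¬ ∀ x : X, g • x ≠ x := fun h => hg (hD h)
  push_neg at h
  obtain ⟨x, hx⟩ := h
  exact Nat.card_pos_iff.2 ⟨⟨⟨x, hx⟩⟩, inferInstance⟩

/-- A subgroup containing every derangement of a transitive group is transitive and contains every
element whose number of fixed points is not one. -/
theorem transitive_and_card_fixedBy (htr : MulAction.IsPretransitive G X) (D : Subgroup G)
    (hD : {g : G | ∀ x : X, g • x ≠ x} ⊆ D) :
    MulAction.IsPretransitive D X ∧ ∀ g : G, g ∉ D → Nat.card (MulAction.fixedBy X g) = 1 := by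
  classical
  rcases isEmpty_or_nonempty X with hX | hX
  · exact ⟨⟨fun x => (hX.false x).elim⟩,
      fun g hg => absurd (hD fun x => (hX.false x).elim) hg⟩
  haveI := Fintype.ofFinite G
  haveI : Subsingleton (MulAction.orbitRel.Quotient G X) :=
    MulAction.pretransitive_iff_subsingleton_quotient G X |>.1 htr
  obtain ⟨x₀⟩ := hX
  haveI : Nonempty (MulAction.orbitRel.Quotient G X) := ⟨Quotient.mk'' x₀⟩
  haveI : Nonempty (MulAction.orbitRel.Quotient D X) := ⟨Quotient.mk'' x₀⟩
  have hG := sum_card_fixedBy G X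
  rw [Nat.card_of_subsingleton (Quotient.mk'' x₀ : MulAction.orbitRel.Quotient G X), one_mul,
    Nat.card_eq_fintype_card, ← Finset.card_univ,
    ← Finset.sum_filter_add_sum_filter_not univ (fun g => g ∈ D),
    ← Finset.card_filter_add_card_filter_not (s := (univ : Finset G)) (fun g => g ∈ D)] at hG
  have hDs : ∑ g ∈ univ.filter (fun g => g ∈ D), Nat.card (MulAction.fixedBy X g) =
      Nat.card (MulAction.orbitRel.Quotient D X) * (univ.filter (fun g => g ∈ D)).card := by
    rw [← Finset.sum_coe_sort,
      show (univ.filter (fun g => g ∈ D)).card = Nat.card D by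
        rw [Nat.card_eq_fintype_card]; exact (Fintype.card_subtype _).symm,
      ← sum_card_fixedBy D X]
    exact Fintype.sum_equiv (Equiv.subtypeEquivRight (fun g => by simp)) _ _ fun g => rfl
  have hr : 0 < Nat.card (MulAction.orbitRel.Quotient D X) := Nat.card_pos
  have hout : ∀ g ∈ univ.filter (fun g => ¬ g ∈ D), 1 ≤ Nat.card (MulAction.fixedBy X g) :=
    fun g hg => one_le_card_fixedBy hD (Finset.mem_filter.1 hg).2
  have hge := Finset.sum_le_sum hout
  rw [Finset.sum_const, smul_eq_mul, mul_one] at hge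
  have hne : 0 < (univ.filter (fun g => g ∈ D)).card :=
    Finset.card_pos.2 ⟨1, Finset.mem_filter.2 ⟨Finset.mem_univ _, D.one_mem⟩⟩
  have hr1 : Nat.card (MulAction.orbitRel.Quotient D X) = 1 := by
    by_contra h
    have := Nat.mul_le_mul_right (univ.filter (fun g => g ∈ D)).card (show 2 ≤ Nat.card (MulAction.orbitRel.Quotient D X) by omega)
    rw [← hDs] at this
    omega
  refine ⟨(MulAction.pretransitive_iff_subsingleton_quotient D X).2 (Nat.card_eq_one_iff_unique.1 hr1).1,
    fun g hg => ?_⟩
  rw [hr1, one_mul] at hDs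
  have hs : ∑ g ∈ univ.filter (fun g => ¬ g ∈ D), 1 =
      ∑ g ∈ univ.filter (fun g => ¬ g ∈ D), Nat.card (MulAction.fixedBy X g) := by
    rw [Finset.sum_const, smul_eq_mul, mul_one]
    omega
  exact ((Finset.sum_eq_sum_iff_of_le hout).1 hs g (Finset.mem_filter.2 ⟨Finset.mem_univ _, hg⟩)).symm

/-- The rank of a subgroup containing every derangement. -/
theorem rank_sub_one (htr : MulAction.IsPretransitive G X) (D : Subgroup G)
    (hD : {g : G | ∀ x : X, g • x ≠ x} ⊆ D) :
    Nat.card (MulAction.orbitRel.Quotient D (X × X)) - 1 =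
      (Nat.card (MulAction.orbitRel.Quotient G (X × X)) - 1) * D.index := by
  classical
  haveI := Fintype.ofFinite G
  have h1 := (transitive_and_card_fixedBy htr D hD).2
  have hG := sum_card_fixedBy G (X × X)
  rw [← Finset.sum_filter_add_sum_filter_not univ (fun g => g ∈ D)] at hG
  have hDs : ∑ g ∈ univ.filter (fun g => g ∈ D), Nat.card (MulAction.fixedBy (X × X) g) =
      Nat.card (MulAction.orbitRel.Quotient D (X × X)) * Nat.card D := by
    rw [← sum_card_fixedBy D (X × X), ← Finset.sum_coe_sort]
    exact Fintype.sum_equiv (Equiv.subtypeEquivRight (fun g => by simp)) _ _ fun g => rfl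
  have hout : ∑ g ∈ univ.filter (fun g => ¬ g ∈ D), Nat.card (MulAction.fixedBy (X × X) g) =
      (univ.filter (fun g => ¬ g ∈ D)).card := by
    rw [Finset.card_eq_sum_ones]
    exact Finset.sum_congr rfl fun g hg => by
      rw [card_fixedBy_prod, h1 g (Finset.mem_filter.1 hg).2, one_pow]
  have hc := Finset.card_filter_add_card_filter_not (s := (univ : Finset G)) (fun g => g ∈ D)
  have hcD : (univ.filter (fun g => g ∈ D)).card = Nat.card D := by
    rw [Nat.card_eq_fintype_card]
    exact (Fintype.card_subtype _).symm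
  rw [hDs, hout] at hG
  rw [hcD, Finset.card_univ, ← Nat.card_eq_fintype_card] at hc
  have hi := D.card_mul_index
  have hDp : 0 < Nat.card D := Nat.card_pos
  set rD := Nat.card (MulAction.orbitRel.Quotient D (X × X))
  set rG := Nat.card (MulAction.orbitRel.Quotient G (X × X))
  refine Nat.eq_of_mul_eq_mul_right hDp ?_
  rw [Nat.sub_mul, Nat.mul_assoc, mul_comm D.index, hi, Nat.sub_mul, one_mul, one_mul]
  omega

end CfsgLib.Recog
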