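import Mathlib

/-!
A map of `ZMod p` determining at most `(p - 1) / 2` directions is affine.
-/

set_option autoImplicit false

namespace CfsgLib.Recog

open Polynomial Finset

variable {p : ℕ} [hp : Fact p.Prime]

theorem sum_pow_zmod {m : ℕ} (h : m < 2 * (p - 1)) :
    ∑ x : ZMod p, x ^ m = if m = p - 1 then -1 else 0 := by
  have h2 := hp.out.two_le
  rcases Nat.lt_trichotomy m (p - 1) with hm | hm | hm
  · rw [if_neg hm.ne]
    exact FiniteField.sum_pow_lt_card_sub_one (ZMod p) m (by rwa [ZMod.card])
  · rw [if_pos hm, hm, ← Finset.add_sum_erase _ _ (Finset.mem_univ (0 : ZMod p)),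
      zero_pow (by omega), zero_add]
    rw [Finset.sum_congr rfl (fun x hx => ZMod.pow_card_sub_one_eq_one (Finset.ne_of_mem_erase hx)),
      Finset.sum_const, Finset.card_erase_of_mem (Finset.mem_univ _), Finset.card_univ, ZMod.card,
      nsmul_eq_mul, mul_one, Nat.cast_sub hp.out.one_le, ZMod.natCast_self, Nat.cast_one, zero_sub]
  · rw [if_neg hm.ne']
    rw [← FiniteField.sum_pow_lt_card_sub_one (ZMod p) (m - (p - 1)) (by rw [ZMod.card]; omega)]
    refine Finset.sum_congr rfl fun x _ => ?_
    by_cases hx : x = 0
    · rw [hx, zero_pow (by omega), zero_pow (by omega)]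
    · conv_lhs => rw [show m = (p - 1) + (m - (p - 1)) by omega, pow_add,
        ZMod.pow_card_sub_one_eq_one hx, one_mul]

/-- The sum of the values of a polynomial of degree less than `2 (p - 1)`. -/
theorem sum_eval_zmod (Q : (ZMod p)[X]) (h : Q.natDegree < 2 * (p - 1)) :
    ∑ x : ZMod p, Q.eval x = -Q.coeff (p - 1) := by
  rw [Finset.sum_congr rfl (fun x _ => Polynomial.eval_eq_sum_range' h x), Finset.sum_comm]
  simp_rw [← Finset.mul_sum]
  rw [Finset.sum_eq_single (p - 1)]
  · have h2 := hp.out.two_le
    rw [sum_pow_zmod (by omega), if_pos rfl, mul_neg_one]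
  · intro m hm hne
    rw [sum_pow_zmod (Finset.mem_range.1 hm), if_neg hne, mul_zero]
  · intro hn
    have h2 := hp.out.two_le
    exact absurd (Finset.mem_range.2 (by omega)) hn

/-- If the difference quotients of `f` lie in a set of at most `(p - 1) / 2` elements, `f` is
affine. -/
theorem affine_of_few_slopes (f : ZMod p → ZMod p) (S : Finset (ZMod p))
    (hS : 2 * S.card ≤ p - 1)
    (hslope : ∀ x y, x ≠ y → ∃ a ∈ S, f x - f y = a * (x - y)) :
    ∃ a b : ZMod p, ∀ x, f x = a * x + b := by
  by_cases hp5 : p < 5
  · have h1 : S.card ≤ 1 := by omega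
    by_cases h2 : S = ∅
    · refine ⟨0, f 0, fun x => ?_⟩
      by_cases hx : x = 0
      · rw [hx]; ring
      · obtain ⟨a, ha, -⟩ := hslope x 0 hx
        simp [h2] at ha
    · obtain ⟨a, rfl⟩ := Finset.card_eq_one.1
        (le_antisymm h1 (Finset.card_pos.2 (Finset.nonempty_iff_ne_empty.2 h2)))
      refine ⟨a, f 0, fun x => ?_⟩
      by_cases hx : x = 0
      · rw [hx]; ring
      · obtain ⟨b, hb, hfb⟩ := hslope x 0 hx
        rw [Finset.mem_singleton] at hb
        subst hb
        linear_combination hfb
  · have hodd : p % 2 = 1 := Nat.odd_iff.1 (hp.out.odd_of_ne_two (by omega))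
    set M := (p + 1) / 2 with hM
    -- off the slopes, `x ↦ f x - c x` is a bijection
    have hmom : ∀ i j : ℕ, 1 ≤ j → i + j ≤ M → ∑ x : ZMod p, x ^ i * f x ^ j = 0 := by
      intro i j hj hij
      set k := i + j with hk
      let P : (ZMod p)[X] := ∑ l ∈ Finset.range k,
        C (((k.choose l : ℕ) : ZMod p) * (-1) ^ l * ∑ x : ZMod p, x ^ l * f x ^ (k - l)) * X ^ l
      have hev : ∀ c ∈ (Finset.univ \ S), P.eval c = 0 := by
        intro c hc
        rw [Finset.mem_sdiff] at hc
        have hinj : Function.Injective (fun x => f x - c * x) := by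
          intro x y hxy
          by_contra hne
          obtain ⟨a, ha, hfa⟩ := hslope x y hne
          have hac : (a - c) * (x - y) = 0 := by
            simp only at hxy
            linear_combination hxy - hfa
          exact hc.2 (sub_eq_zero.1 ((mul_eq_zero.1 hac).resolve_right (sub_ne_zero.2 hne)) ▸ ha)
        have hsum : ∑ x : ZMod p, (f x - c * x) ^ k = 0 := by
          rw [Fintype.sum_bijective _ (Finite.injective_iff_bijective.1 hinj) _ (fun y => y ^ k)
            (fun x => rfl)]
          exact FiniteField.sum_pow_lt_card_sub_one (ZMod p) k (by rw [ZMod.card]; omega)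
        rw [Finset.sum_congr rfl (fun x _ => show (f x - c * x) ^ k = _ by
          rw [sub_eq_add_neg, add_comm, add_pow]), Finset.sum_comm, Finset.sum_range_succ] at hsum
        have hlast : ∑ x : ZMod p, (-(c * x)) ^ k * f x ^ (k - k) * ((k.choose k : ℕ) : ZMod p) = 0 := by
          simp only [Nat.sub_self, pow_zero, mul_one, Nat.choose_self, Nat.cast_one, neg_pow (c * _),
            mul_pow, ← Finset.mul_sum]
          rw [FiniteField.sum_pow_lt_card_sub_one (ZMod p) k (by rw [ZMod.card]; omega)]
          ring
        rw [hlast, add_zero] at hsum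
        rw [← hsum]
        simp only [P, eval_finset_sum, eval_mul, eval_C, eval_pow, eval_X, Finset.mul_sum,
          Finset.sum_mul]
        refine Finset.sum_congr rfl fun l _ => Finset.sum_congr rfl fun x _ => ?_
        rw [neg_pow (c * x), mul_pow]
        ring
      have hdeg : P.natDegree ≤ k - 1 := by
        refine Polynomial.natDegree_sum_le_of_forall_le _ _ fun l hl => ?_
        refine (Polynomial.natDegree_C_mul_X_pow_le _ _).trans ?_
        have := Finset.mem_range.1 hl
        omega
      have hP0 : P = 0 := by
        refine Polynomial.eq_zero_of_natDegree_lt_card_of_eval_eq_zero' P (Finset.univ \ S) hev ?_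
        rw [Finset.card_sdiff, Finset.card_univ, ZMod.card]
        have hle : (S ∩ Finset.univ).card ≤ S.card := Finset.card_le_card Finset.inter_subset_left
        omega
      have hc := congrArg (fun Q => Polynomial.coeff Q i) hP0
      simp only [P, finset_sum_coeff, coeff_C_mul_X_pow, coeff_zero] at hc
      rw [Finset.sum_ite_eq, if_pos (Finset.mem_range.2 (by omega))] at hc
      have hne : ((k.choose i : ℕ) : ZMod p) * (-1) ^ i ≠ 0 := by
        refine mul_ne_zero ?_ (pow_ne_zero _ (neg_ne_zero.2 one_ne_zero))
        rw [Ne, CharP.cast_eq_zero_iff (ZMod p) p]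
        intro hd
        have hlt : k < p := by omega
        exact absurd ((Nat.Prime.dvd_factorial hp.out).1
          (hd.trans ((Dvd.intro _ (mul_assoc _ _ _).symm).trans
            (Nat.choose_mul_factorial_mul_factorial (show i ≤ k by omega)).dvd))) (by omega)
      have := (mul_eq_zero.1 hc).resolve_left hne
      rwa [show k - i = j by omega] at this
    -- interpolate
    classical
    set Q := Lagrange.interpolate (Finset.univ : Finset (ZMod p)) id f with hQ
    have hQev : ∀ x, Q.eval x = f x := fun x =>
      Lagrange.eval_interpolate_at_node f (Set.injOn_id _) (Finset.mem_univ x)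
    have hQdeg : Q.natDegree ≤ p - 1 := by
      by_cases h0 : Q = 0
      · simp [h0]
      · have h := Lagrange.degree_interpolate_lt (s := (Finset.univ : Finset (ZMod p))) f
          (Set.injOn_id _)
        rw [← hQ, Polynomial.degree_eq_natDegree h0, Finset.card_univ, ZMod.card] at h
        have h' : Q.natDegree < p := WithBot.coe_lt_coe.1 h
        omega
    have hcoeff : ∀ i, i + 1 ≤ M → Q.coeff (p - 1 - i) = 0 := by
      intro i hi
      have h := hmom i 1 le_rfl hi
      have h' := sum_eval_zmod (X ^ i * Q) (by
        refine lt_of_le_of_lt Polynomial.natDegree_mul_le ?_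
        rw [Polynomial.natDegree_X_pow]
        omega)
      simp only [eval_mul, eval_pow, eval_X, hQev] at h'
      simp only [pow_one] at h
      rw [h] at h'
      have h'' := Polynomial.coeff_X_pow_mul Q i (p - 1 - i)
      rw [Nat.sub_add_cancel (show i ≤ p - 1 by omega)] at h''
      rw [← h'']
      exact neg_eq_zero.1 h'.symm
    by_cases hd : Q.natDegree ≤ 1
    · refine ⟨Q.coeff 1, Q.coeff 0, fun x => ?_⟩
      rw [← hQev x, Polynomial.eval_eq_sum_range' (n := 2) (by omega) x]
      simp [Finset.sum_range_succ]
      ring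
    · exfalso
      set d := Q.natDegree with hdd
      have hQ0 : Q ≠ 0 := fun h0 => by simp [hdd, h0] at hd
      have hlead : Q.leadingCoeff ≠ 0 := Polynomial.leadingCoeff_ne_zero.2 hQ0
      have hdsmall : 2 * d + 1 ≤ p := by
        by_contra hcon
        exact hlead (by
          rw [Polynomial.leadingCoeff, ← hdd, show d = p - 1 - (p - 1 - d) by omega]
          exact hcoeff _ (by omega))
      set q := (p - 1) / d with hq
      set r := (p - 1) % d with hr
      have hqr : r + q * d = p - 1 := by rw [hq, hr, mul_comm]; exact Nat.mod_add_div _ _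
      have hrd : r < d := Nat.mod_lt _ (by omega)
      have hq2 : 2 ≤ q := (Nat.le_div_iff_mul_le (by omega)).2 (by omega)
      have hqd : q + d ≤ q * d / 2 + 2 := by
        have : 2 * (q + d) ≤ q * d + 4 := by nlinarith
        omega
      have h := hmom r q (by omega) (by omega)
      have hdegRQ : (X ^ r * Q ^ q).natDegree = p - 1 := by
        rw [Polynomial.natDegree_mul (pow_ne_zero _ X_ne_zero) (pow_ne_zero _ hQ0),
          Polynomial.natDegree_X_pow, Polynomial.natDegree_pow, ← hdd, hqr]
      have h' := sum_eval_zmod (X ^ r * Q ^ q) (by rw [hdegRQ]; omega)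
      simp only [eval_mul, eval_pow, eval_X, hQev] at h'
      rw [h, ← hdegRQ, Polynomial.coeff_natDegree, Polynomial.leadingCoeff_mul,
        Polynomial.leadingCoeff_pow, Polynomial.leadingCoeff_pow, Polynomial.leadingCoeff_X,
        one_pow, one_mul] at h'
      exact pow_ne_zero q hlead (neg_eq_zero.1 h'.symm)

end CfsgLib.Recog
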