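import Mathlib

/-!
Element orders in split extensions `M ⋊ G` with `M` abelian of exponent `p`,
and in `(Fin k → M) ⋊ G`.
-/

set_option autoImplicit false

namespace CfsgLib.Recog

variable {M G : Type*} [CommGroup M] [Group G] (φ : G →* MulAut M)

/-- The diagonal action on `k` copies of `M`. -/
def piAct (k : ℕ) : G →* MulAut (Fin k → M) where
  toFun g := MulEquiv.piCongrRight (fun _ => φ g)
  map_one' := by
    ext f i
    simp
  map_mul' g h := by
    ext f i
    simp

@[simp]
theorem piAct_apply (k : ℕ) (g : G) (f : Fin k → M) (i : Fin k) : piAct φ k g f i = φ g (f i) := rfl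

/-- The `i`-th projection `(Fin k → M) ⋊ G → M ⋊ G`. -/
def piProj (k : ℕ) (i : Fin k) : ((Fin k → M) ⋊[piAct φ k] G) →* (M ⋊[φ] G) :=
  SemidirectProduct.map (Pi.evalMonoidHom (fun _ => M) i) (MonoidHom.id G)
    (fun g => by ext f; rfl)

theorem piProj_left (k : ℕ) (i : Fin k) (x : (Fin k → M) ⋊[piAct φ k] G) :
    (piProj φ k i x).left = x.left i := rfl

theorem piProj_right (k : ℕ) (i : Fin k) (x : (Fin k → M) ⋊[piAct φ k] G) :
    (piProj φ k i x).right = x.right := rfl

theorem orderOf_right_dvd (x : M ⋊[φ] G) : orderOf x.right ∣ orderOf x :=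
  orderOf_map_dvd (SemidirectProduct.rightHom (φ := φ)) x

theorem pow_orderOf_right_right (x : M ⋊[φ] G) : (x ^ orderOf x.right).right = 1 := by
  have h : SemidirectProduct.rightHom (φ := φ) (x ^ orderOf x.right) = x.right ^ orderOf x.right :=
    map_pow _ _ _
  rw [pow_orderOf_eq_one] at h
  exact h

/-- The `M`-part of `x ^ orderOf x.right` is fixed by `x.right`. -/
theorem act_pow_orderOf_right (x : M ⋊[φ] G) :
    φ x.right (x ^ orderOf x.right).left = (x ^ orderOf x.right).left := by
  have hcomm : x * x ^ orderOf x.right = x ^ orderOf x.right * x :=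
    ((Commute.refl x).pow_right _).eq
  have h := congrArg SemidirectProduct.left hcomm
  rw [SemidirectProduct.mul_left, SemidirectProduct.mul_left, pow_orderOf_right_right, map_one,
    MulAut.one_apply, mul_comm (x ^ orderOf x.right).left x.left] at h
  exact mul_left_cancel h

/-- If `x.right` fixes only `1` in `M`, then `x` has the order of `x.right`. -/
theorem orderOf_eq_of_fixedPointFree (x : M ⋊[φ] G)
    (h : ∀ v : M, φ x.right v = v → v = 1) : orderOf x = orderOf x.right := by
  refine Nat.dvd_antisymm ?_ (orderOf_right_dvd φ x)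
  rw [orderOf_dvd_iff_pow_eq_one]
  exact SemidirectProduct.ext (h _ (act_pow_orderOf_right φ x)) (pow_orderOf_right_right φ x)

/-- Either `x` has the order of `x.right`, or `p` times it and then `x.right` fixes a
non-trivial element. -/
theorem orderOf_cases {p : ℕ} (hp : p.Prime) (hM : ∀ v : M, v ^ p = 1) (x : M ⋊[φ] G) :
    orderOf x = orderOf x.right ∨
      (orderOf x = p * orderOf x.right ∧ ∃ v : M, v ≠ 1 ∧ φ x.right v = v) := by
  by_cases h : ∀ v : M, φ x.right v = v → v = 1
  · exact Or.inl (orderOf_eq_of_fixedPointFree φ x h)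
  · push_neg at h
    obtain ⟨v, hv, hv1⟩ := h
    obtain ⟨c, hc⟩ := orderOf_right_dvd φ x
    have hy : x ^ orderOf x.right = SemidirectProduct.inl (x ^ orderOf x.right).left :=
      SemidirectProduct.ext (by simp) (by simpa using pow_orderOf_right_right φ x)
    have hyp : (x ^ orderOf x.right) ^ p = 1 := by
      rw [hy, ← map_pow, hM, map_one]
    rw [← pow_mul, ← orderOf_dvd_iff_pow_eq_one, hc] at hyp
    by_cases h0 : orderOf x.right = 0
    · exact Or.inl (by rw [hc, h0, zero_mul])
    have hcp : c ∣ p := (Nat.mul_dvd_mul_iff_left (Nat.pos_of_ne_zero h0)).1 hyp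
    rcases (Nat.dvd_prime hp).1 hcp with rfl | rfl
    · exact Or.inl (by simpa using hc)
    · exact Or.inr ⟨by rw [hc, mul_comm], v, hv1, hv⟩

/-- An element of order `p * orderOf x.right`, given a non-trivial norm. -/
theorem orderOf_eq_mul_of_left_ne_one {p : ℕ} (hp : p.Prime) (hM : ∀ v : M, v ^ p = 1)
    (x : M ⋊[φ] G) (h : (x ^ orderOf x.right).left ≠ 1) :
    orderOf x = p * orderOf x.right := by
  rcases orderOf_cases φ hp hM x with h' | h'
  · exfalso
    apply h
    rw [← h', pow_orderOf_eq_one]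
    rfl
  · exact h'.1

theorem range_orderOf_subset :
    Set.range (orderOf : G → ℕ) ⊆ Set.range (orderOf : M ⋊[φ] G → ℕ) := by
  rintro _ ⟨g, rfl⟩
  exact ⟨SemidirectProduct.inr g, orderOf_injective _ SemidirectProduct.inr_injective g⟩

/-- Taking copies of the module does not enlarge the spectrum: the order of an element of
`(Fin k → M) ⋊ G` is the order of its image in `G` or of one of its projections. -/
theorem orderOf_pi_cases {p : ℕ} (hp : p.Prime) (hM : ∀ v : M, v ^ p = 1) (k : ℕ)
    (x : (Fin k → M) ⋊[piAct φ k] G) :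
    orderOf x = orderOf x.right ∨ ∃ i : Fin k, orderOf x = orderOf (piProj φ k i x) := by
  rcases orderOf_cases (piAct φ k) hp (fun f => funext fun i => hM (f i)) x with h | ⟨h, -⟩
  · exact Or.inl h
  · refine (Classical.em _).imp id (fun hne => ?_)
    by_contra hall
    push_neg at hall
    apply hne
    have key : ∀ i : Fin k, orderOf (piProj φ k i x) = orderOf x.right := fun i =>
      (orderOf_cases φ hp hM (piProj φ k i x)).resolve_right
        (fun h' => hall i (by rw [h'.1, h, piProj_right]))
    refine Nat.dvd_antisymm ?_ (orderOf_right_dvd (piAct φ k) x)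
    rw [orderOf_dvd_iff_pow_eq_one]
    refine SemidirectProduct.ext (funext fun i => ?_) (pow_orderOf_right_right (piAct φ k) x)
    have h1 : piProj φ k i (x ^ orderOf x.right) = 1 := by
      rw [map_pow, ← key i, pow_orderOf_eq_one]
    have h2 := congrArg SemidirectProduct.left h1
    rw [piProj_left] at h2
    exact h2

theorem range_orderOf_pi_subset {p : ℕ} (hp : p.Prime) (hM : ∀ v : M, v ^ p = 1) (k : ℕ) :
    Set.range (orderOf : (Fin k → M) ⋊[piAct φ k] G → ℕ) ⊆
      Set.range (orderOf : M ⋊[φ] G → ℕ) := by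
  rintro _ ⟨x, rfl⟩
  rcases orderOf_pi_cases φ hp hM k x with h | ⟨i, hi⟩
  · rw [h]
    exact range_orderOf_subset φ ⟨x.right, rfl⟩
  · exact ⟨_, hi.symm⟩

/-- With at least one copy, the spectra of `(Fin k → M) ⋊ G` and `M ⋊ G` agree. -/
theorem range_orderOf_pi {p : ℕ} (hp : p.Prime) (hM : ∀ v : M, v ^ p = 1) {k : ℕ} (hk : 0 < k) :
    Set.range (orderOf : (Fin k → M) ⋊[piAct φ k] G → ℕ) =
      Set.range (orderOf : M ⋊[φ] G → ℕ) := by
  refine Set.Subset.antisymm (range_orderOf_pi_subset φ hp hM k) ?_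
  rintro _ ⟨x, rfl⟩
  let d : M ⋊[φ] G →* (Fin k → M) ⋊[piAct φ k] G :=
    SemidirectProduct.map (Pi.constMonoidHom (Fin k) M) (MonoidHom.id G) (fun g => by ext f i; rfl)
  have hd : ∀ y, piProj φ k ⟨0, hk⟩ (d y) = y := fun y => SemidirectProduct.ext rfl rfl
  exact ⟨d x, orderOf_injective d (Function.LeftInverse.injective hd) x⟩

end CfsgLib.Recog
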