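import Cfsg.Agent.Lib.Recog.PrimitiveSmallOrbit

/-!
Manning's theorem: in an extremely primitive group a point stabiliser is faithful on each of its
non-trivial orbits.
-/

set_option autoImplicit false
set_option maxHeartbeats 400000

open scoped Pointwise

namespace CfsgLib.Recog

variable {G Ω : Type*} [Group G] [Finite G] [MulAction G Ω]

theorem card_orbit_mul_card_inf (x y : Ω) :
    Nat.card (MulAction.orbit (MulAction.stabilizer G x) y) *
      Nat.card (MulAction.stabilizer G x ⊓ MulAction.stabilizer G y : Subgroup G) =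
      Nat.card (MulAction.stabilizer G x) := by
  rw [Nat.card_coe_set_eq, ← MulAction.index_stabilizer, mul_comm,
    show Nat.card (MulAction.stabilizer G x ⊓ MulAction.stabilizer G y : Subgroup G) =
      Nat.card (MulAction.stabilizer (MulAction.stabilizer G x) y) from
      Nat.card_congr ⟨fun a => ⟨⟨a, a.2.1⟩, a.2.2⟩, fun a => ⟨(a : MulAction.stabilizer G x),
        (a : MulAction.stabilizer G x).2, a.2⟩, fun _ => rfl, fun _ => rfl⟩]
  exact Subgroup.card_mul_index _

/-- A subgroup normal in `G_α` either fixes a `G_α`-orbit pointwise or is transitive on it. -/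
theorem fixed_or_transitive_on_orbit {α γ : Ω}
    (hep : MulAction.IsPreprimitive (MulAction.stabilizer G α)
      (MulAction.orbit (MulAction.stabilizer G α) γ))
    {K : Subgroup G} (hK : K ≤ MulAction.stabilizer G α)
    (hn : MulAction.stabilizer G α ≤ Subgroup.normalizer (K : Set G)) :
    (∀ x ∈ MulAction.orbit (MulAction.stabilizer G α) γ, ∀ k ∈ K, k • x = x) ∨
      ∀ x ∈ MulAction.orbit (MulAction.stabilizer G α) γ, ∃ k ∈ K, k • γ = x := by
  haveI := hep
  haveI : (K.subgroupOf (MulAction.stabilizer G α)).Normal :=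
    (Subgroup.normal_subgroupOf_iff_le_normalizer hK).2 hn
  by_cases hf : MulAction.fixedPoints (K.subgroupOf (MulAction.stabilizer G α))
      (MulAction.orbit (MulAction.stabilizer G α) γ) = Set.univ
  · refine Or.inl fun x hx k hk => ?_
    have h : (⟨x, hx⟩ : MulAction.orbit (MulAction.stabilizer G α) γ) ∈ MulAction.fixedPoints _ _ :=
      hf ▸ Set.mem_univ _
    exact congrArg Subtype.val (h ⟨⟨k, hK hk⟩, hk⟩)
  · refine Or.inr fun x hx => ?_
    haveI := MulAction.IsQuasiPreprimitive.isPretransitive_of_normal hf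
    obtain ⟨k, hk⟩ := MulAction.exists_smul_eq (K.subgroupOf (MulAction.stabilizer G α))
      (⟨γ, MulAction.mem_orbit_self γ⟩ : MulAction.orbit (MulAction.stabilizer G α) γ) ⟨x, hx⟩
    exact ⟨((k : MulAction.stabilizer G α) : G), k.2, congrArg Subtype.val hk⟩

variable [FaithfulSMul G Ω] [Finite Ω]

/-- Manning's theorem. -/
theorem eq_one_of_fixes_orbit [MulAction.IsPreprimitive G Ω]
    (hH : ∀ α : Ω, MulAction.stabilizer G α ≠ ⊥)
    (hep : ∀ α ω : Ω, MulAction.IsPreprimitive (MulAction.stabilizer G α)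
      (MulAction.orbit (MulAction.stabilizer G α) ω))
    {α ω : Ω} (hω : ω ≠ α) {u : G} (hu : u ∈ MulAction.stabilizer G α)
    (hfix : ∀ x ∈ MulAction.orbit (MulAction.stabilizer G α) ω, u • x = x) : u = 1 := by
  haveI : Nontrivial Ω := ⟨⟨ω, α, hω⟩⟩
  set H := MulAction.stabilizer G α with hHdef
  set O := MulAction.orbit H ω with hO
  set K : Subgroup G := H ⊓ fixingSubgroup G O with hK
  have hmemK : ∀ {x : G}, x ∈ K ↔ x • α = α ∧ ∀ y ∈ O, x • y = y := fun {x} => by
    rw [hK, Subgroup.mem_inf, mem_fixingSubgroup_iff]; rfl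
  have hωO : ω ∈ O := MulAction.mem_orbit_self ω
  have hHO : ∀ h ∈ H, ∀ y ∈ O, h • y ∈ O := fun h hh y hy =>
    MulAction.mem_orbit_of_mem_orbit (⟨h, hh⟩ : H) hy
  have hHK : H ≤ Subgroup.normalizer (K : Set G) := by
    have h1 : ∀ h ∈ H, ∀ x ∈ K, h * x * h⁻¹ ∈ K := fun h hh x hx => by
      obtain ⟨hx1, hx2⟩ := hmemK.1 hx
      refine hmemK.2 ⟨H.mul_mem (H.mul_mem hh hx1) (H.inv_mem hh), fun y hy => ?_⟩
      rw [← smul_smul, ← smul_smul, hx2 _ (hHO _ (H.inv_mem hh) y hy), smul_inv_smul]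
    intro h hh
    refine Subgroup.mem_normalizer_iff.2 fun x => ⟨h1 h hh x, fun hx => ?_⟩
    simpa [mul_assoc] using h1 _ (H.inv_mem hh) _ hx
  suffices hK1 : K = ⊥ by
    have hmem : u ∈ K := hmemK.2 ⟨hu, hfix⟩
    rwa [hK1, Subgroup.mem_bot] at hmem
  obtain ⟨g, hg⟩ := MulAction.exists_smul_eq G α ω
  by_cases hA : ∀ x ∈ K, ∀ y ∈ O, x • g • y = g • y
  · -- `g` normalises `K`
    have hle : K.map (MulAut.conj g⁻¹).toMonoidHom ≤ K := by
      rintro _ ⟨x, hx, rfl⟩
      change g⁻¹ * x * g⁻¹⁻¹ ∈ K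
      rw [inv_inv]
      refine hmemK.2 ⟨?_, fun y hy => ?_⟩
      · rw [← smul_smul, hg, ← smul_smul, (hmemK.1 hx).2 ω hωO, inv_smul_eq_iff, hg]
      · rw [← smul_smul, ← smul_smul, hA x hx y hy, inv_smul_smul]
    have he := Subgroup.eq_of_le_of_card_ge hle
      (Subgroup.card_map_of_injective (MulEquiv.injective _)).ge
    have hgN : g⁻¹ ∈ Subgroup.normalizer (K : Set G) := by
      refine Subgroup.mem_normalizer_iff.2 fun x => ?_
      conv_rhs => rw [← he]
      exact ⟨fun h => ⟨x, h, rfl⟩, fun ⟨z, hz, hze⟩ => (MulEquiv.injective (MulAut.conj g⁻¹) hze) ▸ hz⟩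
    exact eq_bot_of_le_normalizer (a := α) inf_le_left hHK (g := g) (by rw [hg]; exact hω)
      (by simpa using inv_mem hgN)
  · push_neg at hA
    obtain ⟨k₀, hk₀, o₀, ho₀, hmove⟩ := hA
    set γ := g • o₀ with hγ
    have hgO : ∀ x ∈ K, ∀ y ∈ O, ∃ y' ∈ O, x • g • y = g • y' := fun x hx y hy =>
      ⟨(g⁻¹ * x * g) • y, hHO _ (by
        rw [hHdef, MulAction.mem_stabilizer_iff, ← smul_smul, hg, ← smul_smul, (hmemK.1 hx).2 ω hωO,
          inv_smul_eq_iff, hg]) y hy,
        by rw [smul_smul, smul_smul]; congr 1; group⟩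
    have htrans := (fixed_or_transitive_on_orbit (hep α γ) inf_le_left hHK).resolve_left
      fun h => hmove (h γ (MulAction.mem_orbit_self γ) k₀ hk₀)
    obtain ⟨h₀, hh₀⟩ := ho₀
    change (h₀ : G) • ω = o₀ at hh₀
    set a₀ := g * (h₀ : G) with ha₀
    have ha1 : a₀ • α = ω := by rw [ha₀, ← smul_smul, h₀.2, hg]
    have ha2 : a₀ • ω = γ := by rw [ha₀, ← smul_smul, hh₀]
    have hsub : O ⊆ MulAction.orbit (MulAction.stabilizer G γ) ω := by
      rintro _ ⟨h, rfl⟩
      obtain ⟨k, hk, hkγ⟩ := htrans ((h : G)⁻¹ • γ) ⟨h⁻¹, rfl⟩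
      obtain ⟨o₁, ⟨h₁, rfl⟩, ho₁⟩ := hgO k hk o₀ ⟨h₀, hh₀⟩
      rw [← hγ, hkγ, inv_smul_eq_iff] at ho₁
      change γ = (h : G) • g • (h₁ : G) • ω at ho₁
      refine ⟨⟨(h : G) * g * h₁ * a₀⁻¹, ?_⟩, ?_⟩
      · rw [MulAction.mem_stabilizer_iff, ← smul_smul, ← smul_smul, ← smul_smul]
        conv_lhs => rw [show a₀⁻¹ • γ = ω by rw [inv_smul_eq_iff, ha2]]
        exact ho₁.symm
      · change ((h : G) * g * h₁ * a₀⁻¹) • ω = (h : G) • ω
        rw [← smul_smul, ← smul_smul, ← smul_smul, show a₀⁻¹ • ω = α by rw [inv_smul_eq_iff, ha1],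
          h₁.2, hg]
    have hcard : Nat.card (MulAction.orbit (MulAction.stabilizer G γ) ω) = Nat.card O := by
      have e1 := card_orbit_mul_card_inf (G := G) α ω
      have e2 := card_orbit_mul_card_inf (G := G) γ ω
      have hmap : (H ⊓ MulAction.stabilizer G ω).map (MulAut.conj a₀).toMonoidHom =
          MulAction.stabilizer G ω ⊓ MulAction.stabilizer G γ := by
        rw [Subgroup.map_inf _ _ _ (MulEquiv.injective _), hHdef,
          ← MulAction.stabilizer_smul_eq_stabilizer_map_conj, ha1,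
          ← MulAction.stabilizer_smul_eq_stabilizer_map_conj, ha2]
      rw [inf_comm (MulAction.stabilizer G γ), ← hmap,
        Subgroup.card_map_of_injective (MulEquiv.injective _), card_stabilizer_eq γ α, ← hHdef,
        ← e1] at e2
      exact Nat.eq_of_mul_eq_mul_right Nat.card_pos e2
    have hOeq : O = MulAction.orbit (MulAction.stabilizer G γ) ω :=
      Set.eq_of_subset_of_ncard_le hsub (by rw [← Nat.card_coe_set_eq, hcard, Nat.card_coe_set_eq])
        (Set.toFinite _)
    have hγα : γ ≠ α := fun h => hmove (by rw [h]; exact (hmemK.1 hk₀).1)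
    have hle : H ≤ MulAction.stabilizer G O := fun h hh => by
      rw [MulAction.mem_stabilizer_iff]
      exact MulAction.smul_orbit (⟨h, hh⟩ : H) ω
    have hleγ : MulAction.stabilizer G γ ≤ MulAction.stabilizer G O := fun h hh => by
      rw [MulAction.mem_stabilizer_iff, hOeq]
      exact MulAction.smul_orbit (⟨h, hh⟩ : MulAction.stabilizer G γ) ω
    have hne : H ≠ MulAction.stabilizer G O := fun he => hH α <|
      stabilizer_eq_bot_of_eq hγα.symm
        (Subgroup.eq_of_le_of_card_ge (hleγ.trans he.ge) (card_stabilizer_eq α γ).le).symm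
    have htop := (MulAction.IsPreprimitive.isCoatom_stabilizer_of_isPreprimitive G α).2 _
      (lt_of_le_of_ne hle hne)
    exfalso
    obtain ⟨b, hb⟩ := MulAction.exists_smul_eq G ω α
    have hαO : α ∈ O := by
      rw [← hb, ← show b • O = O from MulAction.mem_stabilizer_iff.1 (htop ▸ Subgroup.mem_top b)]
      exact Set.smul_mem_smul_set hωO
    obtain ⟨h, hh⟩ := hαO
    change (h : G) • ω = α at hh
    refine hω ?_
    rw [← smul_left_cancel_iff (h : G), hh, h.2]

end CfsgLib.Recog
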