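import Cfsg.Agent.Lib.Recog.SocleTypes
import Cfsg.Agent.Lib.Recog.ExtremelyPrimitive
import Cfsg.Agent.Lib.CNGroups.OddSolvable

/-!
An extremely primitive group has no diagonal socle stabiliser.
-/

set_option autoImplicit false
set_option maxHeartbeats 400000

namespace CfsgLib.Recog

open CfsgLib.Base

open scoped IsMulCommutative in
/-- A simple non-abelian group cannot have centralisers that are insensitive to powers and equal
to the normalisers of cyclic subgroups. -/
theorem false_of_power_centralizers {S : Type*} [Group S] [Finite S] [IsSimpleGroup S]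
    (hS : ¬ IsMulCommutative S)
    (hpow : ∀ (x : S) (j : ℕ), x ^ j ≠ 1 → ∀ t : S, Commute t (x ^ j) → Commute t x)
    (hnorm : ∀ (x t : S) (j : ℕ), t * x * t⁻¹ = x ^ j → Commute t x) : False := by
  classical
  have hns : ¬ Group.IsSolvable S := fun hs =>
    hS ⟨⟨IsSimpleGroup.comm_iff_isSolvable.2 hs⟩⟩
  rcases Nat.even_or_odd (Nat.card S) with he | ho
  · -- conjugate involutions commute
    haveI := Fact.mk Nat.prime_two
    obtain ⟨u, hu⟩ := exists_prime_orderOf_dvd_card' 2 he.two_dvd
    have hu2 : u * u = 1 := by rw [← sq, ← hu, pow_orderOf_eq_one]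
    have hcomm : ∀ g : S, Commute u (g * u * g⁻¹) := by
      intro g
      set v := g * u * g⁻¹ with hv
      have hv2 : v * v = 1 := by
        rw [hv, show g * u * g⁻¹ * (g * u * g⁻¹) = g * (u * u) * g⁻¹ by group, hu2, mul_one, mul_inv_cancel]
      have hinv : (u * v)⁻¹ = v * u := by
        rw [mul_inv_rev, inv_eq_of_mul_eq_one_right hu2, inv_eq_of_mul_eq_one_right hv2]
      have h1 := hnorm (u * v) u (orderOf (u * v) - 1) (by
        rw [pow_sub _ (orderOf_pos _), pow_orderOf_eq_one, one_mul, pow_one, hinv,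
          inv_eq_of_mul_eq_one_right hu2, ← mul_assoc u u v, hu2, one_mul])
      have h2 : v = u * v * u := by
        have := h1.eq
        rwa [← mul_assoc u u v, hu2, one_mul] at this
      change u * v = v * u
      calc u * v = u * (u * v * u) := by rw [← h2]
        _ = v * u := by rw [← mul_assoc, ← mul_assoc, hu2, one_mul]
    have hle : Subgroup.normalClosure {u} ≤ Subgroup.centralizer {u} := by
      refine (Subgroup.closure_le _).2 ?_
      intro w hw
      obtain ⟨u', hu', hc⟩ := Group.mem_conjugatesOfSet_iff.1 hw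
      obtain rfl := Set.mem_singleton_iff.1 hu'
      obtain ⟨g, rfl⟩ := isConj_iff.1 hc
      rw [SetLike.mem_coe, Subgroup.mem_centralizer_singleton_iff]
      exact (hcomm g).symm.eq
    rcases IsSimpleGroup.eq_bot_or_eq_top_of_normal _ (Subgroup.normalClosure_normal (s := {u})) with h | h
    · have : u ∈ Subgroup.normalClosure {u} := Subgroup.subset_normalClosure rfl
      rw [h, Subgroup.mem_bot] at this
      rw [this, orderOf_one] at hu
      norm_num at hu
    · rw [h, top_le_iff] at hle
      have huc : u ∈ Subgroup.center S := Subgroup.mem_center_iff.2 fun g =>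
        Subgroup.mem_centralizer_singleton_iff.1 (hle ▸ Subgroup.mem_top g)
      rcases IsSimpleGroup.eq_bot_or_eq_top_of_normal _ (inferInstance : (Subgroup.center S).Normal) with hc | hc
      · rw [hc, Subgroup.mem_bot] at huc
        rw [huc, orderOf_one] at hu
        norm_num at hu
      · exact hS ⟨⟨fun a b => (Subgroup.mem_center_iff.1 (hc ▸ Subgroup.mem_top b) a)⟩⟩
  · refine hns (CfsgLib.CNGroups.isSolvable_of_odd ho fun x hx => ?_)
    -- commuting elements of coprime order have the same centraliser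
    have hcop : ∀ u v : S, Commute u v → Nat.Coprime (orderOf u) (orderOf v) → u ≠ 1 → v ≠ 1 →
        ∀ t : S, Commute t u → Commute t v := by
      intro u v huv hc hu hv t ht
      obtain ⟨j, hj1, hj2⟩ := Nat.chineseRemainder hc 1 0
      have e : (u * v) ^ j = u := by
        rw [huv.mul_pow, (orderOf_dvd_iff_pow_eq_one.1 (Nat.modEq_zero_iff_dvd.1 hj2) : v ^ j = 1), mul_one]
        conv_rhs => rw [← pow_one u]
        rwa [pow_eq_pow_iff_modEq]
      have h1 := hpow (u * v) j (by rwa [e]) t (by rwa [e])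
      simpa using ht.inv_right.mul_right h1
    -- pass to an element of prime order
    obtain ⟨p, hp, hpd⟩ := Nat.exists_prime_and_dvd (fun h => hx (orderOf_eq_one_iff.1 h))
    haveI := Fact.mk hp
    set x' := x ^ (orderOf x / p) with hx'
    have hx'o : orderOf x' = p := orderOf_pow_orderOf_div (orderOf_pos x).ne' hpd
    have hx'1 : x' ≠ 1 := fun e => by rw [e, orderOf_one] at hx'o; exact hp.one_lt.ne hx'o
    have hsame : ∀ t, Commute t x' → Commute t x := hpow x _ hx'1
    have hmem : ∀ t, t ∈ Subgroup.centralizer ({x} : Set S) ↔ Commute t x := fun t =>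
      Subgroup.mem_centralizer_singleton_iff
    by_cases hpg : IsPGroup p (Subgroup.centralizer ({x} : Set S))
    · exact hpg.isNilpotent
    -- otherwise the centraliser is abelian
    obtain ⟨y, hy, q, hq, hqp, hyo⟩ : ∃ y, Commute y x ∧ ∃ q : ℕ, q.Prime ∧ q ≠ p ∧ orderOf y = q := by
      by_contra hc
      push_neg at hc
      refine hpg (IsPGroup.iff_card.2 ⟨_, Nat.eq_prime_pow_of_unique_prime_dvd Nat.card_pos.ne' fun {q} hq hqd => ?_⟩)
      haveI := Fact.mk hq
      obtain ⟨y, hy⟩ := exists_prime_orderOf_dvd_card' q hqd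
      by_contra hqp
      exact hc y ((hmem _).1 y.2) q hq hqp (by rw [Subgroup.orderOf_coe, hy])
    have hy1 : y ≠ 1 := fun e => by rw [e, orderOf_one] at hyo; exact hq.one_lt.ne hyo
    have hall : ∀ z, Commute z x → ∀ t, Commute t x → Commute t z := by
      intro z hz t ht
      rcases eq_or_ne z 1 with rfl | hz1
      · exact Commute.one_right t
      obtain ⟨r, hr, hrd⟩ := Nat.exists_prime_and_dvd (fun h => hz1 (orderOf_eq_one_iff.1 h))
      set z' := z ^ (orderOf z / r) with hz'
      have hz'o : orderOf z' = r := orderOf_pow_orderOf_div (orderOf_pos z).ne' hrd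
      have hz'1 : z' ≠ 1 := fun e => by rw [e, orderOf_one] at hz'o; exact hr.one_lt.ne hz'o
      refine hpow z _ hz'1 t ?_
      have htx' : Commute t x' := ht.pow_right _
      by_cases hrp : r = p
      · have hty : Commute t y := hcop x' y (hy.symm.pow_left _) (by
          rw [hx'o, hyo]; exact (Nat.coprime_primes hp hq).2 (Ne.symm hqp)) hx'1 hy1 t htx'
        have hzx' : Commute z x' := hz.pow_right _
        have hzy : Commute z y := hcop x' y (hy.symm.pow_left _) (by
          rw [hx'o, hyo]; exact (Nat.coprime_primes hp hq).2 (Ne.symm hqp)) hx'1 hy1 z hzx'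
        exact hcop y z' (hzy.symm.pow_right _) (by
          rw [hyo, hz'o, hrp]; exact (Nat.coprime_primes hq hp).2 hqp) hy1 hz'1 t hty
      · exact hcop x' z' ((hz.symm.pow_left _).pow_right _) (by
          rw [hx'o, hz'o]; exact (Nat.coprime_primes hp hr).2 (Ne.symm hrp)) hx'1 hz'1 t htx'
    haveI : IsMulCommutative (Subgroup.centralizer ({x} : Set S)) :=
      ⟨⟨fun a b => Subtype.ext (hall b ((hmem _).1 b.2) a ((hmem _).1 a.2)).eq⟩⟩
    infer_instance

variable {G Ω : Type*} [Group G] [Finite G] [MulAction G Ω]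

/-- In an extremely primitive group the subgroups between a two-point stabiliser and the point
stabiliser are trivial. -/
theorem eq_or_eq_of_between {a b : Ω}
    (hep : MulAction.IsPreprimitive (MulAction.stabilizer G a) (MulAction.orbit (MulAction.stabilizer G a) b))
    (hmove : ∃ g ∈ MulAction.stabilizer G a, g • b ≠ b) {B : Subgroup G}
    (h1 : MulAction.stabilizer G a ⊓ MulAction.stabilizer G b ≤ B) (h2 : B ≤ MulAction.stabilizer G a) :
    B = MulAction.stabilizer G a ⊓ MulAction.stabilizer G b ∨ B = MulAction.stabilizer G a := by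
  obtain ⟨g, hg, hgb⟩ := hmove
  haveI : Nontrivial (MulAction.orbit (MulAction.stabilizer G a) b) :=
    ⟨⟨⟨g • b, ⟨⟨g, hg⟩, rfl⟩⟩, ⟨b, MulAction.mem_orbit_self b⟩, fun e => hgb (congrArg Subtype.val e)⟩⟩
  haveI := hep
  have hco := MulAction.IsPreprimitive.isCoatom_stabilizer_of_isPreprimitive
    (G := MulAction.stabilizer G a) (⟨b, MulAction.mem_orbit_self b⟩ : MulAction.orbit (MulAction.stabilizer G a) b)
  have hst : ∀ k : MulAction.stabilizer G a,
      k ∈ MulAction.stabilizer (MulAction.stabilizer G a)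
        (⟨b, MulAction.mem_orbit_self b⟩ : MulAction.orbit (MulAction.stabilizer G a) b) ↔ (k : G) • b = b :=
    fun k => ⟨fun h => congrArg Subtype.val h, fun h => Subtype.ext h⟩
  rcases hco.le_iff.1 (show _ ≤ B.subgroupOf (MulAction.stabilizer G a) from fun k hk =>
    Subgroup.mem_subgroupOf.2 (h1 (Subgroup.mem_inf.2 ⟨k.2, (hst k).1 hk⟩))) with h | h
  · exact Or.inr (le_antisymm h2 (Subgroup.subgroupOf_eq_top.1 h))
  · refine Or.inl (le_antisymm (fun k hk => Subgroup.mem_inf.2 ⟨h2 hk, ?_⟩) h1)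
    have : (⟨k, h2 hk⟩ : MulAction.stabilizer G a) ∈ B.subgroupOf (MulAction.stabilizer G a) :=
      Subgroup.mem_subgroupOf.2 hk
    exact (hst _).1 (h ▸ this)

variable [FaithfulSMul G Ω] [MulAction.IsPreprimitive G Ω]

omit [FaithfulSMul G Ω] [MulAction.IsPreprimitive G Ω] in
/-- No socle factor is met trivially while all its inner automorphisms are induced by the
point stabiliser. -/
theorem false_of_diagonal {N T : Subgroup G} (h : IsSocleFactor N T) (a : Ω)
    (hep : ∀ b : Ω, MulAction.IsPreprimitive (MulAction.stabilizer G a) (MulAction.orbit (MulAction.stabilizer G a) b))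
    (hT : ∀ x ∈ T, x • a = a → x = 1)
    (hd : ∀ t ∈ T, ∃ d : G, d • a = a ∧ ∀ y ∈ T, d * y * d⁻¹ = t * y * t⁻¹) : False := by
  classical
  haveI := h.isSimpleGroup
  set A := MulAction.stabilizer G a with hA
  set S : G → Subgroup G := fun x => A ⊓ MulAction.stabilizer G (x • a) with hS
  have hmemS : ∀ {x g : G}, g ∈ S x ↔ g • a = a ∧ g • x • a = x • a := fun {x g} => Subgroup.mem_inf
  have hsmul : ∀ {d : G}, d • a = a → ∀ y : G, d • y • a = (d * y * d⁻¹) • a := fun {d} hd y => by
    rw [mul_smul, mul_smul, show d⁻¹ • a = a by rw [inv_smul_eq_iff, hd]]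
  have hinj : ∀ u ∈ T, ∀ v ∈ T, u • a = v • a → u = v := fun u hu v hv e =>
    inv_mul_eq_one.1 (hT _ (mul_mem (inv_mem hu) hv) (by rw [mul_smul, ← e, inv_smul_smul]))
  have hdmem : ∀ {x t d : G}, x ∈ T → t ∈ T → d • a = a → (∀ y ∈ T, d * y * d⁻¹ = t * y * t⁻¹) →
      (d ∈ S x ↔ Commute t x) := by
    intro x t d hx ht hda hdt
    rw [hmemS, hsmul hda, hdt x hx]
    refine ⟨fun e => ?_, fun e => ⟨hda, by rw [e.eq, mul_inv_cancel_right]⟩⟩
    exact mul_inv_eq_iff_eq_mul.1 (hinj _ (mul_mem (mul_mem ht hx) (inv_mem ht)) _ hx e.2)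
  -- powers
  have hSpow : ∀ x ∈ T, ∀ j : ℕ, S x ≤ S (x ^ j) := by
    intro x hx j g hg
    obtain ⟨hga, hgx⟩ := hmemS.1 hg
    refine hmemS.2 ⟨hga, ?_⟩
    rw [hsmul hga] at hgx ⊢
    rw [← conj_pow]
    have hy : g * x * g⁻¹ ∈ conjSub g T := conj_mem_conjSub hx
    by_cases e : conjSub g T = T
    · rw [hinj _ (e ▸ hy) x hx hgx]
    · have hc : Commute x (g * x * g⁻¹) :=
        (Subgroup.mem_centralizer_iff.1 (h.le_centralizer_of_ne (Ne.symm e) hx) _ hy).symm
      have hfix : (x⁻¹ * (g * x * g⁻¹)) ^ j ∈ A := by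
        refine pow_mem ?_ j
        change (x⁻¹ * (g * x * g⁻¹)) • a = a
        rw [mul_smul, hgx, inv_smul_smul]
      rw [(Commute.inv_left hc).mul_pow, inv_pow] at hfix
      change ((x ^ j)⁻¹ * (g * x * g⁻¹) ^ j) • a = a at hfix
      rwa [mul_smul, inv_smul_eq_iff] at hfix
  -- non-central elements are moved
  have hne : ∀ x ∈ T, x ≠ 1 → ∃ g ∈ A, g • x • a ≠ x • a := by
    intro x hx hx1
    by_contra hc
    push_neg at hc
    refine hx1 (h.eq_one_of_centralizer hx ?_)
    rw [Subgroup.mem_centralizer_iff]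
    intro t ht
    obtain ⟨d, hda, hdt⟩ := hd t ht
    exact ((hdmem hx ht hda hdt).1 (hmemS.2 ⟨hda, hc d hda⟩)).eq
  have hSeq : ∀ x ∈ T, ∀ j : ℕ, x ^ j ≠ 1 → S (x ^ j) = S x := by
    intro x hx j hj
    have hx1 : x ≠ 1 := fun e => hj (by rw [e, one_pow])
    rcases eq_or_eq_of_between (hep (x • a)) (hne x hx hx1) (hSpow x hx j) inf_le_left with e | e
    · exact e
    · exfalso
      obtain ⟨g, hg, hgx⟩ := hne _ (pow_mem hx j) hj
      exact hgx (hmemS.1 (show g ∈ S (x ^ j) by rw [e]; exact hg)).2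
  refine false_of_power_centralizers (S := T) h.not_comm ?_ ?_
  · intro x j hj t ht
    obtain ⟨d, hda, hdt⟩ := hd t t.2
    have hj' : (x : G) ^ j ≠ 1 := fun e => hj (Subtype.ext (by simpa using e))
    have h1 : (t : G) * (x : G) ^ j = (x : G) ^ j * t := by simpa using congrArg Subtype.val ht.eq
    have h2 := (hdmem (pow_mem x.2 j) t.2 hda hdt).2 h1
    rw [hSeq _ x.2 j hj'] at h2
    exact Subtype.ext ((hdmem x.2 t.2 hda hdt).1 h2).eq
  · intro x t j hxt
    rcases eq_or_ne x 1 with rfl | hx1
    · exact Commute.one_right t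
    have hx1' : (x : G) ≠ 1 := fun e => hx1 (Subtype.ext e)
    have hxt' : (t : G) * x * (t : G)⁻¹ = (x : G) ^ j := by simpa using congrArg Subtype.val hxt
    have hj : (x : G) ^ j ≠ 1 := by rw [← hxt']; simpa using hx1'
    have hconjS : ∀ {d : G}, d • a = a → ∀ y g : G, g ∈ S y ↔ d * g * d⁻¹ ∈ S (d * y * d⁻¹) := by
      intro d hda y g
      have hda' : d⁻¹ • a = a := by rw [inv_smul_eq_iff, hda]
      rw [hmemS, hmemS, ← hsmul hda]
      simp only [mul_smul, inv_smul_smul, hda', smul_left_cancel_iff]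
      constructor
      · rintro ⟨h1, h2⟩; exact ⟨by rw [h1, hda], h2⟩
      · rintro ⟨h1, h2⟩; exact ⟨smul_left_cancel d (by rw [h1, hda]), h2⟩
    obtain ⟨d, hda, hdt⟩ := hd t t.2
    have hdN : d ∈ Subgroup.normalizer (S x : Set G) := by
      rw [Subgroup.mem_normalizer_iff]
      intro g
      rw [hconjS hda x g, hdt x x.2, hxt', hSeq _ x.2 j hj]
    rcases eq_or_eq_of_between (hep ((x : G) • a)) (hne x x.2 hx1')
      (show S x ≤ A ⊓ Subgroup.normalizer (S x : Set G) from le_inf inf_le_left Subgroup.le_normalizer)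
      inf_le_left with e | e
    · have hdS : d ∈ S x := by
        have h0 : d ∈ A ⊓ Subgroup.normalizer (S x : Set G) := Subgroup.mem_inf.2 ⟨hda, hdN⟩
        rw [e] at h0
        exact h0
      exact Subtype.ext ((hdmem x.2 t.2 hda hdt).1 hdS).eq
    · -- then the conjugates of `x` commute
      exfalso
      have hnorm : A ≤ Subgroup.normalizer (S x : Set G) := fun g hg =>
        (Subgroup.mem_inf.1 (show g ∈ A ⊓ Subgroup.normalizer (S x : Set G) by rw [e]; exact hg)).2
      have hcomm : ∀ u : T, Commute (x : G) ((u : G) * x * (u : G)⁻¹) := by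
        intro u
        obtain ⟨d', hda', hdu⟩ := hd u u.2
        obtain ⟨d₀, hd₀a, hd₀⟩ := hd x x.2
        have hd₀S : d₀ ∈ S x := (hdmem x.2 x.2 hd₀a hd₀).2 (Commute.refl _)
        have h1 : d'⁻¹ * d₀ * d' ∈ S x := by
          have := (Subgroup.mem_normalizer_iff.1 (hnorm (inv_mem (show d' ∈ A from hda'))) d₀).1 hd₀S
          simpa using this
        rw [hconjS hda' x _, hdu x x.2, show d' * (d'⁻¹ * d₀ * d') * d'⁻¹ = d₀ by group] at h1
        exact (hdmem (mul_mem (mul_mem u.2 x.2) (inv_mem u.2)) x.2 hd₀a hd₀).1 h1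
      have hle : Subgroup.normalClosure ({x} : Set T) ≤ Subgroup.centralizer {x} := by
        refine (Subgroup.closure_le _).2 ?_
        intro w hw
        obtain ⟨x', hx', hc⟩ := Group.mem_conjugatesOfSet_iff.1 hw
        obtain rfl := Set.mem_singleton_iff.1 hx'
        obtain ⟨u, rfl⟩ := isConj_iff.1 hc
        rw [SetLike.mem_coe, Subgroup.mem_centralizer_singleton_iff]
        exact Subtype.ext (hcomm u).symm.eq
      rcases IsSimpleGroup.eq_bot_or_eq_top_of_normal _ (Subgroup.normalClosure_normal (s := ({x} : Set T))) with h' | h'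
      · exact hx1 (Subgroup.mem_bot.1 (h' ▸ Subgroup.subset_normalClosure (Set.mem_singleton x)))
      · rw [h', top_le_iff] at hle
        refine hx1' (h.eq_one_of_centralizer x.2 (Subgroup.mem_centralizer_iff.2 fun y hy => ?_))
        have h0 : (⟨y, hy⟩ : T) ∈ Subgroup.centralizer ({x} : Set T) := by rw [hle]; exact Subgroup.mem_top _
        have h1 : (⟨y, hy⟩ : T) * x = x * ⟨y, hy⟩ := Subgroup.mem_centralizer_singleton_iff.1 h0
        exact congrArg Subtype.val h1

end CfsgLib.Recog
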