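import Mathlib
import Cfsg.Prelude.Def_Sz
import Cfsg.Agent.Lib.Recog.ProjSpectrum
import Cfsg.Agent.Lib.Chars.Burnside
import Cfsg.Agent.Lib.Classical.Order
import Cfsg.Agent.Lib.Small.Order60
import Cfsg.Agent.Lib.Small.Order360
import Cfsg.Agent.Lib.KnownA.Suzuki.Basic

/-!
Simple groups with at most five classes of elements under the automorphism group: element orders.
-/

set_option autoImplicit false

namespace CfsgLib.Recog.FiveOrbits

universe u

variable {G : Type u} [Group G] [Finite G]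

/-- The element orders are images of the orbits of the automorphism group. -/
theorem not_six_orders (h5 : Nat.card (MulAction.orbitRel.Quotient (MulAut G) G) ≤ 5)
    (s : Finset ℕ) (hs : ∀ n ∈ s, ∃ g : G, orderOf g = n) : s.card ≤ 5 := by
  classical
  have hf : ∀ a b : G, MulAction.orbitRel (MulAut G) G a b → orderOf a = orderOf b := by
    intro a b hab
    obtain ⟨φ, rfl⟩ := hab
    exact MulEquiv.orderOf_eq φ b
  let f : MulAction.orbitRel.Quotient (MulAut G) G → ℕ := Quotient.lift orderOf hf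
  have hsub : (s : Set ℕ) ⊆ Set.range f := by
    intro n hn
    obtain ⟨g, rfl⟩ := hs n hn
    exact ⟨Quotient.mk _ g, rfl⟩
  have h1 := Set.ncard_le_ncard hsub (Set.finite_range f)
  rw [Set.ncard_coe_finset] at h1
  refine h1.trans (le_trans ?_ h5)
  rw [← Nat.card_coe_set_eq]
  exact Finite.card_range_le f

theorem six_orders_false (h5 : Nat.card (MulAction.orbitRel.Quotient (MulAut G) G) ≤ 5)
    (a b c d e : ℕ) (hd : [1, a, b, c, d, e].Nodup)
    (ha : ∃ g : G, orderOf g = a) (hb : ∃ g : G, orderOf g = b) (hc : ∃ g : G, orderOf g = c)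
    (hd' : ∃ g : G, orderOf g = d) (he : ∃ g : G, orderOf g = e) : False := by
  have h := not_six_orders h5 [1, a, b, c, d, e].toFinset (by
    intro n hn
    simp only [List.toFinset_cons, List.toFinset_nil, Finset.mem_insert, Finset.notMem_empty,
      or_false] at hn
    rcases hn with rfl | rfl | rfl | rfl | rfl | rfl
    exacts [⟨1, orderOf_one⟩, ha, hb, hc, hd', he])
  rw [List.toFinset_card_of_nodup hd] at h
  norm_num at h

/-- At most one composite element order. -/
theorem composite_subsingleton [IsSimpleGroup G] (hG : ¬ IsMulCommutative G)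
    (h5 : Nat.card (MulAction.orbitRel.Quotient (MulAut G) G) ≤ 5) :
    {n : ℕ | n ∈ Set.range (orderOf : G → ℕ) ∧ 1 < n ∧ ¬ n.Prime}.Subsingleton := by
  classical
  intro a ha b hb
  by_contra hne
  have h3 := CfsgLib.Chars.three_le_card_primeFactors_of_simple (G := G) fun h => hG ⟨⟨h⟩⟩
  have hdis : Disjoint (insert 1 (Nat.card G).primeFactors) ({a, b} : Finset ℕ) := by
    rw [Finset.disjoint_left]
    intro n hn hn'
    simp only [Finset.mem_insert, Finset.mem_singleton] at hn hn'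
    rcases hn with hn | hn
    · rcases hn' with rfl | rfl
      · have := ha.2.1; omega
      · have := hb.2.1; omega
    · rcases hn' with rfl | rfl
      · exact ha.2.2 (Nat.prime_of_mem_primeFactors hn)
      · exact hb.2.2 (Nat.prime_of_mem_primeFactors hn)
  have h := not_six_orders h5 (insert 1 (Nat.card G).primeFactors ∪ {a, b}) (by
    intro n hn
    simp only [Finset.mem_union, Finset.mem_insert, Finset.mem_singleton] at hn
    rcases hn with (rfl | hn) | rfl | rfl
    · exact ⟨1, orderOf_one⟩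
    · have := Fact.mk (Nat.prime_of_mem_primeFactors hn)
      exact exists_prime_orderOf_dvd_card' n (Nat.dvd_of_mem_primeFactors hn)
    · exact ha.1
    · exact hb.1)
  rw [Finset.card_union_of_disjoint hdis, Finset.card_pair hne, Finset.card_insert_of_notMem
    (fun h1 => Nat.not_prime_one (Nat.prime_of_mem_primeFactors h1))] at h
  omega

omit [Finite G] in
theorem orders_congr {H : Type*} [Group H] (e : G ≃* H) {n : ℕ} (h : ∃ x : H, orderOf x = n) :
    ∃ g : G, orderOf g = n := by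
  obtain ⟨x, rfl⟩ := h
  exact ⟨e.symm x, MulEquiv.orderOf_eq e.symm x⟩

/-! ### `PSL₂` -/

variable {F : Type} [Field F] [Fintype F]

theorem exists_char {p k : ℕ} (hp : p.Prime) (hk : k ≠ 0) (hF : Fintype.card F = p ^ k) :
    CharP F p := by
  obtain ⟨q, hq⟩ := CharP.exists F
  obtain ⟨n, hqp, hn⟩ := FiniteField.card F q
  rw [hF] at hn
  have h : p ∣ q ^ (n : ℕ) := hn ▸ dvd_pow_self p hk
  have := (Nat.prime_dvd_prime_iff_eq hp hqp).1 (hp.dvd_of_dvd_pow h)
  subst this
  exact hq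

theorem psl_orders {p k n : ℕ} (hp : p.Prime) (hk : k ≠ 0) (hF : Fintype.card F = p ^ k)
    (h : n = p ∨ n ∣ (Fintype.card F - 1) / dTwo F ∨ n ∣ (Fintype.card F + 1) / dTwo F) :
    ∃ g : Matrix.ProjectiveSpecialLinearGroup (Fin 2) F, orderOf g = n := by
  have := exists_char hp hk hF
  have := Fact.mk hp
  have h' : n ∈ Set.range (orderOf : Matrix.ProjectiveSpecialLinearGroup (Fin 2) F → ℕ) := by
    rw [range_orderOf_PSL_two p]
    exact h
  exact h'

omit [Field F] in
theorem dTwo_eq_two (h : ¬ Even (Fintype.card F)) : dTwo F = 2 := if_neg h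

omit [Field F] in
theorem dTwo_eq_one (h : Even (Fintype.card F)) : dTwo F = 1 := if_pos h

theorem psl_two_cases [IsSimpleGroup G]
    (h5 : Nat.card (MulAction.orbitRel.Quotient (MulAut G) G) ≤ 5)
    (e : G ≃* Matrix.ProjectiveSpecialLinearGroup (Fin 2) F)
    (hq : Fintype.card F = 5 ∨ Fintype.card F = 7 ∨ Fintype.card F = 8 ∨ Fintype.card F = 9 ∨
      Fintype.card F = 11 ∨ Fintype.card F = 13 ∨ Fintype.card F = 16) :
    Nonempty (G ≃* ↥(alternatingGroup (Fin 5))) ∨ Nonempty (G ≃* ↥(alternatingGroup (Fin 6))) ∨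
      Fintype.card F = 7 ∨ Fintype.card F = 8 := by
  have hcard := (Nat.card_congr e.toEquiv).trans
    (CfsgLib.Classical.card_PSL_two (F := F))
  rw [Nat.card_eq_fintype_card (α := F)] at hcard
  rcases hq with hq | hq | hq | hq | hq | hq | hq
  · exact Or.inl (CfsgLib.Small.equiv_alternating_five (by rw [hcard, hq]; norm_num))
  · exact Or.inr (Or.inr (Or.inl hq))
  · exact Or.inr (Or.inr (Or.inr hq))
  · exact Or.inr (Or.inl (CfsgLib.Small.equiv_alternating_six (by rw [hcard, hq]; norm_num)))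
  · have hd : dTwo F = 2 := dTwo_eq_two (by rw [hq]; decide)
    have ho := fun n (hn : n = 11 ∨ n ∣ (Fintype.card F - 1) / dTwo F ∨
        n ∣ (Fintype.card F + 1) / dTwo F) =>
      orders_congr e (psl_orders (p := 11) (k := 1) (by norm_num) one_ne_zero (by rw [hq]; norm_num) hn)
    rw [hq, hd] at ho
    exact (six_orders_false h5 2 3 5 6 11 (by decide) (ho 2 (by norm_num)) (ho 3 (by norm_num))
      (ho 5 (by norm_num)) (ho 6 (by norm_num)) (ho 11 (by norm_num))).elim
  · have hd : dTwo F = 2 := dTwo_eq_two (by rw [hq]; decide)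
    have ho := fun n (hn : n = 13 ∨ n ∣ (Fintype.card F - 1) / dTwo F ∨
        n ∣ (Fintype.card F + 1) / dTwo F) =>
      orders_congr e (psl_orders (p := 13) (k := 1) (by norm_num) one_ne_zero (by rw [hq]; norm_num) hn)
    rw [hq, hd] at ho
    exact (six_orders_false h5 2 3 6 7 13 (by decide) (ho 2 (by norm_num)) (ho 3 (by norm_num))
      (ho 6 (by norm_num)) (ho 7 (by norm_num)) (ho 13 (by norm_num))).elim
  · have hd : dTwo F = 1 := dTwo_eq_one (by rw [hq]; decide)
    have ho := fun n (hn : n = 2 ∨ n ∣ (Fintype.card F - 1) / dTwo F ∨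
        n ∣ (Fintype.card F + 1) / dTwo F) =>
      orders_congr e (psl_orders (p := 2) (k := 4) (by norm_num) (by norm_num)
        (by rw [hq]; norm_num) hn)
    rw [hq, hd] at ho
    exact (six_orders_false h5 2 3 5 15 17 (by decide) (ho 2 (by norm_num)) (ho 3 (by norm_num))
      (ho 5 (by norm_num)) (ho 15 (by norm_num)) (ho 17 (by norm_num))).elim

theorem psl_two_three_pow (h5 : Nat.card (MulAction.orbitRel.Quotient (MulAut G) G) ≤ 5)
    (e : G ≃* Matrix.ProjectiveSpecialLinearGroup (Fin 2) F) {n r s : ℕ} (hr : r.Prime)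
    (hs : s.Prime) (h1 : 3 ^ n - 1 = 2 * r) (h2 : 3 ^ n + 1 = 4 * s)
    (hF : Fintype.card F = 3 ^ n) : False := by
  have hn : n ≠ 0 := by
    rintro rfl
    have := hr.two_le
    norm_num at h1
    omega
  have h3 : 3 ∣ 3 ^ n := dvd_pow_self 3 hn
  have hd : dTwo F = 2 := dTwo_eq_two (by
    rw [hF, Nat.not_even_iff_odd]
    exact Odd.pow (by decide))
  have hm : (Fintype.card F - 1) / dTwo F = r := by rw [hF, hd, h1]; omega
  have hp : (Fintype.card F + 1) / dTwo F = 2 * s := by rw [hF, hd, h2]; omega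
  have ho := fun m hm' => orders_congr e (psl_orders (n := m) Nat.prime_three hn hF hm')
  rw [hm, hp] at ho
  have hr2 := hr.two_le
  have hs2 := hs.two_le
  generalize 3 ^ n = q at h1 h2 h3
  refine six_orders_false h5 2 3 r s (2 * s) ?_ (ho 2 (by right; right; exact dvd_mul_right 2 s))
    (ho 3 (Or.inl rfl)) (ho r (Or.inr (Or.inl dvd_rfl)))
    (ho s (Or.inr (Or.inr (dvd_mul_left s 2)))) (ho (2 * s) (Or.inr (Or.inr dvd_rfl)))
  simp only [List.nodup_cons, List.mem_cons, List.not_mem_nil, or_false, not_or,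
    List.nodup_nil, and_true, not_false_eq_true]
  refine ⟨⟨?_, ?_, ?_, ?_, ?_⟩, ⟨?_, ?_, ?_, ?_⟩, ⟨?_, ?_, ?_⟩, ⟨?_, ?_⟩, ?_⟩ <;> omega

theorem psl_two_two_pow (h5 : Nat.card (MulAction.orbitRel.Quotient (MulAut G) G) ≤ 5)
    (e : G ≃* Matrix.ProjectiveSpecialLinearGroup (Fin 2) F) {n r : ℕ}
    (hM : (2 ^ n - 1).Prime) (hr : r.Prime) (h : 2 ^ n + 1 = 3 * r)
    (hF : Fintype.card F = 2 ^ n) : Fintype.card F = 8 := by
  by_contra h8
  have hn : n ≠ 0 := by
    rintro rfl
    norm_num [Nat.not_prime_zero] at hM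
  have h2 : 2 ∣ 2 ^ n := dvd_pow_self 2 hn
  have hd : dTwo F = 1 := dTwo_eq_one (by
    rw [hF]
    exact even_iff_two_dvd.2 h2)
  have ho := fun m hm' => orders_congr e (psl_orders (n := m) Nat.prime_two hn hF hm')
  rw [hd, Nat.div_one, Nat.div_one, hF, h] at ho
  have hr2 := hr.two_le
  have hM2 := hM.two_le
  rw [hF] at h8
  generalize 2 ^ n = q at h h2 h8 hM2 ho
  refine six_orders_false h5 2 3 (q - 1) r (3 * r) ?_ (ho 2 (Or.inl rfl))
    (ho 3 (Or.inr (Or.inr (dvd_mul_right 3 r)))) (ho (q - 1) (Or.inr (Or.inl dvd_rfl)))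
    (ho r (Or.inr (Or.inr (dvd_mul_left r 3)))) (ho (3 * r) (Or.inr (Or.inr dvd_rfl)))
  simp only [List.nodup_cons, List.mem_cons, List.not_mem_nil, or_false, not_or,
    List.nodup_nil, and_true, not_false_eq_true]
  refine ⟨⟨?_, ?_, ?_, ?_, ?_⟩, ⟨?_, ?_, ?_, ?_⟩, ⟨?_, ?_, ?_⟩, ⟨?_, ?_⟩, ?_⟩ <;> omega

/-! ### `PSL₃(4)` and `Sz(8)` -/

theorem card_psl_three (hF : Fintype.card F = 4) :
    Nat.card (Matrix.ProjectiveSpecialLinearGroup (Fin 3) F) = 20160 := by
  rw [CfsgLib.Classical.card_PSL_fin 3 (by norm_num), CfsgLib.Classical.card_SL_fin',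
    Nat.card_eq_fintype_card, hF]
  norm_num [Finset.prod_range_succ]

theorem psl_three_four (h5 : Nat.card (MulAction.orbitRel.Quotient (MulAut G) G) ≤ 5)
    (e : G ≃* Matrix.ProjectiveSpecialLinearGroup (Fin 3) F) (hF : Fintype.card F = 4) : False := by
  classical
  have hc : Nat.card G = 20160 := (Nat.card_congr e.toEquiv).trans (card_psl_three hF)
  have hp : ∀ p : ℕ, p.Prime → p ∣ 20160 → ∃ g : G, orderOf g = p := by
    intro p hp hd
    have := Fact.mk hp
    exact exists_prime_orderOf_dvd_card' p (hc ▸ hd)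
  refine six_orders_false h5 2 3 4 5 7 (by decide) (hp 2 (by norm_num) (by norm_num))
    (hp 3 (by norm_num) (by norm_num)) (orders_congr e ?_) (hp 5 (by norm_num) (by norm_num))
    (hp 7 (by norm_num) (by norm_num))
  have := exists_char (F := F) Nat.prime_two two_ne_zero (by rw [hF]; norm_num)
  have h2 : (2 : F) = 0 := CharTwo.two_eq_zero
  let M : Matrix (Fin 3) (Fin 3) F := !![1, 1, 0; 0, 1, 1; 0, 0, 1]
  let g : Matrix.SpecialLinearGroup (Fin 3) F := ⟨M, by simp [M, Matrix.det_fin_three]⟩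
  have hM2 : M ^ 2 = !![1, 0, 1; 0, 1, 0; 0, 0, 1] := by
    ext i j
    fin_cases i <;> fin_cases j <;>
      simp [M, pow_two, Matrix.mul_apply, Fin.sum_univ_three] <;> linear_combination h2
  refine ⟨QuotientGroup.mk' _ g, orderOf_eq_prime_pow (p := 2) (n := 1) ?_ ?_⟩
  · rw [pow_one, ← map_pow]
    intro h
    have hz := (QuotientGroup.eq_one_iff _).1 h
    obtain ⟨r, -, hr⟩ := Matrix.SpecialLinearGroup.mem_center_iff.1 hz
    rw [Matrix.SpecialLinearGroup.coe_pow] at hr
    change _ = M ^ 2 at hr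
    rw [hM2] at hr
    have h02 := congrFun (congrFun hr 0) 2
    simp at h02
  · rw [← map_pow]
    refine (QuotientGroup.eq_one_iff _).2 ?_
    suffices g ^ (2 ^ (1 + 1)) = 1 by rw [this]; exact one_mem _
    apply Subtype.ext
    rw [Matrix.SpecialLinearGroup.coe_pow, Matrix.SpecialLinearGroup.coe_one]
    change M ^ (2 * 2) = 1
    rw [pow_mul, hM2]
    ext i j
    fin_cases i <;> fin_cases j <;>
      simp [pow_two, Matrix.mul_apply, Fin.sum_univ_three]
    linear_combination h2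

theorem sz_eight (h5 : Nat.card (MulAction.orbitRel.Quotient (MulAut G) G) ≤ 5)
    (e : G ≃* ↥(Cfsg.Lie.Sz F 4)) (hF : Fintype.card F = 8) : False := by
  have H : CfsgLib.KnownA.Suzuki.TitsField F 4 :=
    CfsgLib.KnownA.Suzuki.titsField_of_card (m := 1) (by rw [hF]; norm_num)
  have hc : Nat.card G = 29120 := by
    rw [Nat.card_congr e.toEquiv, CfsgLib.KnownA.Suzuki.natCard_Sz H, hF]
    norm_num
  have hp : ∀ p : ℕ, p.Prime → p ∣ 29120 → ∃ g : G, orderOf g = p := by
    intro p hp hd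
    have := Fact.mk hp
    exact exists_prime_orderOf_dvd_card' p (hc ▸ hd)
  refine six_orders_false h5 2 4 5 7 13 (by decide) (hp 2 (by norm_num) (by norm_num))
    (orders_congr e ?_) (hp 5 (by norm_num) (by norm_num))
    (hp 7 (by norm_num) (by norm_num)) (hp 13 (by norm_num) (by norm_num))
  open CfsgLib.KnownA.Suzuki in
  refine ⟨su H 1 0, orderOf_eq_prime_pow (p := 2) (n := 1) ?_ ?_⟩
  · intro h
    rw [pow_one, pow_two, su_mul, ← su_zero H] at h
    have := (su_inj H h).2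
    simp at this
  · rw [show 2 ^ (1 + 1) = 2 * 2 from rfl, pow_mul, pow_two (su H 1 0), su_mul, pow_two, su_mul]
    simp [H.add_self, su_zero]

/-- At most five automorphism classes, given the list of simple groups with at most one composite
element order. -/
theorem five_orbits_of_list [IsSimpleGroup G] (hG : ¬ IsMulCommutative G)
    (h5 : Nat.card (MulAction.orbitRel.Quotient (MulAut G) G) ≤ 5)
    (hlist : (Nat.card G).Prime ∨
      (∃ (F : Type) (_ : Field F) (_ : Fintype F), (Fintype.card F = 5 ∨ Fintype.card F = 7 ∨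
          Fintype.card F = 8 ∨ Fintype.card F = 9 ∨ Fintype.card F = 11 ∨ Fintype.card F = 13 ∨
          Fintype.card F = 16) ∧ Nonempty (G ≃* Matrix.ProjectiveSpecialLinearGroup (Fin 2) F)) ∨
      (∃ (F : Type) (_ : Field F) (_ : Fintype F), Fintype.card F = 4 ∧
          Nonempty (G ≃* Matrix.ProjectiveSpecialLinearGroup (Fin 3) F)) ∨
      (∃ (F : Type) (_ : Field F) (_ : Fintype F), Fintype.card F = 8 ∧
          Nonempty (G ≃* ↥(Cfsg.Lie.Sz F 4))) ∨
      (∃ (F : Type) (_ : Field F) (_ : Fintype F), ∃ n r s : ℕ, r.Prime ∧ s.Prime ∧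
          3 ^ n - 1 = 2 * r ∧ 3 ^ n + 1 = 4 * s ∧ Fintype.card F = 3 ^ n ∧
          Nonempty (G ≃* Matrix.ProjectiveSpecialLinearGroup (Fin 2) F)) ∨
      (∃ (F : Type) (_ : Field F) (_ : Fintype F), ∃ n r : ℕ, (2 ^ n - 1).Prime ∧ r.Prime ∧
          2 ^ n + 1 = 3 * r ∧ Fintype.card F = 2 ^ n ∧
          Nonempty (G ≃* Matrix.ProjectiveSpecialLinearGroup (Fin 2) F))) :
    Nonempty (G ≃* ↥(alternatingGroup (Fin 5))) ∨ Nonempty (G ≃* ↥(alternatingGroup (Fin 6))) ∨
      (∃ (F : Type) (_ : Field F) (_ : Fintype F), (Fintype.card F = 7 ∨ Fintype.card F = 8) ∧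
        Nonempty (G ≃* Matrix.ProjectiveSpecialLinearGroup (Fin 2) F)) := by
  rcases hlist with h | ⟨F, iF, iT, hq, ⟨e⟩⟩ | ⟨F, iF, iT, hq, ⟨e⟩⟩ | ⟨F, iF, iT, hq, ⟨e⟩⟩ |
    ⟨F, iF, iT, n, r, s, hr, hs, h1, h2, hq, ⟨e⟩⟩ | ⟨F, iF, iT, n, r, hM, hr, h1, hq, ⟨e⟩⟩
  · have := Fact.mk h
    have : IsCyclic G := isCyclic_of_prime_card rfl
    exact (hG ⟨⟨IsCyclic.commGroup.mul_comm⟩⟩).elim
  · rcases psl_two_cases h5 e hq with h | h | h | h
    exacts [Or.inl h, Or.inr (Or.inl h), Or.inr (Or.inr ⟨F, iF, iT, Or.inl h, ⟨e⟩⟩),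
      Or.inr (Or.inr ⟨F, iF, iT, Or.inr h, ⟨e⟩⟩)]
  · exact (psl_three_four h5 e hq).elim
  · exact (sz_eight h5 e hq).elim
  · exact (psl_two_three_pow h5 e hr hs h1 h2 hq).elim
  · exact Or.inr (Or.inr ⟨F, iF, iT, Or.inr (psl_two_two_pow h5 e hM hr h1 hq), ⟨e⟩⟩)

end CfsgLib.Recog.FiveOrbits
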