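import Mathlib

/-!
Sylow subgroups of stabilisers when few points are fixed.
-/

set_option autoImplicit false

namespace CfsgLib.Recog

variable {G Ω : Type*} [Group G] [Finite G] [MulAction G Ω] [Finite Ω]

/-- If a `p`-subgroup `P` is not Sylow in `T`, and `P` contains no larger `p`-subgroup of `T` fixing
`β`, then `P` fixes `p` points in a single `T`-orbit. -/
theorem exists_orbit_fixed {p : ℕ} [Fact p.Prime] {n : ℕ} {P T : Subgroup G} (hP : Nat.card P = p ^ n)
    (hPT : P ≤ T) (hdvd : p ^ (n + 1) ∣ Nat.card T) {β : Ω} (hβ : P ≤ MulAction.stabilizer G β)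
    (hmax : ¬ p ^ (n + 1) ∣ Nat.card (T ⊓ MulAction.stabilizer G β : Subgroup G)) :
    ∃ S : Set Ω, S.ncard = p ∧ (∀ x ∈ S, ∃ t ∈ T, t • β = x) ∧
      ∀ x ∈ S, P ≤ MulAction.stabilizer G x := by
  have hp : p.Prime := Fact.out
  have hP' : Nat.card (P.subgroupOf T) = p ^ n := by
    rw [Nat.card_congr (Subgroup.subgroupOfEquivOfLe hPT).toEquiv, hP]
  obtain ⟨K, hK, hPK⟩ := Sylow.exists_subgroup_card_pow_succ hdvd hP'
  haveI hnor : ((P.subgroupOf T).subgroupOf K).Normal := by
    refine Subgroup.normal_of_index_eq_minFac_card ?_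
    have h1 := ((P.subgroupOf T).subgroupOf K).card_mul_index
    rw [Nat.card_congr (Subgroup.subgroupOfEquivOfLe hPK).toEquiv, hP', hK, pow_succ] at h1
    rw [Nat.eq_of_mul_eq_mul_left (pow_pos hp.pos n) h1, hK,
      Nat.pow_minFac n.succ_ne_zero, hp.minFac_eq]
  have hfix : ∀ x ∈ MulAction.orbit K β, P ≤ MulAction.stabilizer G x := by
    rintro _ ⟨k, rfl⟩ a ha
    have h1 := hnor.conj_mem ⟨⟨a, hPT ha⟩, hPK ha⟩ ha k⁻¹
    have h2 : ((k : T) : G)⁻¹ * a * ((k : T) : G) ∈ P := by simpa [Subgroup.mem_subgroupOf] using h1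
    rw [MulAction.mem_stabilizer_iff]
    change a • ((k : T) : G) • β = ((k : T) : G) • β
    conv_rhs => rw [← MulAction.mem_stabilizer_iff.1 (hβ h2)]
    rw [smul_smul, smul_smul]
    congr 1
    group
  refine ⟨MulAction.orbit K β, ?_, ?_, hfix⟩
  · rw [← MulAction.index_stabilizer]
    set R := MulAction.stabilizer K β
    have h1 := R.card_mul_index
    obtain ⟨i, hi, hRi⟩ := (Nat.dvd_prime_pow hp).1 (hK ▸ R.card_subgroup_dvd_card)
    have hin : n ≤ i := by
      have hle : (P.subgroupOf T).subgroupOf K ≤ R := fun a ha =>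
        MulAction.mem_stabilizer_iff.2 (MulAction.mem_stabilizer_iff.1 (hβ ha))
      have h2 := Subgroup.card_dvd_of_le hle
      rw [Nat.card_congr (Subgroup.subgroupOfEquivOfLe hPK).toEquiv, hP', hRi] at h2
      exact (Nat.pow_dvd_pow_iff_le_right hp.one_lt).1 h2
    have hne : i ≠ n + 1 := by
      rintro rfl
      apply hmax
      have hKle : ((K.map T.subtype : Subgroup G)) ≤ T ⊓ MulAction.stabilizer G β := by
        rintro _ ⟨a, ha, rfl⟩
        refine ⟨a.2, ?_⟩
        have hR : R = ⊤ := Subgroup.eq_top_of_card_eq _ (by rw [hRi, hK])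
        have h2 : (⟨a, ha⟩ : K) ∈ R := hR ▸ Subgroup.mem_top _
        exact h2
      have h3 := Subgroup.card_dvd_of_le hKle
      rwa [Subgroup.card_map_of_injective (Subgroup.subtype_injective T), hK] at h3
    obtain rfl : i = n := by omega
    rw [hRi, hK, pow_succ] at h1
    exact Nat.eq_of_mul_eq_mul_left (pow_pos hp.pos _) h1
  · rintro _ ⟨k, rfl⟩
    exact ⟨(k : T), (k : T).2, rfl⟩

end CfsgLib.Recog
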