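import Cfsg.Agent.Lib.Recog.Extension
import Cfsg.Agent.Lib.Recog.LinearAction

/-!
A group `5 : 8` of semilinear maps of `GF(81)`, as forty `4 × 4` matrices over `GF(3)`, listed by
their base `3` codes.  It acts without fixed points, so `3⁴ ⋊ (5 : 8)` has spectrum
`{1, 2, 3, 4, 5, 8, 10}`.
-/

set_option autoImplicit false

namespace CfsgLib.Recog.Frob40

/-- The matrix with the given base `3` code. -/
def decode (m : ℕ) : Matrix (Fin 4) (Fin 4) (ZMod 3) :=
  Matrix.of fun i j => ((m / 3 ^ (4 * i.val + j.val) % 3 : ℕ) : ZMod 3)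

/-- The codes of the elements. -/
def codes : List ℕ :=
  [
    14408200, 32062088, 27576741, 32758286, 31469658, 7723635, 42654103, 41549023, 14342515,
    4971338, 15234185, 23160743, 38683319, 39632966, 34932336, 9525641, 33691062, 25240067,
    11361322, 28524775, 28816400, 16031044, 20893097, 24670308, 17443123, 35312991, 18219261,
    13793160, 9936103, 7171259, 21358049, 30203740, 41341432, 19430737, 11938426, 20092180,
    24315720, 34527334, 8370794, 35789399]

/-- `codes[i] * a = codes[nextA[i]]`. -/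
def nextA : List ℕ :=
  [
    1, 3, 5, 7, 9, 4, 12, 14, 2, 8, 6, 15, 11, 19, 0, 10, 17, 13, 16, 18, 21, 24, 23, 20, 22, 27,
    28, 26, 29, 25, 33, 30, 34, 32, 31, 39, 37, 35, 36, 38]

/-- `codes[i] * b = codes[nextB[i]]`. -/
def nextB : List ℕ :=
  [
    2, 4, 6, 8, 10, 11, 13, 5, 15, 12, 16, 17, 18, 20, 9, 19, 21, 22, 23, 24, 25, 26, 27, 28, 29,
    30, 31, 32, 33, 34, 35, 36, 37, 38, 39, 0, 1, 7, 14, 3]

/-- The generator of order `5`. -/
def genA : GL (Fin 4) (ZMod 3) :=
  ⟨decode 32062088, decode 34932336, by decide +kernel, by decide +kernel⟩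

/-- The generator of order `8`. -/
def genB : GL (Fin 4) (ZMod 3) :=
  ⟨decode 27576741, decode 20092180, by decide +kernel, by decide +kernel⟩

/-- The group generated by the two generators. -/
def C : Subgroup (GL (Fin 4) (ZMod 3)) := Subgroup.closure {genA, genB}

theorem table_a : ∀ i : Fin 40, decode (codes.getD i 0) * decode 32062088 =
    decode (codes.getD (nextA.getD i 40) 0) := by
  decide +kernel

theorem table_b : ∀ i : Fin 40, decode (codes.getD i 0) * decode 27576741 =
    decode (codes.getD (nextB.getD i 40) 0) := by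
  decide +kernel

theorem table_lt : ∀ i : Fin 40, nextA.getD i 40 < 40 ∧ nextB.getD i 40 < 40 := by
  decide +kernel

/-- Every element of `C` is listed. -/
theorem exists_code {g : GL (Fin 4) (ZMod 3)} (hg : g ∈ C) :
    ∃ i : Fin 40, (g : Matrix (Fin 4) (Fin 4) (ZMod 3)) = decode (codes.getD i 0) := by
  have h : g ∈ Submonoid.closure ({genA, genB} : Set (GL (Fin 4) (ZMod 3))) := by
    rwa [← Subgroup.closure_toSubmonoid_of_finite]
  induction h using Submonoid.closure_induction_right with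
  | one => exact ⟨0, by decide +kernel⟩
  | mul_right x _ y hy ih =>
    obtain ⟨i, hi⟩ := ih (by
      rw [C, ← Subgroup.mem_toSubmonoid, Subgroup.closure_toSubmonoid_of_finite]
      assumption)
    rcases hy with rfl | hy
    · exact ⟨⟨_, (table_lt i).1⟩, by rw [Units.val_mul, hi]; exact table_a i⟩
    · rw [Set.mem_singleton_iff] at hy
      subst hy
      exact ⟨⟨_, (table_lt i).2⟩, by rw [Units.val_mul, hi]; exact table_b i⟩

/-- The kinds of elements. -/
def Kind (M : Matrix (Fin 4) (Fin 4) (ZMod 3)) : Prop :=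
  M = 1 ∨ M = -1 ∨ M ^ 2 = -1 ∨ M ^ 4 = -1 ∨ M ^ 5 = -1 ∨ 1 + M + M ^ 2 + M ^ 3 + M ^ 4 = 0

instance instDecidableKind (M : Matrix (Fin 4) (Fin 4) (ZMod 3)) : Decidable (Kind M) := by
  unfold Kind; infer_instance

theorem table_kind : ∀ i : Fin 40, Kind (decode (codes.getD i 0)) := by
  decide +kernel

theorem kind_of_mem {g : GL (Fin 4) (ZMod 3)} (hg : g ∈ C) :
    Kind (g : Matrix (Fin 4) (Fin 4) (ZMod 3)) := by
  obtain ⟨i, hi⟩ := exists_code hg
  rw [hi]
  exact table_kind i

theorem not_fixed {g : GL (Fin 4) (ZMod 3)} (hg : g ∈ C) (hg1 : g ≠ 1) {v : Fin 4 → ZMod 3}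
    (hv : (g : Matrix (Fin 4) (Fin 4) (ZMod 3)).mulVec v = v) : v = 0 := by
  set M := (g : Matrix (Fin 4) (Fin 4) (ZMod 3)) with hM
  have hpow : ∀ k : ℕ, (M ^ k).mulVec v = v := by
    intro k
    induction k with
    | zero => simp
    | succ k ih => rw [pow_succ, ← Matrix.mulVec_mulVec, hv, ih]
  have hneg : ∀ k : ℕ, M ^ k = -1 → v = 0 := by
    intro k hk
    have h := hpow k
    rw [hk, Matrix.neg_mulVec, Matrix.one_mulVec] at h
    funext i
    have hi : ∀ x : ZMod 3, -x = x → x = 0 := by decide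
    exact hi _ (congrFun h i)
  rcases kind_of_mem hg with h | h | h | h | h | h
  · exact absurd (Units.ext h) hg1
  · exact hneg 1 (by rw [pow_one]; exact h)
  · exact hneg 2 h
  · exact hneg 4 h
  · exact hneg 5 h
  · have h' := congrArg (fun A => Matrix.mulVec A v) h
    simp only [Matrix.add_mulVec, Matrix.one_mulVec, Matrix.zero_mulVec] at h'
    rw [← hM, hpow, hpow, hpow, hv] at h'
    funext i
    have hi : ∀ x : ZMod 3, x + x + x + x + x = 0 → x = 0 := by decide
    exact hi _ (congrFun h' i)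

theorem pow_eight_or_ten {g : GL (Fin 4) (ZMod 3)} (hg : g ∈ C) : g ^ 8 = 1 ∨ g ^ 10 = 1 := by
  set M := (g : Matrix (Fin 4) (Fin 4) (ZMod 3)) with hM
  have hsq : ∀ k : ℕ, M ^ k = -1 → g ^ (k * 2) = 1 := by
    intro k hk
    refine Units.ext ?_
    rw [Units.val_pow_eq_pow_val, ← hM, pow_mul, hk, neg_one_sq, Units.val_one]
  rcases kind_of_mem hg with h | h | h | h | h | h
  · exact Or.inl (by rw [show g = 1 from Units.ext h, one_pow])
  · refine Or.inl ?_
    rw [show 8 = 1 * 2 * 4 from rfl, pow_mul, hsq 1 (by rw [pow_one]; exact h), one_pow]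
  · exact Or.inl (by rw [show 8 = 2 * 2 * 2 from rfl, pow_mul, hsq 2 h, one_pow])
  · exact Or.inl (hsq 4 h)
  · exact Or.inr (hsq 5 h)
  · refine Or.inr ?_
    have h5 : M ^ 5 = 1 := by
      have h' : M ^ 5 = 1 + (M * (1 + M + M ^ 2 + M ^ 3 + M ^ 4) -
          (1 + M + M ^ 2 + M ^ 3 + M ^ 4)) := by noncomm_ring
      rw [h', h, mul_zero, sub_zero, add_zero]
    rw [show 10 = 5 * 2 from rfl, pow_mul,
      show g ^ 5 = 1 from Units.ext (by rw [Units.val_pow_eq_pow_val]; exact h5), one_pow]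

/-- The natural action. -/
def act : C →* MulAut (Multiplicative (Fin 4 → ZMod 3)) := mulVecAct.comp C.subtype

theorem ofAdd_ones_ne_one : (Multiplicative.ofAdd fun _ => 1 : Multiplicative (Fin 4 → ZMod 3)) ≠ 1 := by
  decide

theorem genB_pow : genB ^ 8 = 1 ∧ ∀ k < 8, 0 < k → genB ^ k ≠ 1 := by
  decide +kernel

theorem genAB_pow : (genA * genB ^ 4) ^ 10 = 1 ∧ ∀ k < 10, 0 < k → (genA * genB ^ 4) ^ k ≠ 1 := by
  decide +kernel

/-- The spectrum of `3⁴ ⋊ (5 : 8)`. -/
theorem range_orderOf :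
    Set.range (orderOf : Multiplicative (Fin 4 → ZMod 3) ⋊[act] C → ℕ) =
      {n | n = 3 ∨ n ∣ 8 ∨ n ∣ 10} := by
  haveI : Fact (Nat.Prime 3) := ⟨Nat.prime_three⟩
  have hexp : ∀ v : Multiplicative (Fin 4 → ZMod 3), v ^ 3 = 1 := pow_char_eq_one 3
  ext n
  constructor
  · rintro ⟨x, rfl⟩
    rcases orderOf_cases act Nat.prime_three hexp x with h | ⟨h, v, hv, hfix⟩
    · rw [h]
      refine Or.inr ((pow_eight_or_ten x.right.2).imp ?_ ?_) <;>
        exact fun hp => orderOf_dvd_of_pow_eq_one (Subtype.ext hp)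
    · refine Or.inl ?_
      have h1 : x.right = 1 := by
        by_contra hne
        refine hv (Multiplicative.toAdd.injective (not_fixed x.right.2
          (fun hh => hne (Subtype.ext hh)) ?_))
        exact congrArg Multiplicative.toAdd hfix
      rw [h, h1, orderOf_one, mul_one]
  · have hgen : ∀ (m : ℕ) (g : C), orderOf g = m → m ≠ 0 → n ∣ m →
        ∃ x : Multiplicative (Fin 4 → ZMod 3) ⋊[act] C, orderOf x = n := by
      intro m g hg hm hn
      refine ⟨SemidirectProduct.inr (g ^ (m / n)), ?_⟩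
      rw [orderOf_injective _ SemidirectProduct.inr_injective,
        orderOf_pow' _ (Nat.div_ne_zero_iff_of_dvd hn |>.2 ⟨hm, ne_zero_of_dvd_ne_zero hm hn⟩), hg,
        Nat.gcd_eq_right (Nat.div_dvd_of_dvd hn), Nat.div_div_self hn hm]
    have hA : genA ∈ C := Subgroup.subset_closure (Set.mem_insert _ _)
    have hB : genB ∈ C := Subgroup.subset_closure (Set.mem_insert_of_mem _ rfl)
    have horder : ∀ (g : GL (Fin 4) (ZMod 3)) (hg : g ∈ C) (m : ℕ), 0 < m → g ^ m = 1 →
        (∀ k < m, 0 < k → g ^ k ≠ 1) → orderOf (⟨g, hg⟩ : C) = m := by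
      intro g hg m hm h1 h2
      rw [Subgroup.orderOf_mk]
      exact (orderOf_eq_iff hm).2 ⟨h1, h2⟩
    rintro (rfl | h | h)
    · refine ⟨SemidirectProduct.inl (Multiplicative.ofAdd (fun _ => 1)), ?_⟩
      rw [orderOf_injective _ SemidirectProduct.inl_injective]
      exact orderOf_eq_prime (hexp _) ofAdd_ones_ne_one
    · exact hgen 8 _ (horder genB hB 8 (by norm_num) genB_pow.1 genB_pow.2)
        (by norm_num) h
    · exact hgen 10 _ (horder _ (C.mul_mem hA (C.pow_mem hB 4)) 10 (by norm_num)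
        genAB_pow.1 genAB_pow.2) (by norm_num) h

end CfsgLib.Recog.Frob40
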