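import Cfsg.Agent.Lib.Recog.FrobeniusNorm
import Cfsg.Agent.Lib.Base.Frattini
import Cfsg.Agent.Lib.Coprime.Action2
import Cfsg.Agent.Lib.PGroups.Basic

/-!
Lifting the cyclic complement of a Frobenius quotient `G/N`: complements of `N` in the preimage of
the kernel, and the module `P/Φ(P)` of a Sylow subgroup of `N`.
-/

set_option autoImplicit false
set_option maxHeartbeats 400000

open scoped Pointwise commutatorElement

namespace CfsgLib.Recog

variable {G : Type*} [Group G] [Finite G] (N : Subgroup G) [hN : N.Normal]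

omit [Finite G] in
theorem le_normalizer_of_normal (A : Subgroup G) : A ≤ Subgroup.normalizer (N : Set G) := by
  rw [Subgroup.normalizer_eq_top_iff.2 hN]
  exact le_top

/-- A lift whose power is non-trivial gives an element of order `p m`. -/
theorem exists_orderOf_mul_of_lift {g : G} {m : ℕ} (hm : 0 < m)
    (ho : orderOf (QuotientGroup.mk' N g) = m) (hg : g ^ m ≠ 1) :
    ∃ p : ℕ, p.Prime ∧ p ∣ Nat.card N ∧ ∃ z : G, orderOf z = p * m := by
  have hmem : g ^ m ∈ N := by
    rw [← QuotientGroup.eq_one_iff, ← QuotientGroup.mk'_apply, map_pow, ← ho, pow_orderOf_eq_one]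
  obtain ⟨c, hc⟩ : m ∣ orderOf g := ho ▸ orderOf_map_dvd _ g
  have hcN : c ∣ Nat.card N := by
    have h1 : orderOf (⟨g ^ m, hmem⟩ : N) ∣ Nat.card N := orderOf_dvd_natCard _
    rwa [Subgroup.orderOf_mk, orderOf_pow' g hm.ne', hc, Nat.gcd_mul_right_left,
      Nat.mul_div_cancel_left c hm] at h1
  have hc1 : c ≠ 1 := fun h1 => hg (by rw [← mul_one m, ← h1, ← hc, pow_orderOf_eq_one])
  obtain ⟨p, hp, hpc⟩ := Nat.exists_prime_and_dvd hc1
  exact ⟨p, hp, hpc.trans hcN, g ^ (orderOf g / (p * m)),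
    orderOf_pow_orderOf_div (orderOf_pos g).ne' (by rw [hc, mul_comm p]; exact mul_dvd_mul_left m hpc)⟩

/-- A subgroup of the preimage of `Fb` of order `|Fb|` maps isomorphically onto it. -/
theorem complement_map {Fb : Subgroup (G ⧸ N)} (hcop : (Nat.card Fb).Coprime (Nat.card N))
    (hsol : Group.IsSolvable Fb) {E : Subgroup G} (hEc : Nat.card E = Nat.card Fb)
    (hES : E ≤ Fb.comap (QuotientGroup.mk' N)) :
    E.map (QuotientGroup.mk' N) = Fb ∧ Group.IsSolvable E := by
  let f : E →* Fb := ((QuotientGroup.mk' N).comp E.subtype).codRestrict Fb fun a => hES a.2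
  have hf : Function.Injective f := by
    rw [injective_iff_map_eq_one]
    intro a ha
    have haN : (a : G) ∈ N := (QuotientGroup.eq_one_iff _).1 (congrArg Subtype.val ha)
    have h : (a : G) ∈ E ⊓ N := ⟨a.2, haN⟩
    rw [CfsgLib.Coprime.inf_eq_bot_of_coprime (by rw [hEc]; exact hcop), Subgroup.mem_bot] at h
    exact Subtype.ext h
  refine ⟨le_antisymm (Subgroup.map_le_iff_le_comap.2 hES) fun y hy => ?_, ?_⟩
  · obtain ⟨a, ha⟩ := ((Nat.bijective_iff_injective_and_card f).2 ⟨hf, hEc⟩).2 ⟨y, hy⟩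
    exact ⟨a, a.2, congrArg Subtype.val ha⟩
  · haveI := hsol
    exact Group.isSolvable_of_isSolvable_injective hf

theorem relIndex_comap_eq (Fb : Subgroup (G ⧸ N)) :
    N.relIndex (Fb.comap (QuotientGroup.mk' N)) = Nat.card Fb := by
  have h : N = (⊥ : Subgroup (G ⧸ N)).comap (QuotientGroup.mk' N) := by
    rw [MonoidHom.comap_bot, QuotientGroup.ker_mk']
  conv_lhs => arg 1; rw [h]
  rw [Subgroup.relIndex_comap, Subgroup.relIndex_bot_left,
    Subgroup.map_comap_eq_self_of_surjective (QuotientGroup.mk'_surjective N)]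

/-- A complement inside the normaliser `L` of a Sylow subgroup of `N`. -/
theorem exists_complement_in_normalizer (Fb : Subgroup (G ⧸ N))
    (hcop : (Nat.card Fb).Coprime (Nat.card N)) (L : Subgroup G) (hLN : L ⊔ N = ⊤) :
    ∃ E : Subgroup G, E ≤ Fb.comap (QuotientGroup.mk' N) ⊓ L ∧ Nat.card E = Nat.card Fb := by
  set S := Fb.comap (QuotientGroup.mk' N) with hS
  have hNS : N ≤ S := by
    intro n hn
    rw [hS, Subgroup.mem_comap, show QuotientGroup.mk' N n = 1 from (QuotientGroup.eq_one_iff n).2 hn]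
    exact Fb.one_mem
  have h2 : (S ⊓ L) ⊔ N = S := by
    refine le_antisymm (sup_le inf_le_left hNS) fun s hs => ?_
    obtain ⟨l, hl, n, hn, rfl⟩ := (CfsgLib.Coprime.mem_sup_iff_of_le_normalizer
      (le_normalizer_of_normal N L)).1 (hLN ▸ Subgroup.mem_top s)
    exact Subgroup.mul_mem _
      (Subgroup.mem_sup_left ⟨(Subgroup.mul_mem_cancel_right _ (hNS hn)).1 hs, hl⟩)
      (Subgroup.mem_sup_right hn)
  have h3 : N.relIndex (S ⊓ L) = Nat.card Fb := by
    rw [← relIndex_comap_eq N Fb, ← hS]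
    conv_rhs => rw [← h2]
    rw [sup_comm]
    exact (Subgroup.relIndex_sup_left _ _).symm
  have h1 : (N ⊓ (S ⊓ L)).relIndex (S ⊓ L) = Nat.card Fb := by
    rw [Subgroup.inf_relIndex_right, h3]
  obtain ⟨E, hES, hEc, -⟩ := CfsgLib.Coprime.exists_complement_in (N := N ⊓ (S ⊓ L)) (S := S ⊓ L)
    inf_le_right
    (CfsgLib.Coprime.le_normalizer_inf_inf (le_normalizer_of_normal N _) Subgroup.le_normalizer)
    (by rw [h1]; exact hcop.symm.coprime_dvd_left (Subgroup.card_dvd_of_le inf_le_left))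
  exact ⟨E, hES, hEc.trans h1⟩

/-- Some Sylow normaliser contains a complement not centralising the Sylow subgroup. -/
theorem exists_sylow_not_centralized (Fb : Subgroup (G ⧸ N))
    (hcop : (Nat.card Fb).Coprime (Nat.card N)) (hsol : Group.IsSolvable Fb)
    (hnot : ¬ Fb ≤ (Subgroup.centralizer (N : Set G)).map (QuotientGroup.mk' N)) :
    ∃ (p : ℕ) (_ : Fact p.Prime) (P : Sylow p N) (E : Subgroup G),
      E ≤ Fb.comap (QuotientGroup.mk' N) ∧ Nat.card E = Nat.card Fb ∧
      E ≤ Subgroup.normalizer (((P : Subgroup N).map N.subtype : Subgroup G) : Set G) ∧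
      ¬ E ≤ Subgroup.centralizer (((P : Subgroup N).map N.subtype : Subgroup G) : Set G) := by
  obtain ⟨E₀, hE₀, hE₀c⟩ := exists_complement_in_normalizer N Fb hcop ⊤ (top_sup_eq _)
  have hE₀S := hE₀.trans inf_le_left
  obtain ⟨hmap₀, hsol₀⟩ := complement_map N hcop hsol hE₀c hE₀S
  obtain ⟨e₀, he₀, he₀C⟩ : ∃ e ∈ E₀, e ∉ Subgroup.centralizer (N : Set G) := by
    by_contra hall
    push_neg at hall
    exact hnot (hmap₀.symm.le.trans (Subgroup.map_mono hall))
  by_contra hall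
  push_neg at hall
  apply he₀C
  set C := (Subgroup.centralizer ({e₀} : Set G)).subgroupOf N with hC
  suffices hCtop : C = ⊤ by
    rw [Subgroup.mem_centralizer_iff]
    intro n hn
    have hmem : (⟨n, hn⟩ : N) ∈ C := hCtop ▸ Subgroup.mem_top _
    exact (Subgroup.mem_centralizer_iff.1 hmem e₀ rfl).symm
  refine Subgroup.eq_top_of_card_eq C (Nat.dvd_antisymm (Subgroup.card_subgroup_dvd_card C) ?_)
  rw [Nat.dvd_iff_prime_pow_dvd_dvd]
  intro p k hp hk
  haveI := Fact.mk hp
  obtain ⟨P⟩ : Nonempty (Sylow p N) := inferInstance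
  refine (P.pow_dvd_card_of_pow_dvd_card hk).trans ?_
  obtain ⟨E, hES, hEc⟩ := exists_complement_in_normalizer N Fb hcop
    (Subgroup.normalizer (((P : Subgroup N).map N.subtype : Subgroup G) : Set G))
    (Sylow.normalizer_sup_eq_top P)
  have hcent := hall p ⟨hp⟩ P E (hES.trans inf_le_left) hEc (hES.trans inf_le_right)
  have hSsup : Fb.comap (QuotientGroup.mk' N) ≤ N ⊔ E₀ := by
    intro s hs
    obtain ⟨e, he, hes⟩ := hmap₀.symm ▸ (hs : QuotientGroup.mk' N s ∈ Fb)
    rw [show s = (s * e⁻¹) * e by group]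
    refine Subgroup.mul_mem _ (Subgroup.mem_sup_left ?_) (Subgroup.mem_sup_right he)
    rw [← QuotientGroup.eq_one_iff, ← QuotientGroup.mk'_apply, map_mul, map_inv, hes, mul_inv_cancel]
  obtain ⟨a, ha, hconj⟩ := CfsgLib.Coprime.sz_conj_rel (N := N) (H := E₀) (K := E)
    (le_normalizer_of_normal N _) (le_normalizer_of_normal N _) (by rw [hE₀c]; exact hcop.symm)
    (by rw [hEc, hE₀c]) ((hES.trans inf_le_left).trans hSsup) (Or.inr hsol₀)
  have hae : a * e₀ * a⁻¹ ∈ E := by
    rw [← hconj]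
    exact Subgroup.smul_mem_pointwise_smul e₀ (MulAut.conj a) E₀ he₀
  have hle : (P : Subgroup N).map
      ((MulAut.conjNormal a⁻¹ : MulAut N).toMonoidHom) ≤ C := by
    rintro _ ⟨w, hw, rfl⟩
    have hcm := Subgroup.mem_centralizer_iff.1 (hcent hae) (w : G) ⟨w, hw, rfl⟩
    rw [hC, Subgroup.mem_subgroupOf, Subgroup.mem_centralizer_iff]
    rintro y (rfl : y = e₀)
    change y * ((MulAut.conjNormal a⁻¹ w : N) : G) = ((MulAut.conjNormal a⁻¹ w : N) : G) * y
    rw [MulAut.conjNormal_apply, inv_inv]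
    calc y * (a⁻¹ * (w : G) * a) = a⁻¹ * ((a * y * a⁻¹) * (w : G)) * a := by group
      _ = a⁻¹ * ((w : G) * (a * y * a⁻¹)) * a := by rw [hcm]
      _ = a⁻¹ * (w : G) * a * y := by group
  have h := Subgroup.card_dvd_of_le hle
  rwa [Subgroup.card_map_of_injective (MulEquiv.injective _)] at h

/-- A lift of `h` in `L` normalising the complement `E`. -/
theorem exists_lift_normalizing (Fb : Subgroup (G ⧸ N)) [Fb.Normal]
    (hcop : (Nat.card Fb).Coprime (Nat.card N)) (hsol : Group.IsSolvable Fb)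
    (L : Subgroup G) (hLN : L ⊔ N = ⊤) (E : Subgroup G) (hES : E ≤ Fb.comap (QuotientGroup.mk' N))
    (hEc : Nat.card E = Nat.card Fb) (hEL : E ≤ L) (h : G ⧸ N) :
    ∃ x ∈ L, (∀ e ∈ E, x * e * x⁻¹ ∈ E) ∧ QuotientGroup.mk' N x = h := by
  obtain ⟨hEmap, hEsol⟩ := complement_map N hcop hsol hEc hES
  obtain ⟨y, hy⟩ := QuotientGroup.mk'_surjective N h
  obtain ⟨l, hl, n, hn, rfl⟩ := (CfsgLib.Coprime.mem_sup_iff_of_le_normalizer
    (le_normalizer_of_normal N L)).1 (hLN ▸ Subgroup.mem_top y)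
  rw [map_mul, show QuotientGroup.mk' N n = 1 from (QuotientGroup.eq_one_iff n).2 hn, mul_one] at hy
  have hDN : L ≤ Subgroup.normalizer ((N ⊓ L : Subgroup G) : Set G) :=
    CfsgLib.Coprime.le_normalizer_inf_inf (le_normalizer_of_normal N L) Subgroup.le_normalizer
  have hle : MulAut.conj l • E ≤ (N ⊓ L) ⊔ E := by
    intro z hz
    rw [CfsgLib.Coprime.mem_conj_smul] at hz
    have hzS : z ∈ Fb.comap (QuotientGroup.mk' N) := by
      have h1 := (inferInstance : (Fb.comap (QuotientGroup.mk' N)).Normal).conj_mem _ (hES hz) l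
      simpa [mul_assoc] using h1
    have hzL : z ∈ L := by
      have h1 := L.mul_mem (L.mul_mem hl (hEL hz)) (L.inv_mem hl)
      simpa [mul_assoc] using h1
    obtain ⟨e, he, hez⟩ := hEmap.symm ▸ (hzS : QuotientGroup.mk' N z ∈ Fb)
    rw [show z = z * e⁻¹ * e by group]
    refine Subgroup.mul_mem _ (Subgroup.mem_sup_left ⟨?_, L.mul_mem hzL (L.inv_mem (hEL he))⟩)
      (Subgroup.mem_sup_right he)
    change z * e⁻¹ ∈ N
    rw [← QuotientGroup.eq_one_iff, ← QuotientGroup.mk'_apply, map_mul, map_inv,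
      hez, mul_inv_cancel]
  have hc : (Nat.card (N ⊓ L : Subgroup G)).Coprime (Nat.card E) := by
    rw [hEc]
    exact hcop.symm.coprime_dvd_left (Subgroup.card_dvd_of_le inf_le_left)
  obtain ⟨a, ha, hconj⟩ := CfsgLib.Coprime.sz_conj_rel (N := N ⊓ L) (H := E) (K := MulAut.conj l • E)
    (hEL.trans hDN) ((hle.trans (sup_le inf_le_right hEL)).trans hDN) hc
    (CfsgLib.Coprime.card_conj_smul _ _) hle (Or.inr hEsol)
  refine ⟨a⁻¹ * l, L.mul_mem (L.inv_mem ha.2) hl, fun e he => ?_, ?_⟩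
  · have h1 : l * e * l⁻¹ ∈ MulAut.conj a • E := by
      rw [hconj]; exact Subgroup.smul_mem_pointwise_smul e (MulAut.conj l) E he
    rw [CfsgLib.Coprime.mem_conj_smul] at h1
    simpa [mul_assoc] using h1
  · rw [map_mul, map_inv, show QuotientGroup.mk' N a = 1 from (QuotientGroup.eq_one_iff a).2 ha.1,
      inv_one, one_mul, hy]

omit hN in
/-- Vanishing norms on `P/Φ(P)` force `E` to centralise the `p`-group `P`. -/
theorem le_centralizer_of_norm {p : ℕ} [Fact p.Prime] {P E : Subgroup G} (hP : IsPGroup p P)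
    (hEP : E ≤ Subgroup.normalizer (P : Set G)) (hcop : (Nat.card E).Coprime (Nat.card P))
    {x : G} {m : ℕ} (hm : 0 < m) (hxP : x ∈ Subgroup.normalizer (P : Set G))
    (hxE : ∀ e ∈ E, x * e * x⁻¹ ∈ E)
    (hsemi : ∀ i, 0 < i → i < m → ∀ e ∈ E, x ^ i * e * (x ^ i)⁻¹ = e → e = 1)
    (hxm : x ^ m = 1) (hux : ∀ u ∈ P, (u * x) ^ m = 1) :
    E ≤ Subgroup.centralizer (P : Set G) := by
  set L := Subgroup.normalizer (P : Set G) with hL
  refine CfsgLib.Coprime.le_centralizer_of_trivial_mod_frattini hEP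
    (hcop.coprime_dvd_right (Subgroup.card_subgroup_dvd_card _)) fun e he k hk => ?_
  letI : CommGroup (P ⧸ frattini P) :=
    { (inferInstance : Group (P ⧸ frattini P)) with
      mul_comm := by
        intro u v
        obtain ⟨u, rfl⟩ := QuotientGroup.mk'_surjective _ u
        obtain ⟨v, rfl⟩ := QuotientGroup.mk'_surjective _ v
        rw [← map_mul, ← map_mul, QuotientGroup.mk'_eq_mk']
        refine ⟨(u * v)⁻¹ * (v * u), CfsgLib.PGroups.commutator_le_frattini hP ?_, by group⟩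
        rw [show (u * v)⁻¹ * (v * u) = ⁅v⁻¹, u⁻¹⁆ by rw [commutatorElement_def]; group]
        exact Subgroup.commutator_mem_commutator (Subgroup.mem_top _) (Subgroup.mem_top _) }
  let φ : L →* MulAut (P ⧸ frattini P) := MonoidHom.mk'
    (fun l => QuotientGroup.congr (frattini P) (frattini P) (P.normalizerMonoidHom l)
      (CfsgLib.Base.map_frattini_mulEquiv _))
    (fun a b => by
      refine MulEquiv.ext fun v => ?_
      obtain ⟨v, rfl⟩ := QuotientGroup.mk'_surjective _ v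
      simp only [MulAut.mul_apply, QuotientGroup.mk'_apply, map_mul]
      rfl)
  have hφ : ∀ (l : L) (u u' : P), (u' : G) = (l : G) * u * (l : G)⁻¹ →
      φ l (u : P ⧸ frattini P) = (u' : P ⧸ frattini P) := by
    intro l u u' h'
    have h1 : P.normalizerMonoidHom l u = u' := Subtype.ext h'.symm
    rw [← h1]
    rfl
  set xL : L := ⟨x, hxP⟩ with hxL
  have hnormx : ∀ v : P ⧸ frattini P, ∏ i ∈ Finset.range m, φ (xL ^ i) v = 1 := by
    intro v
    obtain ⟨u, rfl⟩ := QuotientGroup.mk'_surjective _ v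
    have hk : ∀ j : ℕ, ∃ w : P, (w : G) = ((u : G) * x) ^ j * (x ^ j)⁻¹ ∧
        (w : P ⧸ frattini P) = ∏ i ∈ Finset.range j, φ (xL ^ i) (u : P ⧸ frattini P) := by
      intro j
      induction j with
      | zero => exact ⟨1, by simp, by simp⟩
      | succ j ih =>
        obtain ⟨w, hw, hwp⟩ := ih
        have hmem : x ^ j * (u : G) * (x ^ j)⁻¹ ∈ P :=
          (Subgroup.mem_normalizer_iff.1 (L.pow_mem hxP j) u).1 u.2
        refine ⟨w * ⟨_, hmem⟩, ?_, ?_⟩
        · rw [Subgroup.coe_mul, hw, pow_succ, pow_succ]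
          group
        · rw [QuotientGroup.mk_mul, hwp, Finset.prod_range_succ,
            hφ (xL ^ j) u ⟨_, hmem⟩ rfl]
    obtain ⟨w, hw, hwp⟩ := hk m
    rw [hux u u.2, hxm, inv_one, one_mul] at hw
    change ∏ i ∈ Finset.range m, φ (xL ^ i) (u : P ⧸ frattini P) = 1
    rw [← hwp, show w = 1 from Subtype.ext hw]
    rfl
  have hkill := commutator_pow_card_eq_one φ (E.subgroupOf L) xL hm (fun f hf => hxE f hf)
    (fun i hi0 hi f hf hc => Subtype.ext (hsemi i hi0 hi f hf (congrArg Subtype.val hc)))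
    hnormx (f := ⟨e, hEP he⟩) he ((⟨k, hk⟩ : P) : P ⧸ frattini P)
  rw [Nat.card_congr (Subgroup.subgroupOfEquivOfLe hEP).toEquiv] at hkill
  have hconjk : e * k * e⁻¹ ∈ P := (Subgroup.mem_normalizer_iff.1 (hEP he) k).1 hk
  rw [hφ ⟨e, hEP he⟩ ⟨k, hk⟩ ⟨_, hconjk⟩ rfl] at hkill
  have h1 : (((⟨k, hk⟩ : P) : P ⧸ frattini P) / ((⟨_, hconjk⟩ : P) : P ⧸ frattini P)) = 1 := by
    rw [← orderOf_eq_one_iff]
    exact Nat.eq_one_of_dvd_coprimes hcop (orderOf_dvd_of_pow_eq_one hkill)
      ((orderOf_dvd_natCard _).trans (Subgroup.card_quotient_dvd_card _))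
  rw [div_eq_one, eq_comm, QuotientGroup.eq] at h1
  refine ⟨(⟨_, hconjk⟩ : P) * (⟨k, hk⟩ : P)⁻¹, ?_, by simp⟩
  have h2 := (inferInstance : (frattini P).Normal).conj_mem _ (inv_mem h1) ⟨k, hk⟩
  simpa [mul_assoc] using h2

end CfsgLib.Recog
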