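import Mathlib

/-!
A Frobenius group `E ⋊ ⟨x⟩` acting on an abelian group with vanishing norm of `x`: the kernel acts
trivially, up to `|E|`.
-/

set_option autoImplicit false

namespace CfsgLib.Recog

/-- If the `x`-norms vanish and `x, …, x ^ (m - 1)` centralise no non-trivial element of `E`, then
`|E|` kills every commutator of `M` with `E`. -/
theorem commutator_pow_card_eq_one {L M : Type*} [Group L] [CommGroup M] (φ : L →* MulAut M)
    (E : Subgroup L) [Finite E] (x : L) {m : ℕ} (hm : 0 < m)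
    (hnorm : ∀ e ∈ E, x * e * x⁻¹ ∈ E)
    (hsemi : ∀ i, 0 < i → i < m → ∀ e ∈ E, x ^ i * e * (x ^ i)⁻¹ = e → e = 1)
    (hx : ∀ v : M, ∏ i ∈ Finset.range m, φ (x ^ i) v = 1) {f : L} (hf : f ∈ E) (v : M) :
    (v / φ f v) ^ Nat.card E = 1 := by
  classical
  haveI : Fintype E := Fintype.ofFinite E
  have hnormi : ∀ i : ℕ, ∀ e ∈ E, x ^ i * e * (x ^ i)⁻¹ ∈ E := by
    intro i
    induction i with
    | zero => intro e he; simpa using he
    | succ i ih =>
      intro e he
      have h1 : x ^ (i + 1) * e * (x ^ (i + 1))⁻¹ = x * (x ^ i * e * (x ^ i)⁻¹) * x⁻¹ := by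
        rw [pow_succ']; group
      rw [h1]
      exact hnorm _ (ih e he)
  set w := v / φ f v with hw
  have hcyc : ∀ e : E, ∏ i ∈ Finset.range m, φ (((e : L) * x * (e : L)⁻¹) ^ i) w = 1 := by
    intro e
    have h1 : ∀ i, φ (((e : L) * x * (e : L)⁻¹) ^ i) w = φ (e : L) (φ (x ^ i) (φ (e : L)⁻¹ w)) := by
      intro i
      rw [conj_pow, map_mul, map_mul]
      rfl
    rw [Finset.prod_congr rfl fun i _ => h1 i, ← map_prod, hx, map_one]
  have htot : ∏ i ∈ Finset.range m, ∏ e : E, φ (((e : L) * x * (e : L)⁻¹) ^ i) w = 1 := by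
    rw [Finset.prod_comm]
    exact Finset.prod_eq_one fun e _ => hcyc e
  rw [Finset.prod_eq_single_of_mem 0 (Finset.mem_range.2 hm)] at htot
  · simpa [Nat.card_eq_fintype_card] using htot
  · intro i hi hi0
    rw [Finset.mem_range] at hi
    let θ : E → E := fun e =>
      ⟨(e : L) * (x ^ i * (e : L)⁻¹ * (x ^ i)⁻¹), mul_mem e.2 (hnormi i _ (inv_mem e.2))⟩
    have hθ : Function.Injective θ := by
      intro a b hab
      have h1 : (a : L) * (x ^ i * (a : L)⁻¹ * (x ^ i)⁻¹) = (b : L) * (x ^ i * (b : L)⁻¹ * (x ^ i)⁻¹) :=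
        congrArg Subtype.val hab
      have h2 : x ^ i * ((a : L)⁻¹ * b) * (x ^ i)⁻¹ = (a : L)⁻¹ * b := by
        calc x ^ i * ((a : L)⁻¹ * b) * (x ^ i)⁻¹
            = (a : L)⁻¹ * ((a : L) * (x ^ i * (a : L)⁻¹ * (x ^ i)⁻¹)) *
                (x ^ i * b * (x ^ i)⁻¹) := by group
          _ = (a : L)⁻¹ * ((b : L) * (x ^ i * (b : L)⁻¹ * (x ^ i)⁻¹)) *
                (x ^ i * b * (x ^ i)⁻¹) := by rw [h1]
          _ = (a : L)⁻¹ * b := by group
      exact Subtype.ext (inv_mul_eq_one.1 (hsemi i (by omega) hi _ (mul_mem (inv_mem a.2) b.2) h2))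
    have hval : ∀ e : E, φ (((e : L) * x * (e : L)⁻¹) ^ i) w = φ (θ e : L) (φ (x ^ i) w) := by
      intro e
      rw [← MulAut.mul_apply, ← map_mul]
      congr 2
      rw [conj_pow]
      simp [θ, mul_assoc]
    simp only [hval]
    rw [(Finite.injective_iff_bijective.1 hθ).prod_comp (fun e : E => φ (e : L) (φ (x ^ i) w)),
      hw]
    simp only [map_div, Finset.prod_div_distrib]
    rw [div_eq_one]
    refine (Fintype.prod_equiv (Equiv.mulRight ⟨x ^ i * f * (x ^ i)⁻¹, hnormi i f hf⟩) _ _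
      fun e => ?_).symm
    rw [← MulAut.mul_apply, ← MulAut.mul_apply, ← MulAut.mul_apply, ← map_mul, ← map_mul, ← map_mul]
    congr 2
    simp [mul_assoc]

end CfsgLib.Recog
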