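import Cfsg.Agent.Lib.PLocal.PSolvable
import Cfsg.Agent.Lib.Coprime.Action
import Cfsg.Agent.Lib.OddOrder.OmegaFixed

/-!
`p`-soluble groups whose automorphisms permute the subgroups of order `p` transitively.
-/

set_option autoImplicit false
set_option maxHeartbeats 400000

open Cfsg CfsgLib.Base

namespace CfsgLib.Recog.GaschutzYen

variable {G : Type*} [Group G] [Finite G] {p : ℕ} [Fact p.Prime]

/-- The case of trivial `p'`-core. -/
theorem not_dvd_index (hp : p ≠ 2) (hG : IsPSolvable p G) (hO : pPrimeCore p G = ⊥)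
    (htrans : ∀ U V : Subgroup G, Nat.card U = p → Nat.card V = p →
      ∃ a : MulAut G, U.map a.toMonoidHom = V) :
    ¬ p ∣ (pCore p G).index := by
  classical
  intro hd
  have hpp : p.Prime := Fact.out
  haveI : Nontrivial G := by
    refine Finite.one_lt_card_iff_nontrivial.1 ?_
    calc 1 < p := hpp.one_lt
      _ ≤ (pCore p G).index := Nat.le_of_dvd (Nat.pos_of_ne_zero Subgroup.index_ne_zero_of_finite) hd
      _ ≤ Nat.card G := Nat.le_of_dvd Nat.card_pos (Subgroup.index_dvd_card _)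
  set Q := pCore p G with hQ
  haveI : Q.Normal := pCore_normal p G
  have hQp : IsPGroup p Q := isPGroup_pCore p G
  have hQne : Q ≠ ⊥ :=
    (CfsgLib.PLocal.pCore_ne_bot_or_pPrimeCore_ne_bot hG).resolve_right fun h => h hO
  haveI : Nontrivial Q := (Subgroup.nontrivial_iff_ne_bot Q).2 hQne
  -- elements of order `p` are central in `Q`
  let Z : Subgroup G := Q ⊓ Subgroup.centralizer (Q : Set G)
  have hQa : ∀ a : MulAut G, Q.map a.toMonoidHom = Q := fun a => map_pCore_mulEquiv a
  have hcen : ∀ x : G, x ^ p = 1 → x ∈ Z := by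
    obtain ⟨z, hz⟩ : ∃ z : Subgroup.center Q, orderOf z = p := by
      haveI := hQp.center_nontrivial
      obtain ⟨k, hk⟩ := IsPGroup.iff_card.1 (hQp.to_subgroup (Subgroup.center Q))
      refine exists_prime_orderOf_dvd_card' p (hk ▸ dvd_pow_self p fun h => ?_)
      rw [h, pow_zero] at hk
      exact absurd hk (Finite.one_lt_card (α := Subgroup.center Q)).ne'
    intro x hx
    by_cases hx1 : x = 1
    · exact hx1 ▸ one_mem _
    have hxo : orderOf x = p := orderOf_eq_prime hx hx1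
    have hzo : orderOf ((z : Q) : G) = p := by rw [Subgroup.orderOf_coe, Subgroup.orderOf_coe, hz]
    obtain ⟨a, ha⟩ := htrans (Subgroup.zpowers ((z : Q) : G)) (Subgroup.zpowers x)
      (by rw [Nat.card_zpowers, hzo]) (by rw [Nat.card_zpowers, hxo])
    obtain ⟨w, hw, hwx⟩ := ha.ge (Subgroup.mem_zpowers x)
    have hwZ : w ∈ Z := by
      refine (Subgroup.zpowers_le.2 ?_) hw
      refine Subgroup.mem_inf.2 ⟨(z : Q).2, Subgroup.mem_centralizer_iff.2 fun q hq => ?_⟩
      exact congrArg Subtype.val (Subgroup.mem_center_iff.1 z.2 ⟨q, hq⟩)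
    rw [← hwx]
    refine Subgroup.mem_inf.2 ⟨(hQa a).le ⟨w, (Subgroup.mem_inf.1 hwZ).1, rfl⟩,
      Subgroup.mem_centralizer_iff.2 fun q hq => ?_⟩
    obtain ⟨q', hq', rfl⟩ := (hQa a).ge hq
    rw [← map_mul, ← map_mul, Subgroup.mem_centralizer_iff.1 (Subgroup.mem_inf.1 hwZ).2 q' hq']
  -- `K = O_{p,p'}(G)`
  let π := QuotientGroup.mk' Q
  set K := (pPrimeCore p (G ⧸ Q)).comap π with hK
  haveI : K.Normal := (pPrimeCore_normal p _).comap π
  have hQK : Q ≤ K := CfsgLib.PLocal.le_comap_mk' Q _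
  have hKne : pPrimeCore p (G ⧸ Q) ≠ ⊥ := by
    haveI : Nontrivial (G ⧸ Q) := Finite.one_lt_card_iff_nontrivial.1 (by
      rw [← Subgroup.index_eq_card]
      exact lt_of_lt_of_le hpp.one_lt (Nat.le_of_dvd (Nat.pos_of_ne_zero Subgroup.index_ne_zero_of_finite) hd))
    exact (CfsgLib.PLocal.pCore_ne_bot_or_pPrimeCore_ne_bot
      (CfsgLib.PLocal.isPSolvable_quotient hG Q)).resolve_left fun h => h (pCore_quotient_pCore p G)
  have hKa : ∀ a : MulAut G, K.map a.toMonoidHom = K := by
    intro a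
    let abar := QuotientGroup.congr Q Q a (hQa a)
    ext x
    rw [Subgroup.mem_map_equiv, hK, Subgroup.mem_comap, Subgroup.mem_comap]
    have h1 : abar (π (a.symm x)) = π x := by
      exact congrArg π (MulEquiv.apply_symm_apply a x)
    rw [← h1]
    conv_rhs => rw [← map_pPrimeCore_mulEquiv abar]
    exact ⟨fun h => ⟨_, h, rfl⟩, fun ⟨y, hy, he⟩ => abar.injective he ▸ hy⟩
  -- a complement of `Q` in `K`
  have hcard : Nat.card K = Nat.card (pPrimeCore p (G ⧸ Q)) * Nat.card Q := by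
    rw [hK, card_comap_mk', mul_comm]
  have hKD := CfsgLib.Coprime.hallD_compl_of_pSolvable (CfsgLib.PLocal.isPSolvable_subgroup hG K)
  obtain ⟨H', hH', -⟩ := id hKD
  set H := H'.map K.subtype with hH
  have hHK : H ≤ K := Subgroup.map_subtype_le _
  have hHsub : H.subgroupOf K = H' := Subgroup.comap_map_eq_self_of_injective K.subtype_injective _
  obtain ⟨hHcop', n, hn⟩ := (CfsgLib.Coprime.piHall_compl_iff hpp).1 hH'
  have hHc : Nat.card H = Nat.card H' := Subgroup.card_map_of_injective K.subtype_injective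
  have hHcop : (Nat.card H).Coprime p := hHc ▸ hHcop'
  have hfr : K ⊔ Subgroup.normalizer (H : Set G) = ⊤ :=
    CfsgLib.Coprime.HallD.frattini hKD hHK (hHsub.symm ▸ hH')
  obtain ⟨b, hb⟩ := IsPGroup.iff_card.1 hQp
  have hdis : Q ⊓ H = ⊥ := CfsgLib.Coprime.inf_eq_bot_of_coprime
    (hb ▸ (Nat.Coprime.pow_right b hHcop).symm)
  have hQH : Q ⊔ H = K := by
    refine Subgroup.eq_of_le_of_card_ge (sup_le hQK hHK) (le_of_eq ?_)
    rw [sup_comm, CfsgLib.Coprime.card_sup_of_inf_eq_bot
      (Subgroup.normalizer_eq_top (H := Q) ▸ le_top) (by rw [inf_comm]; exact hdis)]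
    have h1 := H'.card_mul_index
    rw [← hHc, hn, hcard, hb] at h1
    have h2 : Nat.card H = Nat.card (pPrimeCore p (G ⧸ Q)) :=
      Nat.dvd_antisymm ((Nat.Coprime.pow_right b hHcop).dvd_of_dvd_mul_right (Dvd.intro _ h1))
        ((Nat.Coprime.pow_right n (pPrimeCore_coprime p _)).dvd_of_dvd_mul_right (Dvd.intro _ h1.symm))
    rw [hcard, h2]
  have hnorm : Q ⊔ Subgroup.normalizer (H : Set G) = ⊤ := by
    rw [eq_top_iff, ← hfr, ← hQH]
    exact sup_le (sup_le le_sup_left (le_sup_of_le_right Subgroup.le_normalizer)) le_sup_right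
  -- the normalizer meets `Q` trivially
  have hfree : Q ⊓ Subgroup.normalizer (H : Set G) = ⊥ := by
    by_contra hne
    have hp' : IsPGroup p (Q ⊓ Subgroup.normalizer (H : Set G) : Subgroup G) := hQp.to_le inf_le_left
    obtain ⟨k, hk⟩ := IsPGroup.iff_card.1 hp'
    obtain ⟨y, hy⟩ := exists_prime_orderOf_dvd_card' p
      (G := (Q ⊓ Subgroup.normalizer (H : Set G) : Subgroup G)) (hk ▸ dvd_pow_self p fun h => hne
        (Subgroup.eq_bot_of_card_eq _ (by rw [hk, h, pow_zero])))
    obtain ⟨hyQ, hyN⟩ := Subgroup.mem_inf.1 y.2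
    have hyp : (y : G) ^ p = 1 := by rw [← hy, ← Subgroup.orderOf_coe, pow_orderOf_eq_one]
    have hy1 : (y : G) ≠ 1 := fun h => hpp.ne_one (by
      rw [← hy, ← Subgroup.orderOf_coe, h, orderOf_one])
    have hycomm : ∀ k ∈ K, Commute k (y : G) := by
      have hle : K ≤ Subgroup.centralizer ({(y : G)} : Set G) := by
        rw [← hQH]
        refine sup_le (fun q hq => Subgroup.mem_centralizer_singleton_iff.2
          (Subgroup.mem_centralizer_iff.1 (Subgroup.mem_inf.1 (hcen _ hyp)).2 q hq)) fun h hh => ?_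
        refine Subgroup.mem_centralizer_singleton_iff.2 ?_
        have h1 : (y : G) * h * (y : G)⁻¹ * h⁻¹ ∈ Q ⊓ H := Subgroup.mem_inf.2
          ⟨by rw [mul_assoc (y : G), mul_assoc (y : G)]
              exact Q.mul_mem hyQ (Subgroup.Normal.conj_mem inferInstance _ (Q.inv_mem hyQ) h),
           H.mul_mem ((Subgroup.mem_normalizer_iff.1 hyN h).1 hh) (H.inv_mem hh)⟩
        rw [hdis, Subgroup.mem_bot, mul_inv_eq_one, mul_inv_eq_iff_eq_mul] at h1
        exact h1.symm
      exact fun k hk => Subgroup.mem_centralizer_singleton_iff.1 (hle hk)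
    have hfix : ∀ x ∈ Q, x ^ p = 1 → ∀ h ∈ H, Commute h x := by
      intro x _ hxp h hh
      by_cases hx1 : x = 1
      · exact hx1 ▸ Commute.one_right h
      obtain ⟨a, ha⟩ := htrans (Subgroup.zpowers (y : G)) (Subgroup.zpowers x)
        (by rw [Nat.card_zpowers, orderOf_eq_prime hyp hy1])
        (by rw [Nat.card_zpowers, orderOf_eq_prime hxp hx1])
      obtain ⟨w, hw, hwx⟩ := ha.ge (Subgroup.mem_zpowers x)
      obtain ⟨i, rfl⟩ := Subgroup.mem_zpowers_iff.1 hw
      obtain ⟨k, hk, rfl⟩ := (hKa a).ge (hHK hh)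
      rw [← hwx]
      exact ((hycomm k hk).zpow_right i).map a.toMonoidHom
    have hHQ : H ≤ Q := (CfsgLib.OddOrder.le_centralizer_of_fix_order_prime hp Q H hQp hHcop
      (Subgroup.normalizer_eq_top (H := Q) ▸ le_top) hfix).trans
        (CfsgLib.PLocal.centralizer_pCore_le hG hO)
    refine hKne ?_
    rw [← map_mk'_comap Q (pPrimeCore p (G ⧸ Q)), map_mk'_eq_bot_iff]
    change K ≤ Q
    rw [← hQH]
    exact sup_le le_rfl hHQ
  have hNc : Nat.card (Subgroup.normalizer (H : Set G)) = Q.index := by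
    have h1 := CfsgLib.Coprime.card_sup_of_inf_eq_bot
      (H := Subgroup.normalizer (H : Set G)) (N := Q) (Subgroup.normalizer_eq_top (H := Q) ▸ le_top)
      (by rw [inf_comm]; exact hfree)
    rw [sup_comm, hnorm, Subgroup.card_top, ← Subgroup.card_mul_index Q] at h1
    refine (Nat.eq_of_mul_eq_mul_left (Nat.card_pos (α := Q)) ?_).symm
    rw [h1, mul_comm]
  obtain ⟨y, hy⟩ := exists_prime_orderOf_dvd_card' p (hNc.symm ▸ hd)
  have hyp : (y : G) ^ p = 1 := by rw [← hy, ← Subgroup.orderOf_coe, pow_orderOf_eq_one]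
  have h1 : (y : G) ∈ Q ⊓ Subgroup.normalizer (H : Set G) :=
    Subgroup.mem_inf.2 ⟨(Subgroup.mem_inf.1 (hcen _ hyp)).1, y.2⟩
  rw [hfree, Subgroup.mem_bot] at h1
  exact hpp.ne_one (by rw [← hy, ← Subgroup.orderOf_coe, h1, orderOf_one])

/-- Transitivity passes to the quotient by the `p'`-core. -/
theorem trans_quotient
    (htrans : ∀ U V : Subgroup G, Nat.card U = p → Nat.card V = p →
      ∃ a : MulAut G, U.map a.toMonoidHom = V)
    (U V : Subgroup (G ⧸ pPrimeCore p G)) (hU : Nat.card U = p) (hV : Nat.card V = p) :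
    ∃ a : MulAut (G ⧸ pPrimeCore p G), U.map a.toMonoidHom = V := by
  classical
  have hpp : p.Prime := Fact.out
  set O := pPrimeCore p G with hO
  have lift : ∀ W : Subgroup (G ⧸ O), Nat.card W = p →
      ∃ W' : Subgroup G, Nat.card W' = p ∧ W'.map (QuotientGroup.mk' O) = W := by
    intro W hW
    obtain ⟨w, hw⟩ := exists_prime_orderOf_dvd_card' p (G := W) hW.symm.dvd
    obtain ⟨x, hx⟩ := QuotientGroup.mk'_surjective O (w : G ⧸ O)
    set c := Nat.card O with hc
    have hcp : c.Coprime p := pPrimeCore_coprime p G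
    have hxp : x ^ p ∈ O := by
      rw [← QuotientGroup.eq_one_iff, ← QuotientGroup.mk'_apply, map_pow, hx]
      exact orderOf_dvd_iff_pow_eq_one.1 (by rw [Subgroup.orderOf_coe, hw])
    set y := x ^ c with hy
    have hyp : y ^ p = 1 := by
      rw [hy, ← pow_mul, mul_comm, pow_mul]
      have := pow_card_eq_one' (G := O) (x := ⟨x ^ p, hxp⟩)
      exact congrArg Subtype.val this
    have hmap : (Subgroup.zpowers y).map (QuotientGroup.mk' O) = W := by
      rw [MonoidHom.map_zpowers, hy, map_pow, hx]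
      refine Subgroup.eq_of_le_of_card_ge (Subgroup.zpowers_le.2 (W.pow_mem w.2 _)) (le_of_eq ?_)
      rw [hW, Nat.card_zpowers, Nat.Coprime.orderOf_pow (by rw [Subgroup.orderOf_coe, hw]; exact hcp.symm),
        Subgroup.orderOf_coe, hw]
    have hy1 : y ≠ 1 := fun h => by
      rw [h, Subgroup.zpowers_one_eq_bot, Subgroup.map_bot] at hmap
      rw [← hmap, Subgroup.card_bot] at hW
      exact hpp.ne_one hW.symm
    exact ⟨_, by rw [Nat.card_zpowers, orderOf_eq_prime hyp hy1], hmap⟩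
  obtain ⟨U', hU', hUe⟩ := lift U hU
  obtain ⟨V', hV', hVe⟩ := lift V hV
  obtain ⟨a, ha⟩ := htrans U' V' hU' hV'
  refine ⟨QuotientGroup.congr O O a (map_pPrimeCore_mulEquiv a), ?_⟩
  rw [← hUe, ← hVe, ← ha, Subgroup.map_map, Subgroup.map_map]
  rfl

theorem pLengthLE_one (hp : p ≠ 2) (hG : IsPSolvable p G)
    (htrans : ∀ U V : Subgroup G, Nat.card U = p → Nat.card V = p →
      ∃ a : MulAut G, U.map a.toMonoidHom = V) : PLengthLE p 1 G := by
  have h1 : (upperPSeries p G 1).1 = pPrimeCore p G := by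
    rw [CfsgLib.PLocal.upperPSeries_odd p G 0]
    exact comap_mk'_pPrimeCore (upperPSeries p G 0).1
      (by rw [CfsgLib.PLocal.upperPSeries_zero, Subgroup.card_bot]; exact Nat.coprime_one_left p)
  have key := not_dvd_index hp (CfsgLib.PLocal.isPSolvable_quotient hG (pPrimeCore p G))
    (pPrimeCore_quotient_pPrimeCore p G) (trans_quotient htrans)
  have key' : ∀ (N : Subgroup G) [N.Normal], N = pPrimeCore p G →
      ¬ p ∣ (pCore p (G ⧸ N)).index := by
    intro N _ hN
    subst hN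
    exact key
  have h2 : ¬ p ∣ (upperPSeries p G (2 * 0 + 2)).1.index := by
    rw [CfsgLib.PLocal.upperPSeries_even p G 0,
      Subgroup.index_comap_of_surjective _ (QuotientGroup.mk'_surjective _)]
    exact key' _ h1
  unfold PLengthLE
  rw [show 2 * 1 + 1 = 2 * 1 + 1 from rfl, CfsgLib.PLocal.upperPSeries_odd p G 1]
  rw [(pPrimeCore_eq_top_iff).2 ?_, Subgroup.comap_top]
  rw [← Subgroup.index_eq_card]
  exact ((Nat.Prime.coprime_iff_not_dvd Fact.out).2 h2).symm

end CfsgLib.Recog.GaschutzYen
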