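import Mathlib

/-!
The group of distance-preserving permutations of a Hamming space is primitive and, in dimension at
least two, not doubly transitive.
-/

set_option autoImplicit false
set_option maxHeartbeats 400000

namespace CfsgLib.Recog

variable {ι α : Type*} [Fintype ι] {m : ℕ} (Θ : α ≃ (ι → ZMod m))

/-- The permutations of `α` preserving the Hamming distance transported along `Θ`. -/
def hammingGroup : Subgroup (Equiv.Perm α) where
  carrier := {f | ∀ a b, hammingDist (Θ (f a)) (Θ (f b)) = hammingDist (Θ a) (Θ b)}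
  one_mem' := fun a b => rfl
  mul_mem' := fun {f g} hf hg a b => (hf (g a) (g b)).trans (hg a b)
  inv_mem' := fun {f} hf a b => by
    have h := hf (f⁻¹ a) (f⁻¹ b)
    simp only [Equiv.Perm.coe_inv, Equiv.apply_symm_apply] at h
    exact h.symm

theorem mem_hammingGroup {f : Equiv.Perm α} :
    f ∈ hammingGroup Θ ↔ ∀ a b, hammingDist (Θ (f a)) (Θ (f b)) = hammingDist (Θ a) (Θ b) := Iff.rfl

/-- A coordinatewise permutation lies in the Hamming group. -/
theorem piCongrRight_mem (σ : ι → Equiv.Perm (ZMod m)) :
    Θ.trans ((Equiv.piCongrRight σ).trans Θ.symm) ∈ hammingGroup Θ := by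
  refine fun a b => ?_
  simp only [Equiv.trans_apply, Equiv.apply_symm_apply]
  exact hammingDist_comp (fun i => ⇑(σ i)) (fun i => (σ i).injective)

/-- A permutation of the coordinates lies in the Hamming group. -/
theorem arrowCongr_mem (π : Equiv.Perm ι) :
    Θ.trans ((Equiv.arrowCongr π (Equiv.refl _)).trans Θ.symm) ∈ hammingGroup Θ := by
  refine fun a b => ?_
  simp only [Equiv.trans_apply, Equiv.apply_symm_apply]
  simp only [hammingDist]
  refine (Finset.card_equiv π fun i => ?_).symm
  simp

/-- The Hamming group is primitive for alphabets of size at least three. -/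
theorem hammingGroup_isPreprimitive [DecidableEq ι] (hm : 3 ≤ m) :
    MulAction.IsPreprimitive (hammingGroup Θ) α := by
  haveI : NeZero m := ⟨by omega⟩
  let T : (ι → ZMod m) → hammingGroup Θ := fun v => ⟨_, piCongrRight_mem Θ fun i => Equiv.addRight (v i)⟩
  have hT : ∀ v a, Θ ((T v) • a) = Θ a + v := fun v a => by
    change Θ (Θ.symm _) = _
    rw [Equiv.apply_symm_apply]
    rfl
  haveI : MulAction.IsPretransitive (hammingGroup Θ) α :=
    ⟨fun a b => ⟨T (Θ b - Θ a), Θ.injective (by rw [hT, add_sub_cancel])⟩⟩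
  refine MulAction.IsPreprimitive.of_isTrivialBlock_base (Θ.symm 0) fun {B} h0 hB => ?_
  by_cases hs : B.Subsingleton
  · exact Or.inl hs
  obtain ⟨y, hy, hy0⟩ : ∃ y ∈ B, y ≠ Θ.symm 0 := by
    by_contra hall
    push_neg at hall
    exact hs fun a ha b hb => (hall a ha).trans (hall b hb).symm
  refine Or.inr (Set.eq_univ_of_forall fun z => ?_)
  -- moving a point of the block to another moves the block onto itself
  have hblock : ∀ (g : hammingGroup Θ), ∀ a ∈ B, g • a ∈ B → ∀ c ∈ B, g • c ∈ B := by
    intro g a ha hga c hc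
    have h := hB.smul_eq_of_mem ha hga
    rw [← h]
    exact Set.smul_mem_smul_set hc
  have hfix : ∀ f : hammingGroup Θ, f • Θ.symm 0 = Θ.symm 0 → ∀ a ∈ B, f • a ∈ B :=
    fun f hf => hblock f _ h0 (hf.symm ▸ h0)
  obtain ⟨i, hi⟩ : ∃ i, Θ y i ≠ 0 := Function.ne_iff.1 fun h => hy0 (Θ.injective (h.trans (Θ.apply_symm_apply 0).symm))
  obtain ⟨c, hc0, hci⟩ : ∃ c : ZMod m, c ≠ 0 ∧ c ≠ Θ y i := by
    obtain ⟨c, -, hc⟩ := Finset.exists_mem_notMem_of_card_lt_card (t := (Finset.univ : Finset (ZMod m)))
      (s := ({0, Θ y i} : Finset (ZMod m))) (by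
        rw [Finset.card_univ, ZMod.card]
        exact lt_of_le_of_lt Finset.card_le_two (by omega))
    simp only [Finset.mem_insert, Finset.mem_singleton, not_or] at hc
    exact ⟨c, hc⟩
  -- the block contains a point of weight one
  let f₁ : hammingGroup Θ := ⟨_, piCongrRight_mem Θ (Function.update 1 i (Equiv.swap (Θ y i) c))⟩
  have hf₁ : ∀ a, Θ (f₁ • a) = Function.update (Θ a) i (Equiv.swap (Θ y i) c (Θ a i)) := fun a => by
    change Θ (Θ.symm _) = _
    rw [Equiv.apply_symm_apply]
    funext j
    rcases eq_or_ne j i with rfl | hj <;> simp [Function.update_of_ne, *]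
  have hy' : f₁ • y ∈ B := by
    refine hfix f₁ (Θ.injective ?_) y hy
    rw [hf₁, Equiv.apply_symm_apply, Pi.zero_apply, Equiv.swap_apply_of_ne_of_ne hi.symm hc0.symm]
    simp
  have hw : Θ.symm (Pi.single i (c - Θ y i)) ∈ B := by
    have h1 := hblock (T (-Θ y)) y hy (by
      rw [show T (-Θ y) • y = Θ.symm 0 from Θ.injective (by rw [hT, Equiv.apply_symm_apply, add_neg_cancel])]
      exact h0) _ hy'
    convert h1 using 1
    refine Θ.injective ?_
    rw [hT, Equiv.apply_symm_apply, hf₁, Equiv.swap_apply_left]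
    funext j
    rcases eq_or_ne j i with rfl | hj <;> simp [Function.update_of_ne, sub_eq_add_neg, *]
  -- hence every point of weight one
  have hone : ∀ (j : ι) (d : ZMod m), d ≠ 0 → Θ.symm (Pi.single j d) ∈ B := by
    intro j d hd
    have h1 := hfix ⟨_, arrowCongr_mem Θ (Equiv.swap i j)⟩ (Θ.injective (by
      change Θ (Θ.symm _) = _
      rw [Equiv.apply_symm_apply, Equiv.apply_symm_apply]; rfl)) _ hw
    have h2 := hfix ⟨_, piCongrRight_mem Θ (Function.update 1 j (Equiv.swap (c - Θ y i) d))⟩
      (Θ.injective (by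
        change Θ (Θ.symm _) = _
        rw [Equiv.apply_symm_apply, Equiv.apply_symm_apply]
        funext k
        rcases eq_or_ne k j with rfl | hk
        · simp [Equiv.swap_apply_of_ne_of_ne (sub_ne_zero.2 hci).symm hd.symm]
        · simp [Function.update_of_ne, hk])) _ h1
    convert h2 using 1
    refine Θ.injective ?_
    change _ = Θ (Θ.symm _)
    rw [Equiv.apply_symm_apply, Equiv.apply_symm_apply]
    funext k
    simp only [Equiv.piCongrRight_apply, Pi.map_apply]
    change _ = (Function.update (1 : ι → Equiv.Perm (ZMod m)) j (Equiv.swap (c - Θ y i) d) k) (Θ (Θ.symm _) k)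
    rw [Equiv.apply_symm_apply]
    rcases eq_or_ne k j with rfl | hk
    · simp [Equiv.arrowCongr]
    · rcases eq_or_ne k i with rfl | hki
      · simp [Equiv.arrowCongr, Function.update_of_ne, hk, Pi.single_eq_of_ne hk.symm]
      · simp [Equiv.arrowCongr, Function.update_of_ne, hk, hki, Equiv.swap_apply_of_ne_of_ne hki hk]
  -- and every point
  have hall : ∀ (s : Finset ι) (v : ι → ZMod m), (∀ k ∉ s, v k = 0) → Θ.symm v ∈ B := by
    intro s
    induction s using Finset.induction_on with
    | empty =>
      intro v hv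
      rwa [show v = 0 from funext fun k => hv k (Finset.notMem_empty k)]
    | @insert j s hj ih =>
      intro v hv
      have hmem : Θ.symm (Function.update v j 0) ∈ B := ih _ fun k hk => by
        rcases eq_or_ne k j with rfl | hkj
        · simp
        · rw [Function.update_of_ne hkj]; exact hv k (by simp [hkj, hk])
      by_cases hd : v j = 0
      · rwa [← hd, Function.update_eq_self] at hmem
      have h1 := hblock (T (Pi.single j (v j))) _ h0 (by
        rw [show T (Pi.single j (v j)) • Θ.symm 0 = Θ.symm (Pi.single j (v j)) from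
          Θ.injective (by rw [hT, Equiv.apply_symm_apply, Equiv.apply_symm_apply, zero_add])]
        exact hone j _ hd) _ hmem
      convert h1 using 1
      refine Θ.injective ?_
      rw [hT, Equiv.apply_symm_apply, Equiv.apply_symm_apply]
      funext k
      rcases eq_or_ne k j with rfl | hkj <;> simp [Function.update_of_ne, *]
  simpa using hall Finset.univ (Θ z) fun k hk => absurd (Finset.mem_univ k) hk

/-- The Hamming group is not doubly transitive in dimension at least two. -/
theorem hammingGroup_not_two_transitive (hm : 2 ≤ m) (hr : 2 ≤ Fintype.card ι) :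
    ¬ MulAction.IsMultiplyPretransitive (hammingGroup Θ) α 2 := by
  classical
  haveI : Fact (1 < m) := ⟨hm⟩
  obtain ⟨i, j, hij⟩ := Fintype.exists_pair_of_one_lt_card hr
  intro h
  rw [MulAction.is_two_pretransitive_iff] at h
  set v : ι → ZMod m := Pi.single i 1
  set w : ι → ZMod m := Pi.single i 1 + Pi.single j 1
  have hw : w ≠ 0 := fun h' => by simpa [w, Pi.single_eq_of_ne hij] using congrFun h' i
  have hv : v ≠ 0 := fun h' => by simpa [v] using congrFun h' i
  obtain ⟨g, h1, h2⟩ := h (a := Θ.symm 0) (b := Θ.symm v) (c := Θ.symm 0) (d := Θ.symm w)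
    (fun h' => hv (Θ.symm.injective h').symm) (fun h' => hw (Θ.symm.injective h').symm)
  have h3 := g.2 (Θ.symm 0) (Θ.symm v)
  change hammingDist (Θ (g • Θ.symm 0)) (Θ (g • Θ.symm v)) = _ at h3
  rw [h1, h2] at h3
  simp only [Equiv.apply_symm_apply, hammingDist_zero_left] at h3
  have h4 : hammingNorm v = 1 := by
    rw [hammingNorm, Finset.card_eq_one]
    exact ⟨i, by ext k; simp [v, Pi.single_apply]⟩
  have h5 : 1 < hammingNorm w := by
    rw [hammingNorm, Finset.one_lt_card]
    exact ⟨i, by simp [w, Pi.single_eq_of_ne hij], j, by simp [w, Pi.single_eq_of_ne hij.symm], hij⟩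
  omega

end CfsgLib.Recog
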