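import Mathlib

/-!
A coset enumeration: a group generated by `x, y` with `x ^ 3 = y ^ 5 = (x y) ^ 2 = 1` has at most
sixty elements.
-/

set_option autoImplicit false

namespace CfsgLib.Recog

open scoped Pointwise

theorem card_le_sixty_of_relations {P : Type*} [Group P] (x y : P) (hx : x ^ 3 = 1) (hy : y ^ 5 = 1)
    (hxy : (x * y) ^ 2 = 1) (hgen : Subgroup.closure ({x, y} : Set P) = ⊤) :
    Finite P ∧ Nat.card P ≤ 60 := by
  classical
  set H := Subgroup.zpowers y with hH
  set c0 : P ⧸ H := ((1 : P) : P ⧸ H) with hc0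
  have hy0 : y • c0 = c0 := by
    rw [hc0, MulAction.Quotient.smul_coe, QuotientGroup.eq]
    simpa [hH] using inv_mem (Subgroup.mem_zpowers y)
  have rx : ∀ c : P ⧸ H, x • x • x • c = c := fun c => by
    rw [smul_smul, smul_smul, ← pow_three', hx, one_smul]
  have ry : ∀ c : P ⧸ H, y • y • y • y • y • c = c := fun c => by
    simp only [smul_smul]
    rw [show y * (y * (y * (y * y))) = y ^ 5 by simp [pow_succ, mul_assoc], hy, one_smul]
  have rz : ∀ c : P ⧸ H, x • y • x • y • c = c := fun c => by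
    simp only [smul_smul]
    rw [show x * (y * (x * y)) = (x * y) ^ 2 by simp [pow_succ, mul_assoc], hxy, one_smul]
  have e0 : y • c0 = c0 := hy0
  obtain ⟨c1, e1⟩ : ∃ c, x • c0 = c := ⟨_, rfl⟩
  obtain ⟨c2, e2⟩ : ∃ c, x • c1 = c := ⟨_, rfl⟩
  have e3 : x • c2 = c0 := by
    have h := rx c0
    simp only [e1, e2] at h
    exact h
  have e4 : y • c1 = c2 := by
    have h := rz c0
    simp only [e0, e1] at h
    refine MulAction.injective x ?_
    exact h.trans (by simp only [e3])
  obtain ⟨c3, e5⟩ : ∃ c, y • c2 = c := ⟨_, rfl⟩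
  obtain ⟨c4, e6⟩ : ∃ c, x • c3 = c := ⟨_, rfl⟩
  have e7 : y • c4 = c1 := by
    have h := rz c2
    simp only [e5, e6] at h
    refine MulAction.injective x ?_
    exact h.trans (by simp only [e2])
  obtain ⟨c5, e8⟩ : ∃ c, y • c3 = c := ⟨_, rfl⟩
  have e9 : y • c5 = c4 := by
    have h := ry c1
    simp only [e4, e5, e8] at h
    refine MulAction.injective y ?_
    exact h.trans (by simp only [e7])
  obtain ⟨c6, e10⟩ : ∃ c, x • c4 = c := ⟨_, rfl⟩
  have e11 : x • c6 = c3 := by
    have h := rx c3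
    simp only [e6, e10] at h
    exact h
  obtain ⟨c7, e12⟩ : ∃ c, x • c5 = c := ⟨_, rfl⟩
  have e13 : y • c7 = c6 := by
    have h := rz c3
    simp only [e8, e12] at h
    refine MulAction.injective x ?_
    exact h.trans (by simp only [e11])
  obtain ⟨c8, e14⟩ : ∃ c, y • c6 = c := ⟨_, rfl⟩
  have e15 : x • c8 = c5 := by
    have h := rz c5
    simp only [e9, e10, e14] at h
    exact h
  have e16 : x • c7 = c8 := by
    have h := rx c7
    refine MulAction.injective x (MulAction.injective x ?_)
    exact h.trans (by simp only [e15, e12])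
  obtain ⟨c9, e17⟩ : ∃ c, y • c8 = c := ⟨_, rfl⟩
  obtain ⟨c10, e18⟩ : ∃ c, x • c9 = c := ⟨_, rfl⟩
  have e19 : y • c10 = c7 := by
    have h := rz c8
    simp only [e17, e18] at h
    refine MulAction.injective x ?_
    exact h.trans (by simp only [e16])
  have e20 : y • c9 = c10 := by
    have h := ry c9
    refine MulAction.injective y (MulAction.injective y (MulAction.injective y (MulAction.injective y ?_)))
    exact h.trans (by simp only [e19, e13, e14, e17])
  obtain ⟨c11, e21⟩ : ∃ c, x • c10 = c := ⟨_, rfl⟩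
  have e22 : x • c11 = c9 := by
    have h := rx c9
    simp only [e18, e21] at h
    exact h
  have e23 : y • c11 = c11 := by
    have h := rz c9
    simp only [e20, e21] at h
    refine MulAction.injective x ?_
    exact h.trans (by simp only [e22])
  set S : Finset (P ⧸ H) := {c0, c1, c2, c3, c4, c5, c6, c7, c8, c9, c10, c11} with hS
  have hclosed : ∀ g ∈ ({x, y} : Set P), ∀ c ∈ S, g • c ∈ S := by
    intro g hg c hc
    simp only [hS, Finset.mem_insert, Finset.mem_singleton] at hc ⊢
    rcases hg with rfl | rfl <;> rcases hc with rfl | rfl | rfl | rfl | rfl | rfl | rfl | rfl | rfl | rfl | rfl | rfl <;>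
      simp only [e0, e1, e2, e3, e4, e5, e6, e7, e8, e9, e10, e11, e12, e13, e14, e15, e16, e17, e18, e19, e20, e21, e22, e23, true_or, or_true]
  have hstab : ∀ g : P, g • (S : Set (P ⧸ H)) = S := by
    intro g
    have h : Subgroup.closure ({x, y} : Set P) ≤ MulAction.stabilizer P (S : Set (P ⧸ H)) := by
      rw [Subgroup.closure_le]
      intro a ha
      rw [SetLike.mem_coe, MulAction.mem_stabilizer_set' S.finite_toSet]
      exact fun c hc => hclosed a ha c hc
    exact MulAction.mem_stabilizer_iff.1 (h (hgen ▸ Subgroup.mem_top g))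
  have hall : ∀ q : P ⧸ H, q ∈ S := by
    intro q
    obtain ⟨g, rfl⟩ := QuotientGroup.mk_surjective q
    have h1 : g • c0 ∈ g • (S : Set (P ⧸ H)) := Set.smul_mem_smul_set (by simp [hS])
    rw [hstab g, hc0, MulAction.Quotient.smul_coe, smul_eq_mul, mul_one] at h1
    exact h1
  let f : Fin 12 → P ⧸ H := ![c0, c1, c2, c3, c4, c5, c6, c7, c8, c9, c10, c11]
  have hf : Function.Surjective f := fun q => by
    have h := hall q
    simp only [hS, Finset.mem_insert, Finset.mem_singleton] at h
    rcases h with rfl | rfl | rfl | rfl | rfl | rfl | rfl | rfl | rfl | rfl | rfl | rfl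
    · exact ⟨0, rfl⟩
    · exact ⟨1, rfl⟩
    · exact ⟨2, rfl⟩
    · exact ⟨3, rfl⟩
    · exact ⟨4, rfl⟩
    · exact ⟨5, rfl⟩
    · exact ⟨6, rfl⟩
    · exact ⟨7, rfl⟩
    · exact ⟨8, rfl⟩
    · exact ⟨9, rfl⟩
    · exact ⟨10, rfl⟩
    · exact ⟨11, rfl⟩
  haveI : Finite (P ⧸ H) := Finite.of_surjective f hf
  haveI : Finite H := Nat.finite_of_card_ne_zero (by
    rw [hH, Nat.card_zpowers]
    exact fun h => by
      have := orderOf_dvd_of_pow_eq_one hy
      rw [h] at this
      norm_num at this)
  refine ⟨Nat.finite_of_card_ne_zero (by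
    rw [Subgroup.card_eq_card_quotient_mul_card_subgroup H]
    exact mul_ne_zero Nat.card_pos.ne' Nat.card_pos.ne'), ?_⟩
  have h12 : Nat.card (P ⧸ H) ≤ 12 := by
    simpa using Nat.card_le_card_of_surjective f hf
  have h5 : Nat.card H ≤ 5 := by
    rw [hH, Nat.card_zpowers]
    exact Nat.le_of_dvd (by norm_num) (orderOf_dvd_of_pow_eq_one hy)
  rw [Subgroup.card_eq_card_quotient_mul_card_subgroup H]
  exact (Nat.mul_le_mul h12 h5)

end CfsgLib.Recog
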