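import Mathlib

/-!
An automorphism of prime order `r` preserving a non-degenerate pairing on a space of dimension `n`
over the field with `s` elements forces `r ≤ s ^ i + 1` for some `i` with `2 * i ≤ n`.
-/

set_option autoImplicit false
set_option maxHeartbeats 400000

open Polynomial

namespace CfsgLib.Recog.PairingPrime

variable {s : ℕ} [Fact s.Prime] {W : Type*} [AddCommGroup W] [Module (ZMod s) W] [Finite W]
  {Z : Type*} [AddCommGroup Z] (c : W →+ W →+ Z)

/-- Adjointness of polynomials in `T'` and in `T`. -/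
theorem adjoint_aeval {T T' : Module.End (ZMod s) W} (h : ∀ u v, c (T' u) v = c u (T v))
    (P : (ZMod s)[X]) : ∀ u v, c (aeval T' P u) v = c u (aeval T P v) := by
  have hpow : ∀ (n : ℕ) u v, c ((T' ^ n) u) v = c u ((T ^ n) v) := by
    intro n
    induction n with
    | zero => intro u v; simp
    | succ n ih =>
      intro u v
      calc c ((T' ^ (n + 1)) u) v = c (T' ((T' ^ n) u)) v := by rw [pow_succ', Module.End.mul_apply]
        _ = c u ((T ^ n) (T v)) := by rw [h, ih]
        _ = c u ((T ^ (n + 1)) v) := by rw [pow_succ, Module.End.mul_apply]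
  induction P using Polynomial.induction_on' with
  | add P Q hP hQ => intro u v; simp [hP u v, hQ u v]
  | monomial n a =>
    intro u v
    have key : ∀ (S : Module.End (ZMod s) W) (w : W), aeval S (monomial n a) w = a.val • (S ^ n) w :=
      fun S w => by
        rw [aeval_monomial, Module.End.mul_apply, Module.algebraMap_end_apply,
          ← Nat.cast_smul_eq_nsmul (ZMod s), ZMod.natCast_zmod_val]
    rw [key, key, map_nsmul, map_nsmul, AddMonoidHom.nsmul_apply, hpow]

/-- The prime is bounded by the order of a proper subfield plus one. -/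
theorem exists_le_pow_succ {r : ℕ} (hr : r.Prime) (hr2 : 2 < r) (hrs : r ≠ s)
    (T : Module.End (ZMod s) W) (hT : T ^ r = 1) (hT1 : T ≠ 1)
    (hnd : ∀ w, (∀ u, c w u = 0) → w = 0) (hinv : ∀ u v, c (T u) (T v) = c u v) :
    ∃ i : ℕ, 0 < i ∧ 2 * i ≤ Module.finrank (ZMod s) W ∧ r ≤ s ^ i + 1 := by
  classical
  have hint : IsIntegral (ZMod s) T := IsIntegral.of_finite _ T
  set M := minpoly (ZMod s) T with hM
  have hT' : T * T ^ (r - 1) = 1 := by rw [← pow_succ', Nat.sub_add_cancel hr.pos, hT]
  have hadj : ∀ u v, c ((T ^ (r - 1)) u) v = c u (T v) := fun u v => by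
    conv_lhs => rw [← hinv, ← Module.End.mul_apply, hT', Module.End.one_apply]
  have hM' : aeval (T ^ (r - 1)) M = 0 := LinearMap.ext fun u => hnd _ fun v => by
    rw [adjoint_aeval c hadj, hM, minpoly.aeval, LinearMap.zero_apply, map_zero]
  have hMr : M ∣ X ^ r - 1 := minpoly.dvd _ _ (by rw [map_sub, map_pow, aeval_X, map_one, hT, sub_self])
  have hMcomp : M ∣ M.comp (X ^ (r - 1)) :=
    minpoly.dvd _ _ (by rw [aeval_comp, map_pow, aeval_X]; exact hM')
  have hsep : (X ^ r - 1 : (ZMod s)[X]).Separable := by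
    have h1 := separable_X_pow_sub_C (F := ZMod s) (n := r) 1
      (by rw [Ne, ZMod.natCast_eq_zero_iff]
          exact fun h => hrs ((Nat.prime_dvd_prime_iff_eq Fact.out hr).1 h).symm) one_ne_zero
    simpa using h1
  obtain ⟨h, hhi, hhm, hhd, hh1⟩ : ∃ h : (ZMod s)[X], Irreducible h ∧ h.Monic ∧ h ∣ M ∧ h ≠ X - 1 := by
    by_contra! hall
    have hM1 : M ≠ 0 := minpoly.ne_zero hint
    have hnt : ¬ IsUnit M := fun hu => hT1 (by
      have h0 : (1 : (ZMod s)[X]) = M := ((minpoly.monic hint).eq_one_of_isUnit hu).symm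
      have h2 := minpoly.aeval (ZMod s) T
      rw [← hM, ← h0, map_one] at h2
      calc T = T * 1 := (mul_one T).symm
        _ = T * 0 := by rw [h2]
        _ = 0 := mul_zero T
        _ = 1 := h2.symm)
    obtain ⟨Q, hQm, hQi, k, hk⟩ := exists_monic_irreducible_factor M hnt
    have hQ := hall Q hQi hQm ⟨k, hk⟩
    have hkm : k.Monic := hQm.of_mul_monic_left (hk ▸ minpoly.monic hint)
    by_cases hku : IsUnit k
    · refine hT1 ?_
      have h2 := minpoly.aeval (ZMod s) T
      rw [← hM, hk, hkm.eq_one_of_isUnit hku, mul_one, hQ, map_sub, aeval_X, map_one, sub_eq_zero] at h2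
      exact h2
    · obtain ⟨Q', hQ'm, hQ'i, hQ'd⟩ := exists_monic_irreducible_factor _ hku
      have hQ' := hall Q' hQ'i hQ'm (hQ'd.trans ⟨Q, by rw [hk, mul_comm]⟩)
      have hsq : Squarefree M := hsep.squarefree.squarefree_of_dvd hMr
      refine hQi.not_isUnit (hsq Q ?_)
      rw [hk]
      exact mul_dvd_mul_left Q (hQ.trans hQ'.symm ▸ hQ'd)
  haveI : Fact (Irreducible h) := ⟨hhi⟩
  let E := AdjoinRoot h
  set ζ : E := AdjoinRoot.root h with hζ
  let pb := AdjoinRoot.powerBasis hhi.ne_zero
  haveI : Module.Finite (ZMod s) E := pb.finite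
  haveI : Finite E := Module.finite_of_finite (ZMod s)
  set k := Module.finrank (ZMod s) E with hk
  have hkdeg : k = h.natDegree := by rw [hk, pb.finrank, AdjoinRoot.powerBasis_dim]
  have hroot : aeval ζ h = 0 := AdjoinRoot.aeval_eq h ▸ AdjoinRoot.mk_self
  have hzero : ∀ P : (ZMod s)[X], h ∣ P → aeval ζ P = 0 := by
    rintro P ⟨Q, rfl⟩
    rw [map_mul, hroot, zero_mul]
  have hζr : ζ ^ r = 1 := by
    have h1 := hzero _ (hhd.trans hMr)
    simpa [sub_eq_zero] using h1
  have hζ1 : ζ ≠ 1 := by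
    intro h1
    refine hh1 (eq_of_monic_of_associated hhm (by simpa using monic_X_sub_C (1 : ZMod s)) ?_)
    refine hhi.associated_of_dvd (by simpa using irreducible_X_sub_C (1 : ZMod s)) ?_
    rw [← AdjoinRoot.mk_eq_zero, map_sub, AdjoinRoot.mk_X, map_one, ← hζ, h1, sub_self]
  have hord : orderOf ζ = r := by
    haveI : Fact r.Prime := ⟨hr⟩
    exact orderOf_eq_prime hζr hζ1
  have hζ0 : ζ ≠ 0 := fun e => by rw [e, zero_pow hr.ne_zero] at hζr; exact zero_ne_one hζr
  have hζinv : ζ ^ (r - 1) = ζ⁻¹ :=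
    eq_inv_of_mul_eq_one_left (by rw [← pow_succ, Nat.sub_add_cancel hr.pos, hζr])
  have hζ'M : aeval ζ⁻¹ M = 0 := by
    have h1 := hzero _ (hhd.trans hMcomp)
    rwa [aeval_comp, map_pow, aeval_X, hζinv] at h1
  have hMdeg : M.natDegree ≤ Module.finrank (ZMod s) W := by
    rw [← LinearMap.charpoly_natDegree T]
    exact natDegree_le_of_dvd (LinearMap.minpoly_dvd_charpoly T) (LinearMap.charpoly_monic T).ne_zero
  have hkn : k ≤ Module.finrank (ZMod s) W :=
    hkdeg.le.trans ((natDegree_le_of_dvd hhd (minpoly.ne_zero hint)).trans hMdeg)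
  have hcardE : Nat.card E = s ^ k := by
    rw [Module.natCard_eq_pow_finrank (K := ZMod s) (V := E), Nat.card_zmod]
  by_cases hself : aeval ζ⁻¹ h = 0
  · -- the root is conjugate to its inverse
    let σ : E →ₐ[ZMod s] E := AdjoinRoot.liftAlgHom h (Algebra.ofId _ _) ζ⁻¹ (by
      simpa [aeval_def] using hself)
    have hσζ : σ ζ = ζ⁻¹ := AdjoinRoot.liftAlgHom_root _ _ _ _
    let σ' : E ≃ₐ[ZMod s] E :=
      AlgEquiv.ofBijective σ (Finite.injective_iff_bijective.1 σ.toRingHom.injective)
    obtain ⟨i, hi⟩ := (FiniteField.bijective_frobeniusAlgEquivOfAlgebraic_pow (ZMod s) E).2 σ'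
    have hpowap : ∀ (j : ℕ) (x : E),
        (FiniteField.frobeniusAlgEquivOfAlgebraic (ZMod s) E ^ j) x = x ^ s ^ j := by
      intro j
      induction j with
      | zero => intro x; simp
      | succ j ih =>
        intro x
        rw [pow_succ', AlgEquiv.mul_apply, ih]
        change (x ^ s ^ j) ^ Fintype.card (ZMod s) = _
        rw [ZMod.card, ← pow_mul, ← pow_succ]
    have hi' : ζ ^ s ^ (i : ℕ) = ζ⁻¹ := by
      rw [← hpowap]
      exact (DFunLike.congr_fun hi ζ).trans hσζ
    have hi0 : 0 < (i : ℕ) := by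
      by_contra h0
      rw [show (i : ℕ) = 0 by omega, pow_zero, pow_one] at hi'
      have h2 : ζ ^ 2 = 1 := by
        rw [sq]
        nth_rw 2 [hi']
        exact mul_inv_cancel₀ hζ0
      have := orderOf_le_of_pow_eq_one (by norm_num) h2
      omega
    have hik : (i : ℕ) < k := i.2
    have hsk : ζ ^ s ^ k = ζ := by
      letI := Fintype.ofFinite E
      rw [← hcardE, Nat.card_eq_fintype_card, FiniteField.pow_card]
    have hi2 : ζ ^ s ^ (k - i) = ζ⁻¹ := by
      have h1 := congrArg (fun z : E => z ^ s ^ (k - (i : ℕ))) hi'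
      rw [← pow_mul, ← pow_add, Nat.add_sub_cancel' hik.le, hsk, inv_pow] at h1
      rw [eq_comm, inv_eq_iff_eq_inv] at h1
      exact h1
    have hbound : ∀ j, ζ ^ s ^ j = ζ⁻¹ → r ≤ s ^ j + 1 := fun j hj => by
      rw [← hord]
      exact orderOf_le_of_pow_eq_one (Nat.succ_pos _) (by rw [pow_succ, hj, inv_mul_cancel₀ hζ0])
    rcases le_total (2 * (i : ℕ)) k with hle | hle
    · exact ⟨i, hi0, by omega, hbound _ hi'⟩
    · exact ⟨k - i, by omega, by omega, hbound _ hi2⟩
  · -- two distinct factors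
    have hint' : IsIntegral (ZMod s) ζ⁻¹ := IsIntegral.of_finite _ _
    set h' := minpoly (ZMod s) ζ⁻¹ with hh'
    have hh'i : Irreducible h' := minpoly.irreducible hint'
    have hne : ¬ Associated h h' := fun hassoc => hself (by
      exact (congrArg (fun P => aeval ζ⁻¹ P) (eq_of_monic_of_associated hhm (minpoly.monic hint') hassoc)).trans
        (minpoly.aeval _ _))
    have hco : IsCoprime h h' := (hhi.coprime_iff_not_dvd).2 fun hd => hne (hhi.associated_of_dvd hh'i hd)
    have hprod : h * h' ∣ M := hco.mul_dvd hhd (minpoly.dvd _ _ hζ'M)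
    have hdeg : h.natDegree + h'.natDegree ≤ Module.finrank (ZMod s) W := by
      rw [← natDegree_mul hhi.ne_zero hh'i.ne_zero]
      exact (natDegree_le_of_dvd hprod (minpoly.ne_zero hint)).trans hMdeg
    rcases le_total h.natDegree h'.natDegree with hle | hle
    · refine ⟨k, by rw [hkdeg]; exact hhi.natDegree_pos, by omega, ?_⟩
      rw [← hord, ← hcardE]
      exact (orderOf_le_card (x := ζ)).trans (Nat.le_succ _)
    · refine ⟨h'.natDegree, hh'i.natDegree_pos, by omega, ?_⟩
      haveI : Fact (Irreducible h') := ⟨hh'i⟩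
      haveI : Module.Finite (ZMod s) (AdjoinRoot h') := (AdjoinRoot.powerBasis hh'i.ne_zero).finite
      haveI : Finite (AdjoinRoot h') := Module.finite_of_finite (ZMod s)
      let ι : AdjoinRoot h' →ₐ[ZMod s] E :=
        AdjoinRoot.liftAlgHom h' (Algebra.ofId _ _) ζ⁻¹ (by
          simpa [aeval_def] using minpoly.aeval (ZMod s) ζ⁻¹)
      have hord' : orderOf (AdjoinRoot.root h') = r := by
        rw [← orderOf_injective ι.toRingHom.toMonoidHom ι.toRingHom.injective]
        change orderOf (ι (AdjoinRoot.root h')) = r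
        rw [show ι (AdjoinRoot.root h') = ζ⁻¹ from AdjoinRoot.liftAlgHom_root _ _ _ _]
        haveI : Fact r.Prime := ⟨hr⟩
        exact orderOf_eq_prime (by rw [inv_pow, hζr, inv_one]) fun e => hζ1 (inv_eq_one.1 e)
      have hcard' : Nat.card (AdjoinRoot h') = s ^ h'.natDegree := by
        rw [Module.natCard_eq_pow_finrank (K := ZMod s), Nat.card_zmod,
          (AdjoinRoot.powerBasis hh'i.ne_zero).finrank, AdjoinRoot.powerBasis_dim]
      rw [← hord', ← hcard']
      exact orderOf_le_card.trans (Nat.le_succ _)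

end CfsgLib.Recog.PairingPrime
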