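import Mathlib

/-!
Invariant subsets of a permutation of prime order.
-/

set_option autoImplicit false

namespace CfsgLib.Recog

open Equiv Finset

/-- A permutation of prime order `r` of `n` points fixes some `k`-subset as soon as
`k % r ≤ n % r`. -/
theorem exists_invariant_subset {n k r : ℕ} (hr : r.Prime) (hkn : k ≤ n) (hmod : k % r ≤ n % r)
    {σ : Perm (Fin n)} (hσ : orderOf σ = r) : ∃ s : Finset (Fin n), s.card = k ∧ s.image σ = s := by
  obtain ⟨j, hj⟩ := Perm.cycleType_prime_order (σ := σ) (hσ.symm ▸ hr)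
  rw [hσ] at hj
  have hsum := σ.sum_cycleType
  rw [hj, Multiset.sum_replicate, smul_eq_mul] at hsum
  have hcard : σ.cycleFactorsFinset.card = j + 1 := by
    rw [← Multiset.card_replicate (j + 1) r, ← hj, Perm.cycleType_def, Multiset.card_map]
    rfl
  have hsupp : ∀ c ∈ σ.cycleFactorsFinset, c.support.card = r := by
    intro c hc
    refine Multiset.eq_of_mem_replicate (n := j + 1) ?_
    rw [← hj, Perm.cycleType_def]
    exact Multiset.mem_map.2 ⟨c, hc, rfl⟩
  set i := min (j + 1) (k / r) with hi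
  have hir : i * r ≤ k := le_trans (Nat.mul_le_mul_right r (min_le_right _ _)) (Nat.div_mul_le_self k r)
  have hrest : k - i * r ≤ n - (j + 1) * r := by
    rcases le_total (j + 1) (k / r) with h | h
    · rw [hi, min_eq_left h]; omega
    · rw [hi, min_eq_right h]
      have h1 : (j + 1) * r ≤ n := hsum ▸ (card_le_univ _).trans_eq (Fintype.card_fin n)
      have h2 : n / r * r + n % r = n := Nat.div_add_mod' n r
      have h3 : (j + 1) * r ≤ n / r * r :=
        Nat.mul_le_mul_right r ((Nat.le_div_iff_mul_le hr.pos).2 h1)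
      have h4 : k / r * r + k % r = k := Nat.div_add_mod' k r
      omega
  obtain ⟨C, hC, hCc⟩ := exists_subset_card_eq (s := σ.cycleFactorsFinset) (n := i)
    (by rw [hcard]; exact min_le_left _ _)
  obtain ⟨T, hT, hTc⟩ := exists_subset_card_eq (s := σ.supportᶜ) (n := k - i * r)
    (by rw [card_compl, Fintype.card_fin, ← hsum]; exact hrest)
  have hdisj : Disjoint (C.biUnion Perm.support) T := by
    rw [disjoint_biUnion_left]
    intro c hc
    rw [disjoint_left]
    intro x hx hxT
    exact mem_compl.1 (hT hxT) (Perm.mem_cycleFactorsFinset_support_le (hC hc) hx)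
  refine ⟨C.biUnion Perm.support ∪ T, ?_, ?_⟩
  · rw [card_union_of_disjoint hdisj, card_biUnion, sum_congr rfl fun c hc => hsupp c (hC hc),
      sum_const, smul_eq_mul, hCc, hTc]
    · omega
    · intro c hc d hd hcd
      exact Perm.Disjoint.disjoint_support
        (Perm.cycleFactorsFinset_pairwise_disjoint σ (hC hc) (hC hd) hcd)
  · refine eq_of_subset_of_card_le (fun x hx => ?_) (card_image_of_injective _ σ.injective).ge
    obtain ⟨y, hy, rfl⟩ := mem_image.1 hx
    rcases mem_union.1 hy with hy | hy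
    · obtain ⟨c, hc, hyc⟩ := mem_biUnion.1 hy
      refine mem_union_left _ (mem_biUnion.2 ⟨c, hc, ?_⟩)
      rw [← (Perm.mem_cycleFactorsFinset_iff.1 (hC hc)).2 y hyc]
      exact Perm.apply_mem_support.2 hyc
    · rw [Perm.notMem_support.1 (mem_compl.1 (hT hy))]
      exact mem_union_right _ hy

/-- A permutation of prime order `r` with as many cycles as possible fixes only `k`-subsets with
`k % r ≤ n % r`. -/
theorem mod_le_mod_of_invariant {n k r : ℕ} (hr : r.Prime) (hrn : r ≤ n)
    (h : ∀ σ : Perm (Fin n), orderOf σ = r → ∃ s : Finset (Fin n), s.card = k ∧ s.image σ = s) :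
    k % r ≤ n % r := by
  haveI := Fact.mk hr
  obtain ⟨σ, hσ⟩ := (Perm.exists_with_cycleType_iff (Fin n)).2
    (show (Multiset.replicate (n / r) r).sum ≤ Fintype.card (Fin n) ∧
      ∀ a ∈ Multiset.replicate (n / r) r, 2 ≤ a from
      ⟨by rw [Multiset.sum_replicate, smul_eq_mul, Fintype.card_fin]; exact Nat.div_mul_le_self n r,
        fun a ha => by rw [Multiset.eq_of_mem_replicate ha]; exact hr.two_le⟩)
  have ho : orderOf σ = r := by
    rw [← Perm.lcm_cycleType, hσ]
    refine Nat.dvd_antisymm (Multiset.lcm_dvd.2 fun a ha => (Multiset.eq_of_mem_replicate ha).dvd)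
      (Multiset.dvd_lcm (Multiset.mem_replicate.2 ⟨?_, rfl⟩))
    exact (Nat.div_pos hrn hr.pos).ne'
  obtain ⟨s, hs, hinv⟩ := h σ ho
  have hmem : ∀ x, σ x ∈ s ↔ x ∈ s := fun x => by
    conv_lhs => rw [← hinv]
    exact ⟨fun hx => by
      obtain ⟨y, hy, hyx⟩ := mem_image.1 hx
      exact σ.injective hyx ▸ hy, fun hx => mem_image_of_mem σ hx⟩
  set τ : Perm {x // x ∈ s} := σ.subtypePerm hmem
  have hτ : τ ^ r ^ 1 = 1 := by
    ext x
    rw [pow_one, Perm.subtypePerm_pow]
    simp [← ho, pow_orderOf_eq_one]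
  have hmod := Perm.card_compl_support_modEq hτ
  rw [Fintype.card_coe, hs] at hmod
  have hle : τ.supportᶜ.card ≤ n % r := by
    refine le_trans (card_le_card_of_injOn Subtype.val (t := σ.supportᶜ) ?_ Subtype.val_injective.injOn) ?_
    · intro x hx
      simp only [mem_coe, mem_compl, Perm.notMem_support] at hx ⊢
      exact congrArg Subtype.val hx
    · rw [card_compl, Fintype.card_fin, ← Perm.sum_cycleType, hσ, Multiset.sum_replicate,
        smul_eq_mul]
      have := Nat.div_add_mod' n r
      omega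
  rw [← hmod, Nat.mod_eq_of_lt (lt_of_le_of_lt hle (Nat.mod_lt n hr.pos))]
  exact hle

/-- Lucas: if `k < r` and `r ∣ n.choose k` then `n % r < k`. -/
theorem mod_lt_of_dvd_choose {n k r : ℕ} (hr : r.Prime) (hk : k < r) (hd : r ∣ n.choose k) :
    n % r < k := by
  haveI := Fact.mk hr
  by_contra h
  have h1 := Choose.choose_modEq_choose_mod_mul_choose_div_nat (n := n) (k := k) (p := r)
  rw [Nat.div_eq_of_lt hk, Nat.choose_zero_right, mul_one, Nat.mod_eq_of_lt hk] at h1
  have h2 : r ∣ (n % r).choose k := (h1.dvd_iff dvd_rfl).1 hd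
  have h3 : r ∣ (n % r).factorial := by
    rw [← Nat.choose_mul_factorial_mul_factorial (not_lt.1 h)]
    exact (h2.mul_right _).mul_right _
  exact absurd ((hr.dvd_factorial).1 h3) (not_le.2 (Nat.mod_lt n hr.pos))

end CfsgLib.Recog
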