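import Mathlib

/-!
An abelian normal self-centralising subgroup acting irreducibly: the group is semilinear.
-/

set_option autoImplicit false
set_option maxHeartbeats 400000

namespace CfsgLib.Recog

theorem semilinear_of_irreducible {p d : ℕ} [Fact p.Prime] {V : Type*} [AddCommGroup V]
    [Module (ZMod p) V] [Finite V] [Nontrivial V] (hV : Nat.card V = p ^ d)
    {H : Type*} [Group H] [Finite H] (ρ : H →* Module.End (ZMod p) V) (T : Subgroup H) [T.Normal]
    [IsMulCommutative T]
    (hirr : ∀ W : Submodule (ZMod p) V, (∀ t ∈ T, ∀ w ∈ W, ρ t w ∈ W) → W = ⊥ ∨ W = ⊤)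
    (hinj : ∀ t ∈ T, ρ t = 1 → t = 1) (hC : Subgroup.centralizer (T : Set H) ≤ T) :
    IsCyclic T ∧ IsCyclic (H ⧸ T) ∧ T.index ∣ d ∧ Nat.card T ∣ p ^ d - 1 ∧
      ∀ i, 0 < i → i < d → ¬ Nat.card T ∣ p ^ i - 1 := by
  classical
  haveI : Finite (Module.End (ZMod p) V) :=
    Finite.of_injective (fun f => (f : V → V)) DFunLike.coe_injective
  have hTc : ∀ a ∈ ρ '' T, ∀ b ∈ ρ '' T, a * b = b * a := by
    rintro _ ⟨a, ha, rfl⟩ _ ⟨b, hb, rfl⟩
    rw [← map_mul, ← map_mul]
    exact congrArg ρ (congrArg Subtype.val (mul_comm' (⟨a, ha⟩ : T) ⟨b, hb⟩))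
  set K := Algebra.adjoin (ZMod p) (ρ '' T) with hK
  have hmem : ∀ {t}, t ∈ T → ρ t ∈ K := fun ht => Algebra.subset_adjoin ⟨_, ht, rfl⟩
  letI : CommRing K := Algebra.adjoinCommRingOfComm (ZMod p) hTc
  have hcommT : ∀ a : K, ∀ t ∈ T, (a : Module.End (ZMod p) V) * ρ t = ρ t * a := fun a t ht =>
    congrArg Subtype.val (mul_comm a ⟨ρ t, hmem ht⟩)
  have hker : ∀ a : K, a ≠ 0 → Function.Injective (a : Module.End (ZMod p) V) := by
    intro a ha
    rw [← LinearMap.ker_eq_bot]
    refine (hirr _ fun t ht w hw => ?_).resolve_right fun h => ha (Subtype.ext (LinearMap.ker_eq_top.1 h))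
    rw [LinearMap.mem_ker, ← Module.End.mul_apply, hcommT a t ht, Module.End.mul_apply,
      LinearMap.mem_ker.1 hw, map_zero]
  haveI : Nontrivial K := ⟨⟨0, 1, fun h => by
    obtain ⟨v, hv⟩ := exists_ne (0 : V)
    exact hv (LinearMap.congr_fun (congrArg Subtype.val h) v).symm⟩⟩
  haveI : NoZeroDivisors K := ⟨fun {a b} hab => by
    refine or_iff_not_imp_left.2 fun ha => Subtype.ext (LinearMap.ext fun v => hker a ha ?_)
    have h := LinearMap.congr_fun (congrArg Subtype.val hab) v
    simpa using h⟩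
  haveI : IsDomain K := NoZeroDivisors.to_isDomain K
  letI : Field K := (Finite.isField_of_domain K).toField
  have hcardK : Nat.card K = p ^ d := by
    obtain ⟨v, hv⟩ := exists_ne (0 : V)
    rw [← hV]
    let e : K →ₗ[ZMod p] V := (LinearMap.applyₗ v).comp K.val.toLinearMap
    refine Nat.card_congr (Equiv.ofBijective e ⟨fun a b hab => ?_, LinearMap.range_eq_top.1 ?_⟩)
    · by_contra hne
      refine hv (hker (a - b) (sub_ne_zero.2 hne) ?_)
      rw [map_zero]
      change ((a : Module.End (ZMod p) V) - (b : Module.End (ZMod p) V)) v = 0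
      rw [LinearMap.sub_apply, sub_eq_zero]
      exact hab
    · refine (hirr _ fun t ht w hw => ?_).resolve_left fun h => hv ?_
      · obtain ⟨a, rfl⟩ := hw
        exact ⟨⟨ρ t, hmem ht⟩ * a, rfl⟩
      · have h1 : v ∈ LinearMap.range e := ⟨1, rfl⟩
        rwa [h, Submodule.mem_bot] at h1
  let f : T →* K :=
    { toFun := fun t => ⟨ρ (t : H), hmem t.2⟩
      map_one' := Subtype.ext (map_one ρ)
      map_mul' := fun a b => Subtype.ext (map_mul ρ (a : H) b) }
  have hf : Function.Injective f := (injective_iff_map_eq_one f).2 fun t ht =>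
    Subtype.ext (hinj t t.2 (congrArg Subtype.val ht))
  have hcyc : IsCyclic T := isCyclic_of_injective_ringHom f hf
  have hdvd : Nat.card T ∣ p ^ d - 1 := by
    rw [← hcardK, ← Nat.card_units]
    exact Subgroup.card_dvd_of_injective f.toHomUnits fun a b h => hf (congrArg Units.val h)
  refine ⟨hcyc, ?_⟩
  have hrank : Module.finrank (ZMod p) K = d := by
    have h := Module.natCard_eq_pow_finrank (K := ZMod p) (V := K)
    rw [Nat.card_zmod, hcardK] at h
    exact Nat.pow_right_injective (Fact.out : p.Prime).two_le h.symm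
  -- the action of `H` on the field
  have hinvmul : ∀ h : H, ρ h⁻¹ * ρ h = 1 := fun h => by rw [← map_mul, inv_mul_cancel, map_one]
  have hconj : ∀ (h : H) (a : K), ρ h * (a : Module.End (ZMod p) V) * ρ h⁻¹ ∈ K := by
    intro h a
    obtain ⟨a, ha⟩ := a
    induction ha using Algebra.adjoin_induction with
    | mem x hx =>
      obtain ⟨t, ht, rfl⟩ := hx
      rw [← map_mul, ← map_mul]
      exact hmem (Subgroup.Normal.conj_mem inferInstance t ht h)
    | algebraMap r =>
      rw [← Algebra.commutes, mul_assoc, ← map_mul ρ, mul_inv_cancel, map_one, mul_one]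
      exact K.algebraMap_mem r
    | add x y _ _ hx hy => simpa [mul_add, add_mul] using K.add_mem hx hy
    | mul x y _ _ hx hy =>
      have h1 := K.mul_mem hx hy
      rwa [show ρ h * x * ρ h⁻¹ * (ρ h * y * ρ h⁻¹) = ρ h * (x * y) * ρ h⁻¹ by
        simp only [mul_assoc]; rw [← mul_assoc (ρ h⁻¹), hinvmul, one_mul]] at h1
  let σ : H → (K →ₐ[ZMod p] K) := fun h =>
    { toFun := fun a => ⟨ρ h * (a : Module.End (ZMod p) V) * ρ h⁻¹, hconj h a⟩
      map_one' := Subtype.ext (by
        change ρ h * 1 * ρ h⁻¹ = 1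
        rw [mul_one, ← map_mul, mul_inv_cancel, map_one])
      map_mul' := fun a b => Subtype.ext (by
        change ρ h * ((a : Module.End (ZMod p) V) * b) * ρ h⁻¹ = _
        simp only [Subalgebra.coe_mul, mul_assoc]
        rw [← mul_assoc (ρ h⁻¹), hinvmul, one_mul])
      map_zero' := Subtype.ext (by change ρ h * 0 * ρ h⁻¹ = 0; simp)
      map_add' := fun a b => Subtype.ext (by
        change ρ h * ((a : Module.End (ZMod p) V) + b) * ρ h⁻¹ = _
        simp [mul_add, add_mul])
      commutes' := fun r => Subtype.ext (by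
        change ρ h * algebraMap (ZMod p) (Module.End (ZMod p) V) r * ρ h⁻¹ = _
        rw [← Algebra.commutes, mul_assoc, ← map_mul ρ, mul_inv_cancel, map_one, mul_one]
        rfl) }
  have hσ : ∀ a b, σ (a * b) = (σ a).comp (σ b) := fun a b => AlgHom.ext fun z => Subtype.ext (by
    change ρ (a * b) * (z : Module.End (ZMod p) V) * ρ (a * b)⁻¹ =
      ρ a * (ρ b * (z : Module.End (ZMod p) V) * ρ b⁻¹) * ρ a⁻¹
    rw [mul_inv_rev, map_mul, map_mul]
    simp only [mul_assoc])
  have hσ1 : σ 1 = AlgHom.id (ZMod p) K := AlgHom.ext fun z => Subtype.ext (by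
    change ρ 1 * (z : Module.End (ZMod p) V) * ρ 1⁻¹ = z
    simp)
  let τ : H →* (K ≃ₐ[ZMod p] K) := MonoidHom.mk' (fun h => AlgEquiv.ofAlgHom (σ h) (σ h⁻¹)
      (by rw [← hσ, mul_inv_cancel, hσ1]) (by rw [← hσ, inv_mul_cancel, hσ1]))
    fun a b => AlgEquiv.ext fun z => DFunLike.congr_fun (hσ a b) z
  have hkerτ : τ.ker = T := by
    refine le_antisymm (fun h hh => hC (Subgroup.mem_centralizer_iff.2 fun t ht => ?_)) fun t ht => ?_
    · have h1 : ρ h * ρ t * ρ h⁻¹ = ρ t :=
        congrArg Subtype.val (DFunLike.congr_fun (MonoidHom.mem_ker.1 hh) (⟨ρ t, hmem ht⟩ : K))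
      rw [← map_mul, ← map_mul] at h1
      have h2 := hinj (h * t * h⁻¹ * t⁻¹)
        (mul_mem (Subgroup.Normal.conj_mem inferInstance t ht h) (inv_mem ht))
        (by rw [map_mul, h1, ← map_mul, mul_inv_cancel, map_one])
      rw [mul_inv_eq_one, mul_inv_eq_iff_eq_mul] at h2
      exact h2.symm
    · refine MonoidHom.mem_ker.2 (AlgEquiv.ext fun z => Subtype.ext ?_)
      change ρ t * (z : Module.End (ZMod p) V) * ρ t⁻¹ = z
      rw [← hcommT z t ht, mul_assoc, ← map_mul, mul_inv_cancel, map_one, mul_one]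
  let e : H ⧸ T ≃* τ.range :=
    (QuotientGroup.quotientMulEquivOfEq hkerτ.symm).trans (QuotientGroup.quotientKerEquivRange τ)
  refine ⟨isCyclic_of_injective (τ.range.subtype.comp e.toMonoidHom)
    (τ.range.subtype_injective.comp e.injective), ?_, hdvd, ?_⟩
  · rw [Subgroup.index_eq_card, Nat.card_congr e.toEquiv, ← hrank,
      ← IsGalois.card_aut_eq_finrank (ZMod p) K]
    exact Subgroup.card_subgroup_dvd_card _
  · intro i hi hid hdi
    haveI : CharP K p := charP_of_injective_algebraMap (algebraMap (ZMod p) K).injective p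
    have hpow : ∀ a : K, a ^ p ^ i = a := by
      rintro ⟨a, ha⟩
      refine Subtype.ext ?_
      change a ^ p ^ i = a
      induction ha using Algebra.adjoin_induction with
      | mem x hx =>
        obtain ⟨t, ht, rfl⟩ := hx
        obtain ⟨c, hc⟩ := hdi
        rw [← map_pow, ← Nat.sub_add_cancel (Nat.one_le_pow i p (Fact.out : p.Prime).pos), hc, pow_succ,
          pow_mul, show t ^ Nat.card T = 1 from congrArg Subtype.val (pow_card_eq_one' (x := (⟨t, ht⟩ : T))),
          one_pow, one_mul]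
      | algebraMap r => rw [← map_pow, ZMod.pow_card_pow]
      | add x y hx hy hx' hy' =>
        have h := congrArg Subtype.val (add_pow_char_pow (p := p) (n := i) (⟨x, hx⟩ : K) ⟨y, hy⟩)
        change (x + y) ^ p ^ i = x ^ p ^ i + y ^ p ^ i at h
        rw [h, hx', hy']
      | mul x y hx hy hx' hy' =>
        have hxy : Commute x y := congrArg Subtype.val (mul_comm (⟨x, hx⟩ : K) ⟨y, hy⟩)
        rw [hxy.mul_pow, hx', hy']
    haveI := Fintype.ofFinite K
    have h1 : Fintype.card K ≤ (Polynomial.X ^ p ^ i - Polynomial.X : Polynomial K).natDegree := by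
      refine le_trans ?_ (Polynomial.card_roots' _)
      refine le_trans (le_of_eq ?_) (Multiset.toFinset_card_le _)
      rw [← Finset.card_univ]
      congr 1
      ext a
      simp [Polynomial.mem_roots', hpow a, sub_eq_zero,
        FiniteField.X_pow_card_pow_sub_X_ne_zero K hi.ne' (Fact.out : p.Prime).one_lt]
    rw [FiniteField.X_pow_card_pow_sub_X_natDegree_eq K hi.ne' (Fact.out : p.Prime).one_lt,
      ← Nat.card_eq_fintype_card, hcardK, Nat.pow_le_pow_iff_right (Fact.out : p.Prime).one_lt] at h1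
    omega

end CfsgLib.Recog
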