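import Mathlib

/-!
Any two linearly independent families are related by a linear automorphism.
-/

set_option autoImplicit false

namespace CfsgLib.Recog

theorem exists_linearEquiv_map_eq {K V ι : Type*} [Field K] [AddCommGroup V] [Module K V] [Finite ι]
    {v w : ι → V} (hv : LinearIndependent K v) (hw : LinearIndependent K w) :
    ∃ g : V ≃ₗ[K] V, ∀ i, g (v i) = w i := by
  let f := hv.linearCombinationEquiv.symm ≪≫ₗ hw.linearCombinationEquiv
  haveI : FiniteDimensional K (Submodule.span K (Set.range v)) :=
    FiniteDimensional.span_of_finite K (Set.finite_range _)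
  obtain ⟨g, hg⟩ := Submodule.exists_linearEquiv_restrict_eq f
  refine ⟨g, fun i => ?_⟩
  have hq : ∀ {u : ι → V} (hu : LinearIndependent K u),
      (hu.linearCombinationEquiv (Finsupp.single i 1) : V) = u i := fun hu => by simp
  rw [← hq hv, ← hg, ← hq hw]
  simp [f]

end CfsgLib.Recog
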