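import Cfsg.Agent.Lib.Recog.Unbounded

/-!
`V ⋊ G` for a normal abelian subgroup `V` of exponent `p` has the spectrum of `G`.
-/

set_option autoImplicit false

namespace CfsgLib.Recog

variable {G : Type*} [Group G]

theorem range_orderOf_semidirect_normal [Finite G] (V : Subgroup G) [V.Normal] {p : ℕ}
    (hp : p.Prime) (hcomm : ∀ x y : V, x * y = y * x) (hexp : ∀ x : V, x ^ p = 1) :
    Set.range (orderOf : V ⋊[MulAut.conjNormal] G → ℕ) = Set.range (orderOf : G → ℕ) := by
  letI : CommGroup V := { (inferInstance : Group V) with mul_comm := hcomm }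
  refine Set.Subset.antisymm ?_ (range_orderOf_subset _)
  rintro _ ⟨x, rfl⟩
  rcases orderOf_cases (MulAut.conjNormal : G →* MulAut V) hp hexp x with h | ⟨h, -⟩
  · exact ⟨x.right, h.symm⟩
  · let θ : V ⋊[MulAut.conjNormal] G →* G :=
      SemidirectProduct.lift V.subtype (MonoidHom.id G) (fun g => by ext v; simp)
    have hθ : θ x = (x.left : G) * x.right := rfl
    set m := orderOf x.right with hm
    set d := orderOf (θ x) with hd
    have hlcm : orderOf x ∣ Nat.lcm m d := by
      rw [orderOf_dvd_iff_pow_eq_one]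
      have h1 : (x ^ Nat.lcm m d).right = 1 := by
        have := map_pow (SemidirectProduct.rightHom (φ := (MulAut.conjNormal : G →* MulAut V))) x
          (Nat.lcm m d)
        rw [show SemidirectProduct.rightHom x = x.right from rfl,
          orderOf_dvd_iff_pow_eq_one.1 (Nat.dvd_lcm_left m d)] at this
        exact this
      have h2 : θ (x ^ Nat.lcm m d) = 1 := by
        rw [map_pow, orderOf_dvd_iff_pow_eq_one.1 (Nat.dvd_lcm_right m d)]
      refine SemidirectProduct.ext ?_ h1
      have h3 : θ (x ^ Nat.lcm m d)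
          = ((x ^ Nat.lcm m d).left : G) * (x ^ Nat.lcm m d).right := rfl
      rw [h2, h1, mul_one] at h3
      exact Subtype.ext h3.symm
    have hdx : d ∣ orderOf x := orderOf_map_dvd θ x
    -- the images of `θ x` and `x.right` in `G ⧸ V` agree
    have hq : (QuotientGroup.mk' V) (θ x) = (QuotientGroup.mk' V) x.right := by
      rw [hθ, map_mul]
      simp
    have hmd : m ∣ d * p := by
      rw [hm, orderOf_dvd_iff_pow_eq_one, pow_mul]
      have hmem : x.right ^ d ∈ V := by
        rw [← QuotientGroup.eq_one_iff, ← QuotientGroup.mk'_apply, map_pow, ← hq, ← map_pow,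
          hd, pow_orderOf_eq_one, map_one]
      exact congrArg Subtype.val (hexp ⟨_, hmem⟩)
    rcases Nat.eq_zero_or_pos m with hm0 | hm0
    · exact ⟨x.right, by rw [h, ← hm, hm0, mul_zero]⟩
    have hdm : d ∣ p * m := h ▸ hdx
    have hd0 : 0 < d := Nat.pos_of_dvd_of_pos hdm (Nat.mul_pos hp.pos hm0)
    rw [h] at hlcm
    have hlcm' : Nat.lcm m d = p * m :=
      Nat.dvd_antisymm (Nat.lcm_dvd (dvd_mul_left m p) hdm) hlcm
    obtain ⟨m', hm'⟩ := Nat.gcd_dvd_left m d
    obtain ⟨d', hd'⟩ := Nat.gcd_dvd_right m d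
    set g := Nat.gcd m d with hg
    have hgpos : 0 < g := Nat.gcd_pos_of_pos_left _ hm0
    have hcop : Nat.Coprime m' d' := by
      have h1 := Nat.gcd_mul_left g m' d'
      rw [← hm', ← hd', ← hg] at h1
      exact Nat.eq_of_mul_eq_mul_left hgpos (by rw [mul_one]; exact h1.symm)
    have hd'p : d' = p := by
      have h1 := Nat.gcd_mul_lcm m d
      rw [← hg, hlcm'] at h1
      have h2 : (g * m) * d' = (g * m) * p := by
        calc (g * m) * d' = m * (g * d') := by ring
          _ = m * d := by rw [← hd']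
          _ = g * (p * m) := h1.symm
          _ = (g * m) * p := by ring
      exact Nat.eq_of_mul_eq_mul_left (Nat.mul_pos hgpos hm0) h2
    have hm'1 : m' = 1 := by
      have h1 : m' ∣ d' * p := by
        apply (Nat.mul_dvd_mul_iff_left hgpos).1
        rw [← hm', ← mul_assoc, ← hd']
        exact hmd
      rw [hd'p] at h1 hcop
      exact hcop.eq_one_of_dvd (Nat.Coprime.dvd_of_dvd_mul_right hcop h1)
    refine ⟨θ x, ?_⟩
    rw [h, ← hd, hd', hd'p, hm', hm'1, mul_one, mul_comm]

/-- A non-trivial solvable normal subgroup contains a non-trivial abelian normal subgroup of prime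
exponent. -/
theorem exists_normal_exponent_prime [Finite G] (K : Subgroup G) [K.Normal] (hK : K ≠ ⊥)
    (hs : IsSolvable K) :
    ∃ (V : Subgroup G) (p : ℕ), V.Normal ∧ p.Prime ∧ V ≠ ⊥ ∧ V ≤ K ∧
      (∀ x y : V, x * y = y * x) ∧ ∀ x : V, x ^ p = 1 := by
  haveI := hs
  obtain ⟨n, hn⟩ := hs.solvable
  let D : ℕ → Subgroup G := fun n => (derivedSeries K n).map K.subtype
  have hD0 : D 0 ≠ ⊥ := by
    simpa [D, ← MonoidHom.range_eq_map, Subgroup.range_subtype] using hK
  have hDn : D n = ⊥ := by simp [D, hn]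
  classical
  have hex : ∃ n, D n = ⊥ := ⟨n, hDn⟩
  obtain ⟨j, hj⟩ : ∃ j, Nat.find hex = j + 1 :=
    ⟨Nat.find hex - 1, (Nat.succ_pred_eq_of_pos (Nat.pos_of_ne_zero fun h0 =>
      hD0 (h0 ▸ Nat.find_spec hex))).symm⟩
  have hAne : D j ≠ ⊥ := Nat.find_min hex (by omega)
  have hA1 : D (j + 1) = ⊥ := hj ▸ Nat.find_spec hex
  have hAK : D j ≤ K := Subgroup.map_subtype_le _
  haveI : (D j).Normal := by
    haveI : (derivedSeries K j).Characteristic := inferInstance
    infer_instance
  have hcomm : ∀ x ∈ D j, ∀ y ∈ D j, x * y = y * x := by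
    have h0 : derivedSeries K (j + 1) = ⊥ := by
      exact (Subgroup.map_eq_bot_iff_of_injective _ (Subgroup.subtype_injective K)).1 hA1
    rintro _ ⟨x, hx, rfl⟩ _ ⟨y, hy, rfl⟩
    have h1 : x * y * x⁻¹ * y⁻¹ ∈ derivedSeries K (j + 1) := by
      rw [derivedSeries_succ]
      exact Subgroup.commutator_mem_commutator hx hy
    rw [h0, Subgroup.mem_bot, mul_inv_eq_one, mul_inv_eq_iff_eq_mul] at h1
    rw [← map_mul, ← map_mul, h1]
  obtain ⟨p, hp, hpd⟩ := Nat.exists_prime_and_dvd
    (show Nat.card (D j) ≠ 1 from fun h => hAne (Subgroup.card_eq_one.1 h))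
  haveI : Fact p.Prime := ⟨hp⟩
  obtain ⟨⟨a, haA⟩, ha⟩ := exists_prime_orderOf_dvd_card' p hpd
  let V : Subgroup G :=
    { carrier := {x | x ∈ D j ∧ x ^ p = 1}
      one_mem' := ⟨one_mem _, one_pow _⟩
      mul_mem' := by
        rintro x y ⟨hx, hx'⟩ ⟨hy, hy'⟩
        exact ⟨mul_mem hx hy, by rw [(Commute.mul_pow (hcomm x hx y hy)), hx', hy', one_mul]⟩
      inv_mem' := by
        rintro x ⟨hx, hx'⟩
        exact ⟨inv_mem hx, by rw [inv_pow, hx', inv_one]⟩ }
  have hVn : V.Normal := ⟨by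
    rintro x ⟨hx, hx'⟩ g
    exact ⟨(inferInstance : (D j).Normal).conj_mem x hx g, by rw [conj_pow, hx', mul_one, mul_inv_cancel]⟩⟩
  refine ⟨V, p, hVn, hp, ?_, fun x hx => hAK hx.1, fun x y => Subtype.ext (hcomm _ x.2.1 _ y.2.1),
    fun x => Subtype.ext x.2.2⟩
  intro hbot
  have haV : a ∈ V := ⟨haA, by
    have := pow_orderOf_eq_one (⟨a, haA⟩ : D j)
    rw [ha] at this
    exact congrArg Subtype.val this⟩
  rw [hbot, Subgroup.mem_bot] at haV
  subst haV
  exact hp.ne_one (ha.symm.trans orderOf_one)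

end CfsgLib.Recog
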