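import Mathlib

/-!
Sizes of orbits of normal subgroups and of products with coprime groups.
-/

set_option autoImplicit false

namespace CfsgLib.Recog

variable {G X : Type*} [Group G] [MulAction G X]

/-- The orbit of a subgroup as a relative index. -/
theorem card_orbit_subgroup (H : Subgroup G) (x : X) :
    Nat.card (MulAction.orbit H x) = (MulAction.stabilizer G x).relIndex H := by
  rw [Nat.card_coe_set_eq, ← MulAction.index_stabilizer]
  rfl

/-- Orbits of a normal subgroup have sizes dividing those of the group. -/
theorem card_orbit_dvd_of_le_normalizer [Finite G] {K H : Subgroup G} (hKH : K ≤ H)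
    (hn : H ≤ Subgroup.normalizer (K : Set G)) (x : X) :
    Nat.card (MulAction.orbit K x) ∣ Nat.card (MulAction.orbit H x) := by
  rw [card_orbit_subgroup, card_orbit_subgroup]
  haveI : (K.subgroupOf H).Normal := (Subgroup.normal_subgroupOf_iff_le_normalizer hKH).2 hn
  rw [← Subgroup.relIndex_subgroupOf (K := K) hKH]
  change _ ∣ ((MulAction.stabilizer G x).subgroupOf H).index
  set K' := K.subgroupOf H with hK'
  set S := (MulAction.stabilizer G x).subgroupOf H with hS
  have h1 : (S ⊓ K').relIndex S * S.index = (S ⊓ K').relIndex K' * K'.index := by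
    rw [Subgroup.relIndex_mul_index inf_le_left, Subgroup.relIndex_mul_index inf_le_right]
  have h2 := Subgroup.relIndex_mul_index (le_sup_right : K' ≤ S ⊔ K')
  rw [Subgroup.relIndex_sup_right] at h2
  rw [Subgroup.inf_relIndex_left, Subgroup.inf_relIndex_right, ← h2] at h1
  have h3 : 0 < K'.relIndex S := Nat.pos_of_ne_zero fun h => by
    simp [Subgroup.relIndex, Subgroup.index_ne_zero_of_finite] at h
  refine ⟨(S ⊔ K').index, Nat.eq_of_mul_eq_mul_left h3 ?_⟩
  rw [h1]
  ring

end CfsgLib.Recog
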