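import Cfsg.Agent.Lib.Recog.Sz8ModelUnbounded
import Cfsg.Agent.S2474

/-!
The prime graph of `PSp₆(3)`.
-/

set_option autoImplicit false

namespace CfsgLib.Recog.PSpSixThree

open CfsgLib.KnownB.PrimeGraph CfsgLib.Recog.Sz8Model

universe u

variable {F : Type u} [Field F] [Fintype F] (hF : Fintype.card F = 3)
include hF

theorem two_ne : (2 : F) ≠ 0 := by
  haveI : Fact (Nat.Prime 3) := ⟨Nat.prime_three⟩
  haveI : CharP F 3 := charP_of_card_eq_prime (by rw [hF])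
  intro h
  have := (CharP.cast_eq_zero_iff F 3 2).1 (by exact_mod_cast h)
  norm_num at this

theorem card_Sp : Nat.card (Matrix.symplecticGroup (Fin 3) F) = 9170703360 := by
  rw [CfsgLib.Classical.card_symplecticGroup, Nat.card_eq_fintype_card, Fintype.card_fin, hF]
  simp [Finset.prod_range_succ]

theorem card_eq : ∃ z, z ∣ 2 ∧ Nat.card (Cfsg.PSp 3 F) * z = 9170703360 :=
  ⟨Nat.card (Subgroup.center (Matrix.symplecticGroup (Fin 3) F)),
    (card_center_dvd_two 3 (by norm_num)).trans (Nat.gcd_dvd_left _ _), by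
      rw [← card_Sp hF, Subgroup.card_eq_card_quotient_mul_card_subgroup
        (Subgroup.center (Matrix.symplecticGroup (Fin 3) F))]⟩

theorem primes {r : ℕ} (hr : r.Prime) :
    r ∣ Nat.card (Cfsg.PSp 3 F) ↔ (r = 2 ∨ r = 3 ∨ r = 5 ∨ r = 7 ∨ r = 13) := by
  obtain ⟨z, hz, hc⟩ := card_eq hF
  constructor
  · intro h
    have h' : r ∣ 9170703360 := hc ▸ h.mul_right z
    have hp : ∀ q : ℕ, q.Prime → ∀ n, r ∣ q ^ n → r = q := fun q hq n hd =>
      (Nat.prime_dvd_prime_iff_eq hr hq).1 (hr.dvd_of_dvd_pow hd)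
    rw [show (9170703360 : ℕ) = 2 ^ 10 * 3 ^ 9 * 5 ^ 1 * 7 ^ 1 * 13 ^ 1 by norm_num, hr.dvd_mul,
      hr.dvd_mul, hr.dvd_mul, hr.dvd_mul] at h'
    rcases h' with (((h' | h') | h') | h') | h'
    · exact Or.inl (hp 2 Nat.prime_two _ h')
    · exact Or.inr (Or.inl (hp 3 Nat.prime_three _ h'))
    · exact Or.inr (Or.inr (Or.inl (hp 5 (by norm_num) _ h')))
    · exact Or.inr (Or.inr (Or.inr (Or.inl (hp 7 (by norm_num) _ h'))))
    · exact Or.inr (Or.inr (Or.inr (Or.inr (hp 13 (by norm_num) _ h'))))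
  · intro h
    rcases (Nat.dvd_prime Nat.prime_two).1 hz with rfl | rfl
    · rw [mul_one] at hc
      rw [hc]
      rcases h with rfl | rfl | rfl | rfl | rfl <;> norm_num
    · have : Nat.card (Cfsg.PSp 3 F) = 4585351680 := by omega
      rw [this]
      rcases h with rfl | rfl | rfl | rfl | rfl <;> norm_num

theorem order_five : orderOf ((Fintype.card F : ℕ) : ZMod 5) = 4 := by
  rw [hF, orderOf_eq_iff (by norm_num)]
  refine ⟨by decide, fun m hm h0 => ?_⟩
  interval_cases m <;> decide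

theorem order_seven : orderOf ((Fintype.card F : ℕ) : ZMod 7) = 6 := by
  rw [hF, orderOf_eq_iff (by norm_num)]
  refine ⟨by decide, fun m hm h0 => ?_⟩
  interval_cases m <;> decide

theorem order_thirteen : orderOf ((Fintype.card F : ℕ) : ZMod 13) = 3 := by
  rw [hF, orderOf_eq_iff (by norm_num)]
  refine ⟨by decide, fun m hm h0 => ?_⟩
  interval_cases m <;> decide

theorem iff_two {r : ℕ} (hr : r.Prime) (hr2 : r ≠ 2) (hr3 : r ≠ 3)
    (hrG : r ∣ Nat.card (Cfsg.PSp 3 F)) :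
    2 * r ∈ Set.range (orderOf : Cfsg.PSp 3 F → ℕ) ↔ (r = 5 ∨ r = 7) := by
  haveI : Fact (Nat.Prime 3) := ⟨Nat.prime_three⟩
  haveI : CharP F 3 := charP_of_card_eq_prime (by rw [hF])
  rw [(Cfsg.Agent.S2474.two_odd 3 (by rw [hF]; decide) (two_ne hF) le_rfl hr hr2 hr3 hrG).2]
  rcases (primes hF hr).1 hrG with rfl | rfl | rfl | rfl | rfl
  · exact absurd rfl hr2
  · exact absurd rfl hr3
  · have : ordQ F 5 = 4 := order_five hF
    simp [etaQ, TorCrit, this, hF]
    decide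
  · have : ordQ F 7 = 6 := order_seven hF
    simp [etaQ, TorCrit, this, hF]
    decide
  · have : ordQ F 13 = 3 := order_thirteen hF
    simp [etaQ, TorCrit, this, hF]
    decide

theorem edges {r s : ℕ} (hr : r.Prime) (hs : s.Prime) (hrs : r ≠ s) :
    (∃ g : Cfsg.PSp 3 F, orderOf g = r * s) ↔ Edge r s := by
  haveI : Fact (Nat.Prime 3) := ⟨Nat.prime_three⟩
  haveI : CharP F 3 := charP_of_card_eq_prime (by rw [hF])
  show r * s ∈ Set.range (orderOf : Cfsg.PSp 3 F → ℕ) ↔ Edge r s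
  have hG : ∀ q, q = 2 ∨ q = 3 ∨ q = 5 ∨ q = 7 ∨ q = 13 → q ∣ Nat.card (Cfsg.PSp 3 F) := fun q hq =>
    (primes hF (by rcases hq with rfl | rfl | rfl | rfl | rfl <;> norm_num)).2 hq
  have e23 : 6 ∈ Set.range (orderOf : Cfsg.PSp 3 F → ℕ) :=
    (Cfsg.Agent.S2474.two_char 3 (two_ne hF) (by norm_num) le_rfl).2
  have e2 : ∀ q, q.Prime → q ≠ 2 → q ≠ 3 → q ∣ Nat.card (Cfsg.PSp 3 F) →
      (2 * q ∈ Set.range (orderOf : Cfsg.PSp 3 F → ℕ) ↔ (q = 5 ∨ q = 7)) :=
    fun q h1 h2 h3 h4 => iff_two hF h1 h2 h3 h4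
  have e35 : 5 * 3 ∈ Set.range (orderOf : Cfsg.PSp 3 F → ℕ) := by
    by_contra h
    have := (Cfsg.Agent.S2472.result 3 3 (by norm_num) (by simp) 5 (by norm_num) (by norm_num) (by norm_num)
      (hG 5 (by omega)) 4 2 (order_five hF).symm (Or.inr ⟨by decide, rfl⟩)).1 h
    omega
  have e37 : 7 * 3 ∉ Set.range (orderOf : Cfsg.PSp 3 F → ℕ) :=
    (Cfsg.Agent.S2472.result 3 3 (by norm_num) (by simp) 7 (by norm_num) (by norm_num) (by norm_num)
      (hG 7 (by omega)) 6 3 (order_seven hF).symm (Or.inr ⟨by decide, rfl⟩)).2 (by norm_num)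
  have e313 : 13 * 3 ∉ Set.range (orderOf : Cfsg.PSp 3 F → ℕ) :=
    (Cfsg.Agent.S2472.result 3 3 (by norm_num) (by simp) 13 (by norm_num) (by norm_num) (by norm_num)
      (hG 13 (by omega)) 3 3 (order_thirteen hF).symm (Or.inl ⟨by decide, rfl⟩)).2 (by norm_num)
  have e57 : 5 * 7 ∉ Set.range (orderOf : Cfsg.PSp 3 F → ℕ) :=
    (Cfsg.Agent.S2469.result 3 3 (by norm_num) (by simp) 5 7 (by norm_num) (by norm_num) (by norm_num)
      (by norm_num) (by norm_num) (by norm_num) (by norm_num) (hG 5 (by omega)) (hG 7 (by omega))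
      4 6 2 3 (order_five hF).symm (order_seven hF).symm (Or.inr ⟨by decide, rfl⟩) (Or.inr ⟨by decide, rfl⟩)
      (by norm_num)).2 ⟨by norm_num, fun ⟨t, _, ht⟩ => by omega⟩
  have e513 : 5 * 13 ∉ Set.range (orderOf : Cfsg.PSp 3 F → ℕ) :=
    (Cfsg.Agent.S2469.result 3 3 (by norm_num) (by simp) 5 13 (by norm_num) (by norm_num) (by norm_num)
      (by norm_num) (by norm_num) (by norm_num) (by norm_num) (hG 5 (by omega)) (hG 13 (by omega))
      4 3 2 3 (order_five hF).symm (order_thirteen hF).symm (Or.inr ⟨by decide, rfl⟩) (Or.inl ⟨by decide, rfl⟩)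
      (by norm_num)).2 ⟨by norm_num, fun ⟨t, _, ht⟩ => by omega⟩
  have e137 : 13 * 7 ∉ Set.range (orderOf : Cfsg.PSp 3 F → ℕ) :=
    (Cfsg.Agent.S2469.result 3 3 (by norm_num) (by simp) 13 7 (by norm_num) (by norm_num) (by norm_num)
      (by norm_num) (by norm_num) (by norm_num) (by norm_num) (hG 13 (by omega)) (hG 7 (by omega))
      3 6 3 3 (order_thirteen hF).symm (order_seven hF).symm (Or.inl ⟨by decide, rfl⟩) (Or.inr ⟨by decide, rfl⟩)
      (by norm_num)).2 ⟨by norm_num, fun ⟨t, ⟨c, hc⟩, ht⟩ => by omega⟩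
  constructor
  · intro h
    obtain ⟨g, hg⟩ := h
    have hdvd : r * s ∣ Nat.card (Cfsg.PSp 3 F) := hg ▸ orderOf_dvd_natCard g
    rcases edge_or ((primes hF hr).1 (dvd_of_mul_right_dvd hdvd))
      ((primes hF hs).1 (dvd_of_mul_left_dvd hdvd)) hrs with h' | h'
    · exact h'
    exfalso
    rcases h' with h' | h' | h' | h' | h' | h' <;> rw [h'] at hg
    · exact e37 ⟨g, hg⟩
    · exact e313 ⟨g, hg⟩
    · have := (e2 13 (by norm_num) (by norm_num) (by norm_num) (hG 13 (by omega))).1 ⟨g, hg⟩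
      omega
    · exact e57 ⟨g, hg⟩
    · exact e513 ⟨g, hg⟩
    · exact e137 ⟨g, hg⟩
  · rintro (h | h | h | h) <;> rw [h]
    · exact e23
    · exact (e2 5 (by norm_num) (by norm_num) (by norm_num) (hG 5 (by omega))).2 (Or.inl rfl)
    · exact e35
    · exact (e2 7 (by norm_num) (by norm_num) (by norm_num) (hG 7 (by omega))).2 (Or.inr rfl)

end CfsgLib.Recog.PSpSixThree
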