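import Mathlib

/-!
Permutations of prime order fixing a partition into equal parts: for `b` parts of size `a`, the possible numbers
of cycles are the numbers `c * a + t` with `c * r ≤ b` and `t ≤ (b - c * r) * (a / r)`.
-/

set_option autoImplicit false

namespace CfsgLib.Recog.PartitionFixed

open Equiv

variable {α : Type*} [Fintype α] [DecidableEq α]

theorem cycleType_eq_replicate {σ : Perm α} {r : ℕ} (hr : r.Prime) (h : σ ^ r = 1) :
    σ.cycleType = Multiset.replicate (σ.support.card / r) r := by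
  have hall : ∀ n ∈ σ.cycleType, n = r := fun n hn => by
    have h2 := Perm.two_le_of_mem_cycleType hn
    have h3 : n ∣ r := (Perm.dvd_of_mem_cycleType hn).trans (orderOf_dvd_of_pow_eq_one h)
    rcases (Nat.dvd_prime hr).1 h3 with h1 | h1 <;> omega
  have hrep := Multiset.eq_replicate_card.2 hall
  have hsum := σ.sum_cycleType
  rw [hrep, Multiset.sum_replicate, smul_eq_mul] at hsum
  rw [← hsum, Nat.mul_div_cancel _ hr.pos]
  exact hrep

theorem dvd_card_support {σ : Perm α} {r : ℕ} (hr : r.Prime) (h : σ ^ r = 1) : r ∣ σ.support.card := by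
  rw [← σ.sum_cycleType, cycleType_eq_replicate hr h, Multiset.sum_replicate, smul_eq_mul]
  exact dvd_mul_left r _

theorem isConj_of_support_card {σ τ : Perm α} {r : ℕ} (hr : r.Prime) (hσ : σ ^ r = 1) (hτ : τ ^ r = 1)
    (h : σ.support.card = τ.support.card) : IsConj σ τ := by
  rw [Perm.isConj_iff_cycleType_eq, cycleType_eq_replicate hr hσ, cycleType_eq_replicate hr hτ, h]

theorem exists_perm_support (r : ℕ) (hr : r.Prime) (t a : ℕ) (h : t * r ≤ a) :
    ∃ τ : Perm (Fin a), τ ^ r = 1 ∧ τ.support.card = t * r := by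
  classical
  haveI : Fact r.Prime := ⟨hr⟩
  have e : (Fin t × ZMod r) ⊕ Fin (a - t * r) ≃ Fin a := Fintype.equivOfCardEq (by simp; omega)
  let rot : Perm (ZMod r) := Equiv.addRight (1 : ZMod r)
  let τ₀ : Perm ((Fin t × ZMod r) ⊕ Fin (a - t * r)) :=
    Equiv.sumCongr (Equiv.prodCongr (Equiv.refl _) rot) (Equiv.refl _)
  have hit : ∀ (k : ℕ), ∀ (i : Fin t) (s : ZMod r), (τ₀ ^ k) (Sum.inl (i, s)) = Sum.inl (i, s + k) := by
    intro k
    induction k with
    | zero => simp
    | succ k ih =>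
      intro i s
      rw [pow_succ', Perm.mul_apply, ih]
      simp [τ₀, rot, add_assoc]
  have hit' : ∀ (k : ℕ) (x : Fin (a - t * r)), (τ₀ ^ k) (Sum.inr x) = Sum.inr x := by
    intro k
    induction k with
    | zero => simp
    | succ k ih =>
      intro x
      rw [pow_succ', Perm.mul_apply, ih]
      simp [τ₀]
  refine ⟨e.permCongrHom τ₀, ?_, ?_⟩
  · rw [← map_pow, show τ₀ ^ r = 1 from ?_, map_one]
    ext x
    rcases x with ⟨i, s⟩ | x
    · simp [hit]
    · simp [hit']
  · have hs : (e.permCongrHom τ₀).support =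
        (Finset.univ : Finset (Fin t × ZMod r)).map (Function.Embedding.inl.trans e.toEmbedding) := by
      ext y
      simp only [Perm.mem_support, Finset.mem_map, Finset.mem_univ, true_and]
      obtain ⟨z, rfl⟩ := e.surjective y
      rw [show e.permCongrHom τ₀ (e z) = e (τ₀ z) by simp, e.apply_eq_iff_eq.ne]
      rcases z with ⟨i, s⟩ | x
      · simp [τ₀, rot]
      · simp [τ₀]
    rw [hs, Finset.card_map, Finset.card_univ]
    simp

theorem sum_distribute (q d t : ℕ) : ∑ j ∈ Finset.range d, min q (t - j * q) = min (d * q) t := by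
  induction d with
  | zero => simp
  | succ d ih =>
    rw [Finset.sum_range_succ, ih, Nat.succ_mul]
    omega

/-- `σ` fixes a partition into `b` parts of size `a`. -/
def Fixes (a b : ℕ) (σ : Perm α) : Prop :=
  ∃ f : α → Fin b, (∀ j : Fin b, Nat.card {x : α // f x = j} = a) ∧
    ∃ π : Perm (Fin b), ∀ x : α, f (σ x) = π (f x)

theorem Fixes.of_isConj {a b : ℕ} {σ τ : Perm α} (h : IsConj σ τ) (hσ : Fixes a b σ) : Fixes a b τ := by
  obtain ⟨g, rfl⟩ := isConj_iff.1 h
  obtain ⟨f, hf, π, hπ⟩ := hσ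
  refine ⟨fun x => f (g⁻¹ x), fun j => ?_, π, fun x => ?_⟩
  · rw [← hf j]
    exact Nat.card_congr ((g⁻¹ : Perm α).subtypeEquiv fun x => Iff.rfl)
  · simp [Perm.mul_apply, hπ]

theorem exists_fixes (a b r c t : ℕ) (hr : r.Prime) (hc : c * r ≤ b) (ht : t ≤ (b - c * r) * (a / r))
    {n : ℕ} (hn : n = a * b) :
    ∃ σ : Perm (Fin n), σ ^ r = 1 ∧ σ.support.card = (c * a + t) * r ∧ Fixes a b σ := by
  classical
  haveI : Fact r.Prime := ⟨hr⟩
  have eb : (Fin c × ZMod r) ⊕ Fin (b - c * r) ≃ Fin b := Fintype.equivOfCardEq (by simp; omega)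
  have hq : r * (a / r) ≤ a := Nat.mul_div_le a r
  have hτ := fun j : Fin (b - c * r) => exists_perm_support r hr (min (a / r) (t - j * (a / r))) a
    ((Nat.mul_le_mul_right r (min_le_left _ _)).trans (by rw [mul_comm]; exact hq))
  choose τ hτr hτs using hτ
  let fwd : ((Fin c × ZMod r) ⊕ Fin (b - c * r)) × Fin a → ((Fin c × ZMod r) ⊕ Fin (b - c * r)) × Fin a :=
    fun p => match p with
      | (Sum.inl (i, s), x) => (Sum.inl (i, s + 1), x)
      | (Sum.inr j, x) => (Sum.inr j, τ j x)
  let bwd : ((Fin c × ZMod r) ⊕ Fin (b - c * r)) × Fin a → ((Fin c × ZMod r) ⊕ Fin (b - c * r)) × Fin a :=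
    fun p => match p with
      | (Sum.inl (i, s), x) => (Sum.inl (i, s - 1), x)
      | (Sum.inr j, x) => (Sum.inr j, (τ j)⁻¹ x)
  let σ₀ : Perm (((Fin c × ZMod r) ⊕ Fin (b - c * r)) × Fin a) :=
    ⟨fwd, bwd, by rintro ⟨⟨i, s⟩ | j, x⟩ <;> simp [fwd, bwd],
      by rintro ⟨⟨i, s⟩ | j, x⟩ <;> simp [fwd, bwd]⟩
  let π₀ : Perm ((Fin c × ZMod r) ⊕ Fin (b - c * r)) :=
    Equiv.sumCongr (Equiv.prodCongr (Equiv.refl _) (Equiv.addRight (1 : ZMod r))) (Equiv.refl _)
  have hcompat : ∀ p, (σ₀ p).1 = π₀ p.1 := by rintro ⟨⟨i, s⟩ | j, x⟩ <;> simp [σ₀, fwd, π₀]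
  have hpow : ∀ k : ℕ, (∀ i s x, (σ₀ ^ k) (Sum.inl (i, s), x) = (Sum.inl (i, s + k), x)) ∧
      (∀ j x, (σ₀ ^ k) (Sum.inr j, x) = (Sum.inr j, (τ j ^ k) x)) := by
    intro k
    induction k with
    | zero => simp
    | succ k ih =>
      refine ⟨fun i s x => ?_, fun j x => ?_⟩
      · rw [pow_succ', Perm.mul_apply, ih.1]
        simp [σ₀, fwd, add_assoc]
      · rw [pow_succ', Perm.mul_apply, ih.2]
        simp [σ₀, fwd, pow_succ']
  have hσr : σ₀ ^ r = 1 := by
    ext1 p
    rcases p with ⟨⟨i, s⟩ | j, x⟩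
    · simp [(hpow r).1]
    · simp [(hpow r).2, hτr]
  have hin : ∀ j : Fin (b - c * r), ∑ x : Fin a, (if σ₀ (Sum.inr j, x) ≠ (Sum.inr j, x) then 1 else 0)
      = min (a / r) (t - j * (a / r)) * r := by
    intro j
    rw [← hτs j, Perm.support, Finset.card_filter]
    exact Finset.sum_congr rfl fun x _ => by simp [σ₀, fwd]
  have hout : ∀ (i : Fin c) (s : ZMod r) (x : Fin a),
      (if σ₀ (Sum.inl (i, s), x) ≠ (Sum.inl (i, s), x) then 1 else 0) = (1 : ℕ) := by
    intro i s x; simp [σ₀, fwd]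
  have hcard : σ₀.support.card = (c * a + t) * r := by
    rw [Perm.support, Finset.card_filter, Fintype.sum_prod_type, Fintype.sum_sum_type, Fintype.sum_prod_type]
    simp only [hout, hin]
    rw [← Finset.sum_mul, Fin.sum_univ_eq_sum_range (fun j => min (a / r) (t - j * (a / r))),
      sum_distribute, min_eq_right ht]
    simp
    ring
  have e : (((Fin c × ZMod r) ⊕ Fin (b - c * r)) × Fin a) ≃ Fin n :=
    Fintype.equivOfCardEq (by simp; rw [Nat.add_sub_cancel' hc, mul_comm, hn])
  refine ⟨e.permCongrHom σ₀, ?_, ?_, fun y => eb (e.symm y).1, fun j => ?_, eb.permCongr π₀, fun y => ?_⟩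
  · rw [← map_pow, hσr, map_one]
  · rw [← hcard, ← Finset.card_map e.toEmbedding]
    congr 1
    ext y
    obtain ⟨z, rfl⟩ := e.surjective y
    simp
  · have e2 : {y : Fin n // eb (e.symm y).1 = j} ≃ Fin a :=
      (e.symm.subtypeEquiv (q := fun p => eb p.1 = j) fun y => Iff.rfl).trans
        { toFun := fun p => p.1.2
          invFun := fun x => ⟨(eb.symm j, x), by simp⟩
          left_inv := by
            rintro ⟨⟨B, x⟩, hB⟩
            apply Subtype.ext
            apply Prod.ext
            · rw [Equiv.symm_apply_eq]; simpa using hB.symm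
            · rfl
          right_inv := fun x => rfl }
    rw [Nat.card_congr e2, Nat.card_fin]
  · simp [hcompat]

theorem fixes_bounds {a b r m : ℕ} (hr : r.Prime) (ha : 0 < a) {σ : Perm α} (hσ : σ ^ r = 1)
    (hm : σ.support.card = m * r) (hfix : Fixes a b σ) :
    ∃ c : ℕ, c * r ≤ b ∧ c * a ≤ m ∧ m ≤ c * a + (b - c * r) * (a / r) := by
  classical
  obtain ⟨f, hf, π, hπ⟩ := hfix
  have hsurj : Function.Surjective f := fun j => by
    have : Nat.card {x : α // f x = j} ≠ 0 := by rw [hf j]; omega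
    obtain ⟨⟨x, hx⟩⟩ := (Nat.card_ne_zero.1 this).1
    exact ⟨x, hx⟩
  have hpow : ∀ k : ℕ, ∀ x, f ((σ ^ k) x) = (π ^ k) (f x) := by
    intro k
    induction k with
    | zero => simp
    | succ k ih => intro x; rw [pow_succ', pow_succ', Perm.mul_apply, Perm.mul_apply, hπ, ih]
  have hπr : π ^ r = 1 := by
    ext1 j
    obtain ⟨x, rfl⟩ := hsurj j
    rw [← hpow r x, hσ]; rfl
  obtain ⟨c, hc⟩ := dvd_card_support hr hπr
  have hcard : ∀ j, (Finset.univ.filter (fun x => f x = j)).card = a := fun j => by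
    rw [← hf j, Nat.card_eq_fintype_card, Fintype.card_subtype]
  have hmov : ∀ j ∈ π.support, (σ.support.filter (fun x => f x = j)).card = a := by
    intro j hj
    rw [← hcard j]
    congr 1
    ext x
    simp only [Finset.mem_filter, Perm.mem_support, Finset.mem_univ, true_and]
    refine ⟨fun h => h.2, fun h => ⟨fun hx => ?_, h⟩⟩
    rw [Perm.mem_support] at hj
    exact hj (by rw [← h, ← hπ, hx])
  have hfix' : ∀ j ∉ π.support, ∃ u ≤ a / r, (σ.support.filter (fun x => f x = j)).card = u * r := by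
    intro j hj
    rw [Perm.notMem_support] at hj
    have hinv : ∀ x, f (σ x) = j ↔ f x = j := fun x => by
      rw [hπ]; exact ⟨fun h => π.injective (h.trans hj.symm), fun h => by rw [h, hj]⟩
    set ρ : Perm {x : α // f x = j} := σ.subtypePerm hinv with hρ
    have hρr : ρ ^ r = 1 := by
      ext1 x
      apply Subtype.ext
      rw [hρ, Perm.subtypePerm_pow]
      simp [hσ]
    obtain ⟨u, hu⟩ := dvd_card_support hr hρr
    have heq : (σ.support.filter (fun x => f x = j)).card = ρ.support.card := by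
      rw [← Finset.card_map (Function.Embedding.subtype _) (s := ρ.support)]
      congr 1
      ext x
      simp [hρ, Perm.mem_support, and_comm]
    refine ⟨u, ?_, by rw [heq, hu, mul_comm]⟩
    rw [Nat.le_div_iff_mul_le hr.pos, mul_comm, ← hu, ← heq, ← hcard j]
    exact Finset.card_le_card (Finset.filter_subset_filter _ (Finset.subset_univ _))
  have hsplit : σ.support.card = c * r * a +
      ∑ j ∈ π.supportᶜ, (σ.support.filter (fun x => f x = j)).card := by
    rw [Finset.card_eq_sum_card_fiberwise (fun x _ => Finset.mem_univ (f x)),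
      ← Finset.sum_add_sum_compl π.support, Finset.sum_congr rfl hmov, Finset.sum_const, hc, smul_eq_mul,
      mul_comm r c]
  have hcb : c * r ≤ b := by
    have := π.support.card_le_univ
    rw [hc, Fintype.card_fin, mul_comm] at this
    exact this
  have hrest : ∑ j ∈ π.supportᶜ, (σ.support.filter (fun x => f x = j)).card ≤
      (b - c * r) * (a / r) * r := by
    refine (Finset.sum_le_card_nsmul _ _ (a / r * r) fun j hj => ?_).trans ?_
    · obtain ⟨u, hu, he⟩ := hfix' j (Finset.mem_compl.1 hj)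
      rw [he]; exact Nat.mul_le_mul_right r hu
    · rw [Finset.card_compl, hc, Fintype.card_fin, smul_eq_mul, mul_assoc, mul_comm r c]
  refine ⟨c, hcb, ?_, ?_⟩
  · refine Nat.le_of_mul_le_mul_right ?_ hr.pos
    rw [← hm, hsplit, mul_right_comm]
    exact Nat.le_add_right _ _
  · refine Nat.le_of_mul_le_mul_right ?_ hr.pos
    rw [← hm, hsplit, add_mul, mul_right_comm]
    exact Nat.add_le_add_left hrest _

end CfsgLib.Recog.PartitionFixed
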