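import Mathlib

/-!
Powers of a `2 × 2` matrix over a finite field with `q` elements: its `q`-th power is determined by
whether the characteristic polynomial is split with distinct roots, irreducible, or has a double
root.
-/

set_option autoImplicit false

namespace CfsgLib.Recog

open Polynomial

variable {F : Type*} [Field F]

theorem sq_sub_trace_mul_add_det (g : Matrix (Fin 2) (Fin 2) F) :
    g ^ 2 - g.trace • g + g.det • (1 : Matrix (Fin 2) (Fin 2) F) = 0 := by
  ext i j
  fin_cases i <;> fin_cases j <;>
    simp [pow_two, Matrix.mul_apply, Fin.sum_univ_two, Matrix.trace_fin_two, Matrix.det_fin_two] <;>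
    ring

theorem trace_smul_one_sub_mul (g : Matrix (Fin 2) (Fin 2) F) :
    g * (g.trace • 1 - g) = g.det • (1 : Matrix (Fin 2) (Fin 2) F) := by
  rw [mul_sub, Matrix.mul_smul, mul_one, ← pow_two]
  linear_combination (norm := abel) -(1 : ℤ) • sq_sub_trace_mul_add_det g

/-- The characteristic polynomial of a `2 × 2` matrix, in terms of trace and determinant. -/
noncomputable def quadPoly (t d : F) : F[X] := X ^ 2 - C t * X + C d

theorem quadPoly_natDegree (t d : F) : (quadPoly t d).natDegree = 2 := by
  rw [quadPoly]; compute_degree!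

theorem quadPoly_monic (t d : F) : (quadPoly t d).Monic := by
  rw [quadPoly]; monicity!

theorem aeval_quadPoly (g : Matrix (Fin 2) (Fin 2) F) :
    aeval g (quadPoly g.trace g.det) = 0 := by
  rw [quadPoly]
  simp only [map_add, map_sub, map_mul, map_pow, aeval_X, aeval_C, Algebra.algebraMap_eq_smul_one,
    Matrix.smul_mul, one_mul]
  exact sq_sub_trace_mul_add_det g

variable [Fintype F]

theorem quadPoly_dvd_X_pow_card_add (t d : F) (h : ∀ x : F, ¬(quadPoly t d).IsRoot x) :
    quadPoly t d ∣ X ^ Fintype.card F + X - C t := by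
  have hirr : Irreducible (quadPoly t d) := by
    rw [(quadPoly_monic t d).irreducible_iff_roots_eq_zero_of_degree_le_three
      (by rw [quadPoly_natDegree]) (by rw [quadPoly_natDegree]; norm_num)]
    refine Multiset.eq_zero_of_forall_notMem fun x hx => h x ?_
    exact (mem_roots'.1 hx).2
  haveI : Fact (Irreducible (quadPoly t d)) := ⟨hirr⟩
  let α := AdjoinRoot.root (quadPoly t d)
  have hα : α ^ 2 - algebraMap F _ t * α + algebraMap F _ d = 0 := by
    have h2 : AdjoinRoot.mk (quadPoly t d) (X ^ 2 - C t * X + C d) = 0 := AdjoinRoot.mk_self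
    rw [map_add, map_sub, map_mul, map_pow, AdjoinRoot.mk_X, AdjoinRoot.mk_C, AdjoinRoot.mk_C] at h2
    rw [AdjoinRoot.algebraMap_eq]
    exact h2
  have hβ : (α ^ Fintype.card F) ^ 2 - algebraMap F _ t * α ^ Fintype.card F + algebraMap F _ d = 0 := by
    have h2 := congrArg (FiniteField.frobeniusAlgHom F (AdjoinRoot (quadPoly t d))) hα
    rw [map_add, map_sub, map_mul, map_pow, map_zero, AlgHom.commutes, AlgHom.commutes] at h2
    simpa only [FiniteField.coe_frobeniusAlgHom] using h2
  have hfac : (α ^ Fintype.card F - α) * (α ^ Fintype.card F + α - algebraMap F _ t) = 0 := by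
    linear_combination hβ - hα
  have hne : α ^ Fintype.card F - α ≠ 0 := by
    intro h0
    have hdvd : quadPoly t d ∣ X ^ Nat.card F ^ 1 - X := by
      rw [← AdjoinRoot.mk_eq_zero, pow_one, Nat.card_eq_fintype_card, map_sub, map_pow,
        AdjoinRoot.mk_X]
      exact h0
    have h2 := hirr.natDegree_dvd_of_dvd_X_pow_card_pow_sub_X hdvd
    rw [quadPoly_natDegree] at h2
    norm_num at h2
  rw [← AdjoinRoot.mk_eq_zero, map_sub, map_add, map_pow, AdjoinRoot.mk_X, AdjoinRoot.mk_C]
  exact (mul_eq_zero.1 hfac).resolve_left hne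

/-- The trichotomy for `g ^ q`. -/
theorem pow_card_cases (p : ℕ) [hp : Fact p.Prime] [CharP F p] (g : Matrix (Fin 2) (Fin 2) F) :
    (∃ c : F, g ^ p = c • (1 : Matrix (Fin 2) (Fin 2) F)) ∨ g ^ Fintype.card F = g ∨
      g ^ Fintype.card F = g.trace • 1 - g := by
  by_cases h : ∀ x : F, ¬(quadPoly g.trace g.det).IsRoot x
  · obtain ⟨r, hr⟩ := quadPoly_dvd_X_pow_card_add _ _ h
    refine Or.inr (Or.inr ?_)
    have h2 := congrArg (aeval g) hr
    rw [map_mul, aeval_quadPoly, zero_mul, map_sub, map_add, map_pow, aeval_X, aeval_C,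
      Algebra.algebraMap_eq_smul_one] at h2
    linear_combination (norm := abel) h2
  · push_neg at h
    obtain ⟨a, ha⟩ := h
    set b : F := g.trace - a with hb
    have hfac : quadPoly g.trace g.det = (X - C a) * (X - C b) := by
      have hd : g.det = a * b := by
        simp [quadPoly, IsRoot] at ha
        rw [hb]; linear_combination ha
      rw [quadPoly, hd, show g.trace = a + b by rw [hb]; ring, map_add, map_mul]
      ring
    by_cases hab : a = b
    · refine Or.inl ⟨a ^ p, ?_⟩
      haveI : CharP (Matrix (Fin 2) (Fin 2) F) p := inferInstance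
      have h0 : (g - a • 1) ^ 2 = 0 := by
        have h2 := aeval_quadPoly g
        rw [hfac, ← hab, map_mul, map_sub, aeval_X, aeval_C, Algebra.algebraMap_eq_smul_one] at h2
        rw [pow_two]; exact h2
      have h1 : (g - a • 1) ^ p = 0 := pow_eq_zero_of_le hp.out.two_le h0
      rw [sub_pow_char_of_commute (p := p) ((Commute.one_right g).smul_right a), sub_eq_zero,
        _root_.smul_pow, one_pow] at h1
      exact h1
    · refine Or.inr (Or.inl ?_)
      have hdvd : quadPoly g.trace g.det ∣ X ^ Fintype.card F - X := by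
        rw [hfac]
        refine IsCoprime.mul_dvd (isCoprime_X_sub_C_of_isUnit_sub ?_) ?_ ?_
        · exact (sub_ne_zero.2 hab).isUnit
        · rw [dvd_iff_isRoot]; simp [IsRoot, FiniteField.pow_card]
        · rw [dvd_iff_isRoot]; simp [IsRoot, FiniteField.pow_card]
      obtain ⟨r, hr⟩ := hdvd
      have h2 := congrArg (aeval g) hr
      rw [map_mul, aeval_quadPoly, zero_mul, map_sub, map_pow, aeval_X, sub_eq_zero] at h2
      exact h2

end CfsgLib.Recog
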