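import Mathlib
import Cfsg.Agent.Lib.Recog.ThompsonWielandt

/-!
# The second cores are `r`-groups

If `O^r` of the second core of `N` were non-trivial, `O_r(M)` would lie in `N`, and every normal
`r`-subgroup of `M ⊓ N` would centralise the generalized Fitting subgroup of `M` modulo `O_r(M)`.
-/

set_option autoImplicit false
set_option linter.style.haveILetI false
set_option linter.unusedSectionVars false

open scoped commutatorElement Pointwise

namespace CfsgLib.Recog.TW

open Cfsg Subgroup CfsgLib.Base CfsgLib.Components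

variable {G : Type*} [Group G]

/-- `O^r(H)` as the subgroup generated by the elements of order prime to `r`. -/
def opGen (r : ℕ) (H : Subgroup G) : Subgroup G :=
  closure {x : G | x ∈ H ∧ (orderOf x).Coprime r}

theorem opGen_le (r : ℕ) (H : Subgroup G) : opGen r H ≤ H :=
  (closure_le H).mpr fun _ hx => hx.1

theorem le_normalizer_opGen {X H : Subgroup G} (r : ℕ) (h : X ≤ normalizer (H : Set G)) :
    X ≤ normalizer (opGen r H : Set G) := by
  refine le_normalizer_of_conj_mem fun g hg y hy => ?_
  have h1 : opGen r H ≤ (opGen r H).comap (MulAut.conj g).toMonoidHom := by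
    refine (closure_le _).mpr fun x hx => subset_closure ⟨?_, ?_⟩
    · exact (mem_normalizer_iff.mp (h hg) x).mp hx.1
    · show (orderOf (MulAut.conj g x)).Coprime r
      rw [MulEquiv.orderOf_eq]
      exact hx.2
  exact h1 hy

theorem opGen_ne_bot [Finite G] {r : ℕ} [Fact r.Prime] {H : Subgroup G} (h : ¬ IsPGroup r H) :
    opGen r H ≠ ⊥ := by
  intro h0
  refine h (isPGroup_of_pPrime_elements_eq_one fun q hq => Subtype.ext ?_)
  have h1 : (q : G) ∈ opGen r H := subset_closure ⟨q.2, by rwa [Subgroup.orderOf_coe]⟩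
  rw [h0] at h1
  exact mem_bot.mp h1

/-- An element of order prime to `r` in `Z s`, with `s` an `r`-element normalising `Z`, lies in `Z`. -/
theorem mem_of_coprime_of_mul {r : ℕ} {Z : Subgroup G} {z s : G} (hz : z ∈ Z)
    (hs : s ∈ normalizer (Z : Set G)) {k : ℕ} (hk : s ^ r ^ k = 1)
    (h : (orderOf (z * s)).Coprime r) : z * s ∈ Z := by
  haveI : (Z.subgroupOf (normalizer (Z : Set G))).Normal :=
    normal_subgroupOf_of_le_normalizer le_rfl
  set π := QuotientGroup.mk' (Z.subgroupOf (normalizer (Z : Set G))) with hπ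
  set z' : normalizer (Z : Set G) := ⟨z, le_normalizer hz⟩ with hz'
  set s' : normalizer (Z : Set G) := ⟨s, hs⟩ with hs'
  have h1 : π (z' * s') = π s' := by
    rw [map_mul, show π z' = 1 from (QuotientGroup.eq_one_iff z').mpr (mem_subgroupOf.mpr hz),
      one_mul]
  have h2 : orderOf (π (z' * s')) ∣ orderOf (z * s) := by
    have := orderOf_map_dvd π (z' * s')
    rwa [← Subgroup.orderOf_coe] at this
  have h3 : orderOf (π (z' * s')) ∣ r ^ k := by
    rw [h1]
    refine orderOf_dvd_of_pow_eq_one ?_
    rw [← map_pow, show s' ^ r ^ k = 1 from Subtype.ext hk, map_one]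
  have h4 : π (z' * s') = 1 :=
    orderOf_eq_one_iff.mp (Nat.eq_one_of_dvd_coprimes (h.pow_right k) h2 h3)
  exact mem_subgroupOf.mp ((QuotientGroup.eq_one_iff (z' * s')).mp h4)

variable [Finite G] {M N : Subgroup G} {r : ℕ} [Fact r.Prime]

/-- `O_r(N)` normalises `O^r` of the second core of `M`. -/
theorem Hyp.coreOf_le (h : Hyp M N) (hX : opGen r (cA2 M N) ≠ ⊥) : coreOf r N ≤ M := by
  set X := opGen r (cA2 M N) with hXdef
  have hXA : X ≤ cA2 M N := opGen_le _ _
  have hMX : M ≤ normalizer (X : Set G) := le_normalizer_opGen r (le_normalizer_nCore _ _)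
  have hn : normalizer (X : Set G) = M :=
    normalizer_eq h.hM h.cM (hXA.trans (nCore_le_left _ _)) hX hMX
  rw [← hn]
  refine le_normalizer_of_conj_mem fun q hq y hy => ?_
  have h1 : X ≤ X.comap (MulAut.conj q).toMonoidHom := by
    refine (closure_le _).mpr fun x hx => ?_
    have hxX : x ∈ X := subset_closure hx
    show q * x * q⁻¹ ∈ X
    set s := x⁻¹ * (q * x * q⁻¹) with hs
    have hxB : x ∈ cA N M := cA2_le_cA' M N hx.1
    have hqN : q ∈ N := map_subtype_le _ hq
    have hsB : s ∈ cA N M := mul_mem (inv_mem hxB)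
      ((mem_normalizer_iff.mp (le_normalizer_nCore N _ hqN) x).mp hxB)
    have hsQ : s ∈ coreOf r N := by
      rw [hs, show x⁻¹ * (q * x * q⁻¹) = (x⁻¹ * q * x⁻¹⁻¹) * q⁻¹ by group]
      exact mul_mem ((mem_normalizer_iff.mp (coreOf_normalizer r N
        (inv_mem (nCore_le_left _ _ hxB))) q).mp hq) (inv_mem hq)
    obtain ⟨k, hk⟩ := isPGroup_map_pCore r N ⟨s, hsQ⟩
    have hk' : s ^ r ^ k = 1 := by simpa using congrArg Subtype.val hk
    have he : q * x * q⁻¹ = x * s := by rw [hs]; group
    rw [he]
    refine mem_of_coprime_of_mul hxX (hMX (cA_le_right N M hsB)) hk' ?_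
    rw [← he, show q * x * q⁻¹ = MulAut.conj q x from rfl, MulEquiv.orderOf_eq]
    exact hx.2
  exact h1 hy

/-- The preimage of a characteristic subgroup under a surjection with characteristic kernel is
characteristic. -/
theorem characteristic_comap_of_surjective {A B : Type*} [Group A] [Group B] (f : A →* B)
    (hf : Function.Surjective f) (hk : f.ker.Characteristic) (K : Subgroup B) [hK : K.Characteristic] :
    (K.comap f).Characteristic := by
  refine characteristic_iff_comap_eq.mpr fun φ => ?_
  have hker : f.ker.map φ.toMonoidHom = f.ker := characteristic_iff_map_eq.mp hk φ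
  let e := QuotientGroup.quotientKerEquivOfSurjective f hf
  let ψ : B ≃* B := e.symm.trans ((QuotientGroup.congr f.ker f.ker φ hker).trans e)
  have hψ : ∀ a, ψ (f a) = f (φ a) := fun a => by
    have he : e.symm (f a) = (a : A ⧸ f.ker) := by
      rw [MulEquiv.symm_apply_eq]
      rfl
    show e ((QuotientGroup.congr f.ker f.ker φ hker) (e.symm (f a))) = f (φ a)
    rw [he]
    rfl
  ext a
  simp only [mem_comap, MulEquiv.coe_toMonoidHom]
  rw [← hψ]
  have h1 := SetLike.ext_iff.mp (characteristic_iff_comap_eq.mp hK ψ) (f a)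
  simpa using h1

theorem Hyp.isPGroup_cA2_symm (h : Hyp M N) (hT : coreOf r (cA2 N M) ≠ ⊥) :
    IsPGroup r ↥(cA2 N M) := by
  by_contra hc
  have hQ1N : coreOf r M ≤ N := h.symm.coreOf_le (opGen_ne_bot hc)
  set Yb := opGen r (cA2 N M) with hYb
  have hYB : Yb ≤ cA2 N M := opGen_le _ _
  have hYM : Yb ≤ M := hYB.trans ((cA2_le_cA' N M).trans (nCore_le_left _ _))
  have hYN : Yb ≤ N := hYB.trans (nCore_le_left _ _)
  have hNY : N ≤ normalizer (Yb : Set G) := le_normalizer_opGen r (le_normalizer_nCore _ _)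
  have hYsn : (Yb.subgroupOf M).IsSubnormal := by
    haveI : ((cA M N).subgroupOf M).Normal :=
      normal_subgroupOf_of_le_normalizer (le_normalizer_nCore M _)
    refine IsSubnormal.step _ ((cA M N).subgroupOf M)
      (fun x hx => mem_subgroupOf.2 (cA2_le_cA' N M (hYB (mem_subgroupOf.1 hx))))
      (Normal.isSubnormal inferInstance) (normal_subgroupOf_of_le_normalizer ?_)
    exact subgroupOf_le_normalizer M ((cA_le_right M N).trans hNY)
  set π := QuotientGroup.mk' (pCore r ↥M) with hπ
  set Ib := (N.subgroupOf M).map π with hIb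
  set Yq := (Yb.subgroupOf M).map π with hYq
  set Qq := ((coreOf r N).subgroupOf M).map π with hQq
  have hYI : Yq ≤ Ib := map_mono fun x hx => mem_subgroupOf.2 (hYN (mem_subgroupOf.1 hx))
  have hQI : Qq ≤ Ib := map_mono fun x hx =>
    mem_subgroupOf.2 (map_subtype_le _ (mem_subgroupOf.1 hx))
  have hQp : IsPGroup r Qq :=
    ((isPGroup_map_pCore r N).comap_of_injective M.subtype M.subtype_injective).map π
  have hIQ : Ib ≤ normalizer (Qq : Set (↥M ⧸ pCore r ↥M)) := by
    refine (Subgroup.map_mono ?_).trans (Subgroup.le_normalizer_map π)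
    exact subgroupOf_le_normalizer M (coreOf_normalizer r N)
  have hsn : (Yq.subgroupOf (⊤ : Subgroup (↥M ⧸ pCore r ↥M))).IsSubnormal :=
    (hYsn.map (QuotientGroup.mk'_surjective _)).subgroupOf
  -- `Yq` is non-trivial
  set f : ↥Yb →* (↥M ⧸ pCore r ↥M) := π.comp (inclusion hYM) with hf
  have hfr : f.range = Yq := by
    rw [hf, MonoidHom.range_comp, inclusion_range]
  have hfk : f.ker = pCore r ↥Yb := by
    haveI : f.ker.Normal := inferInstance
    refine le_antisymm (le_pCore ?_) ?_
    · rw [hf, ← MonoidHom.comap_ker, QuotientGroup.ker_mk']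
      exact (isPGroup_pCore r ↥M).comap_of_injective _ (inclusion_injective hYM)
    · intro y hy
      rw [MonoidHom.mem_ker]
      refine (QuotientGroup.eq_one_iff (inclusion hYM y)).mpr ?_
      have h1 : coreOf r Yb ≤ coreOf r M := Y_le_Y_of_isSubnormal (some ⟨r, Fact.out⟩) hYM hYsn
      obtain ⟨z, hz, he⟩ := h1 (mem_map_of_mem Yb.subtype hy)
      have : z = inclusion hYM y := Subtype.ext he
      exact this ▸ hz
  have hYne : Yq ≠ ⊥ := by
    intro h0
    have h1 : f.ker = ⊤ := by
      rw [MonoidHom.range_eq_bot_iff.mp (hfr.trans h0), MonoidHom.ker_one]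
    rw [hfk, pCore_eq_top_iff] at h1
    refine opGen_ne_bot hc (eq_bot_iff.mpr ((closure_le _).mpr fun x hx => ?_))
    obtain ⟨k, hk⟩ := h1 ⟨x, subset_closure hx⟩
    have h2 : orderOf x ∣ r ^ k := orderOf_dvd_of_pow_eq_one (by simpa using congrArg Subtype.val hk)
    exact mem_bot.mpr (orderOf_eq_one_iff.mp (Nat.eq_one_of_dvd_coprimes (hx.2.pow_right k) dvd_rfl h2))
  obtain ⟨s, hs⟩ := exists_Y_ne_bot hYne
  set D := Y s Yq with hDdef
  -- centralisers of `D` fix the second point
  have hD : centralizer (D : Set (↥M ⧸ pCore r ↥M)) ≤ Ib := by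
    obtain ⟨K, hKc, hKD⟩ : ∃ K : Subgroup ↥f.range, K.Characteristic ∧ K.map f.range.subtype = D := by
      rw [hDdef, ← hfr]
      cases s with
      | none => exact ⟨layer ↥f.range, inferInstance, rfl⟩
      | some p => exact ⟨pCore (p : ℕ) ↥f.range, inferInstance, rfl⟩
    haveI := hKc
    haveI hK' : (K.comap f.rangeRestrict).Characteristic :=
      characteristic_comap_of_surjective f.rangeRestrict f.rangeRestrict_surjective
        (by rw [MonoidHom.ker_rangeRestrict, hfk]; infer_instance) K
    set D' := (K.comap f.rangeRestrict).map Yb.subtype with hD'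
    set Z := opGen r D' with hZ
    have hZY : Z ≤ Yb := (opGen_le _ _).trans (map_subtype_le _)
    have hNZ : N ≤ normalizer (Z : Set G) :=
      le_normalizer_opGen r (hNY.trans (normalizer_le_normalizer_map_subtype Yb _))
    have hZne : Z ≠ ⊥ := by
      refine opGen_ne_bot fun hp => hs ?_
      have h1 : K.comap f.rangeRestrict ≤ f.ker := by
        rw [hfk]
        exact le_pCore (hp.of_equiv
          (equivMapOfInjective (K.comap f.rangeRestrict) Yb.subtype Yb.subtype_injective).symm)
      rw [← MonoidHom.ker_rangeRestrict, ← Subgroup.map_eq_bot_iff,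
        map_comap_eq_self_of_surjective f.rangeRestrict_surjective] at h1
      rw [← hKD, h1, Subgroup.map_bot]
    have hn : normalizer (Z : Set G) = N := normalizer_eq h.hN h.cN (hZY.trans hYN) hZne hNZ
    intro c hc'
    obtain ⟨c, rfl⟩ := QuotientGroup.mk'_surjective _ c
    refine mem_map_of_mem π (mem_subgroupOf.mpr ?_)
    rw [← hn]
    have h1 : Z ≤ Z.comap (MulAut.conj (c : G)).toMonoidHom := by
      refine (closure_le _).mpr fun z hz => ?_
      show (c : G) * z * (c : G)⁻¹ ∈ Z
      have hzY : z ∈ Yb := map_subtype_le _ hz.1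
      set z' : ↥M := ⟨z, hYM hzY⟩ with hz'
      have hzD : π z' ∈ D := by
        obtain ⟨y, hy, hye⟩ := hz.1
        rw [← hKD]
        refine ⟨f.rangeRestrict y, hy, ?_⟩
        exact congrArg π (Subtype.ext hye)
      set t : ↥M := z'⁻¹ * (c * z' * c⁻¹) with ht
      have htQ : t ∈ pCore r ↥M := by
        have h2 : π t = 1 := by
          rw [ht, map_mul, map_inv, map_mul, map_mul, map_inv,
            ← mem_centralizer_iff.mp hc' _ hzD, mul_inv_cancel_right, inv_mul_cancel]
        exact (QuotientGroup.eq_one_iff t).mp h2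
      obtain ⟨k, hk⟩ := isPGroup_pCore r ↥M ⟨t, htQ⟩
      have hk' : (t : G) ^ r ^ k = 1 := by
        simpa using congrArg (fun x : pCore r ↥M => ((x : ↥M) : G)) hk
      have he : (c : G) * z * (c : G)⁻¹ = z * (t : G) := by
        rw [ht, hz']
        push_cast
        group
      rw [he]
      refine mem_of_coprime_of_mul (subset_closure hz) (hNZ (hQ1N (mem_map_of_mem _ htQ))) hk' ?_
      rw [← he, show (c : G) * z * (c : G)⁻¹ = MulAut.conj (c : G) z from rfl, MulEquiv.orderOf_eq]
      exact hz.2
    have h2 : Z.map (MulAut.conj (c : G)).toMonoidHom ≤ Z := map_le_iff_le_comap.mpr h1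
    exact map_conj_eq_self_iff.mp (eq_of_le_of_card_ge h2
      (card_map_of_injective (MulAut.conj (c : G)).injective Z).ge)
  -- `Qq` centralises each part of the generalized Fitting subgroup
  have hDI : D ≤ Ib := (Y_le s Yq).trans hYI
  have hDT : D ≤ Y s (⊤ : Subgroup (↥M ⧸ pCore r ↥M)) := Y_le_Y_of_isSubnormal s le_top hsn
  have hnorm : ∀ i, (⊤ : Subgroup (↥M ⧸ pCore r ↥M)) ≤
      normalizer (Y i (⊤ : Subgroup (↥M ⧸ pCore r ↥M)) : Set (↥M ⧸ pCore r ↥M)) := fun i =>
    le_normalizer_Y i le_normalizer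
  have hr0 : pCore r (↥M ⧸ pCore r ↥M) = ⊥ := pCore_quotient_pCore r ↥M
  have hlay : layerOf (⊤ : Subgroup (↥M ⧸ pCore r ↥M)) ≤ Ib := by
    by_cases hsl : s = none
    · subst hsl
      rw [layerOf, map_le_iff_le_comap]
      refine layer_le_iff.mpr fun K hK => map_le_iff_le_comap.mp ?_
      have hK' := (isComponent_map_subtype_iff (Normal.isSubnormal inferInstance) K).mpr hK
      rcases component_le_or_commutator_eq_bot hK'
          (hYsn.map (QuotientGroup.mk'_surjective _)) with h1 | h1
      · exact h1.trans hYI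
      · exact ((commutator_eq_bot_iff_le_centralizer.mp h1).trans
          (centralizer_le (Y_le none Yq))).trans hD
    · exact ((Y_le_centralizer_Y (Ne.symm hsl) ⊤).trans (centralizer_le hDT)).trans hD
  have hQc : ∀ i, Qq ≤ centralizer (Y i (⊤ : Subgroup (↥M ⧸ pCore r ↥M)) : Set (↥M ⧸ pCore r ↥M)) := by
    intro i
    cases i with
    | none =>
      haveI : Group.IsNilpotent ↥((layerOf (⊤ : Subgroup (↥M ⧸ pCore r ↥M)) ⊓ Qq : Subgroup _)) :=
        (hQp.to_le inf_le_right).isNilpotent
      have h1 := layerOf_le_centralizer_of_isSolvable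
        (H := (⊤ : Subgroup (↥M ⧸ pCore r ↥M))) (D := layerOf ⊤ ⊓ Qq) le_top inferInstance
        ((le_inf le_normalizer (hlay.trans hIQ)).trans inf_normalizer_le_normalizer_inf)
      exact le_centralizer_iff.mp (le_centralizer_of_perfect (layerOf_commutator_self _)
        (hlay.trans hIQ) (le_top.trans (hnorm none)) h1)
    | some p =>
      haveI := Fact.mk p.2
      set R := Y (some p) (⊤ : Subgroup (↥M ⧸ pCore r ↥M)) with hR
      by_cases hpr : (p : ℕ) = r
      · have : R = ⊥ := by
          rw [hR]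
          show coreOf (p : ℕ) _ = ⊥
          rw [coreOf, map_pCore_top, hpr, hr0]
        intro x _
        rw [this]
        exact mem_centralizer_iff.mpr fun y hy => by
          rw [mem_bot.mp hy, one_mul, mul_one]
      · set S := R ⊓ Ib with hS
        have hRp : IsPGroup (p : ℕ) R := isPGroup_map_pCore _ _
        have hSp : IsPGroup (p : ℕ) S := hRp.to_le inf_le_left
        have hIS : Ib ≤ normalizer (S : Set (↥M ⧸ pCore r ↥M)) :=
          (le_inf (le_top.trans (hnorm _)) le_normalizer).trans inf_normalizer_le_normalizer_inf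
        have hQS : Qq ≤ centralizer (S : Set (↥M ⧸ pCore r ↥M)) :=
          le_centralizer_of_inf_eq_bot (hQI.trans hIS) (inf_le_right.trans hIQ)
            (disjoint_iff.mp (IsPGroup.disjoint_of_ne _ _ (Ne.symm hpr) _ _ hQp hSp))
        have hfix : R ⊓ centralizer (S : Set (↥M ⧸ pCore r ↥M)) ≤ S := by
          refine le_inf inf_le_left ?_
          by_cases hsp : s = some p
          · subst hsp
            exact (inf_le_right.trans (centralizer_le (le_inf hDT hDI))).trans hD
          · exact (inf_le_left.trans ((Y_le_centralizer_Y (Ne.symm hsp) ⊤).trans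
              (centralizer_le hDT))).trans hD
        obtain ⟨n, hn⟩ := IsPGroup.iff_card.mp hQp
        refine le_centralizer_of_pTimesQ hSp hRp (inf_le_left.trans le_normalizer) ?_ hQS
          (le_top.trans (hnorm _)) (hQS.trans (centralizer_le hfix))
        rw [hn]
        exact ((Nat.coprime_primes (Fact.out : r.Prime) p.2).mpr (Ne.symm hpr)).pow_left n
  have hQ0 : Qq = ⊥ := by
    rw [eq_bot_iff, ← hr0]
    refine pGroup_le_pCore_of_le_fitting hQp (le_trans ?_ centralizer_fstar_le_fitting)
    rw [le_centralizer_iff, generalizedFittingSubgroup, sup_le_iff,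
      fittingSubgroup_eq_iSup_pCore, iSup_le_iff]
    refine ⟨?_, fun p => ?_⟩
    · have h1 := le_centralizer_iff.mp (hQc none)
      refine le_trans ?_ h1
      refine layer_le_iff.mpr fun K hK => ?_
      exact le_layer_map_subtype hK le_top
    · have h1 := le_centralizer_iff.mp (hQc (some p))
      rw [show Y (some p) (⊤ : Subgroup (↥M ⧸ pCore r ↥M)) = pCore (p : ℕ) _ from map_pCore_top _ _] at h1
      exact h1
  rw [hQq, Subgroup.map_eq_bot_iff, QuotientGroup.ker_mk'] at hQ0
  have hcap : coreOf r N ⊓ M ≤ coreOf r M := by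
    have := map_mono (f := M.subtype) hQ0
    rwa [subgroupOf_map_subtype] at this
  have hQQ : coreOf r M ≤ normalizer (coreOf r N : Set G) := hQ1N.trans (coreOf_normalizer r N)
  set W := coreOf r N ⊔ coreOf r M with hW
  have hWp : IsPGroup r W :=
    (isPGroup_map_pCore r N).to_sup_of_normal_left' (isPGroup_map_pCore r M) hQQ
  have hWM : W ⊓ M ≤ coreOf r M := by
    intro x hx
    obtain ⟨hxW, hxM⟩ := mem_inf.mp hx
    have hx' : x ∈ ((coreOf r N : Set G) * (coreOf r M : Set G)) := by
      rw [← coe_mul_of_right_le_normalizer_left (coreOf r N) (coreOf r M) hQQ]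
      exact hxW
    obtain ⟨q, hq, t, ht, rfl⟩ := Set.mem_mul.mp hx'
    exact mul_mem (hcap ⟨hq, (Subgroup.mul_mem_cancel_right M (map_subtype_le _ ht)).mp hxM⟩) ht
  have hM0 : coreOf r M ≠ ⊥ := fun h0 => hT (le_bot_iff.mp (h0 ▸ Y_cA2_le (some ⟨r, Fact.out⟩) N M))
  have hnM : normalizer (coreOf r M : Set G) = M :=
    normalizer_eq h.hM h.cM (map_subtype_le _) hM0 (coreOf_normalizer r M)
  have hle : coreOf r N ≤ coreOf r M := by
    by_contra hne
    have hlt : (coreOf r M).subgroupOf W < ⊤ := lt_top_iff_ne_top.mpr fun he =>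
      hne (le_sup_left.trans (subgroupOf_eq_top.mp he))
    obtain ⟨y, hy, hyT⟩ := SetLike.exists_of_lt (CfsgLib.PGroups.lt_normalizer hWp hlt)
    refine hyT (mem_subgroupOf.mpr (hWM ⟨y.2, ?_⟩))
    have := le_normalizer_map W.subtype (mem_map_of_mem W.subtype hy)
    rw [map_subgroupOf_eq_of_le le_sup_right, hnM] at this
    exact this
  obtain ⟨e⟩ := h.iso
  have heq : coreOf r N = coreOf r M :=
    eq_of_le_of_card_ge hle (card_Y_eq (some ⟨r, Fact.out⟩) e).le
  exact hM0 (h.eq_bot_of_normalized (map_subtype_le _)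
    (coreOf_normalizer _ _) (heq ▸ coreOf_normalizer _ _))

/-- The second core is an `r`-group. -/
theorem Hyp.isPGroup_cA2 (h : Hyp M N) (hT : coreOf r (cA2 M N) ≠ ⊥) :
    IsPGroup r ↥(cA2 M N) :=
  h.symm.isPGroup_cA2_symm hT

end CfsgLib.Recog.TW
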