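import Cfsg.Agent.Lib.Recog.SocleFactors
import Cfsg.Agent.Lib.FgsB.FourOrbits

/-!
The reduction of primitive groups to affine, almost simple, semiregular-factor and product types.
-/

set_option autoImplicit false
set_option maxHeartbeats 400000

namespace CfsgLib.Recog

open CfsgLib.Base

section counting

variable {G Ω : Type*} [Group G] [Finite G] [MulAction G Ω] [Finite Ω]

/-- Every orbit with at least two points admits an element fixing none of its points. -/
theorem exists_forall_smul_ne_orbit {a : Ω} (h : ∃ g : G, g • a ≠ a) :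
    ∃ g : G, ∀ b ∈ MulAction.orbit G a, g • b ≠ b := by
  classical
  haveI := Fintype.ofFinite G
  haveI := Fintype.ofFinite (MulAction.orbit G a)
  haveI := Fintype.ofFinite (MulAction.orbitRel.Quotient G (MulAction.orbit G a))
  by_contra hc
  push_neg at hc
  have hB := MulAction.sum_card_fixedBy_eq_card_orbits_mul_card_group G (MulAction.orbit G a)
  haveI : Subsingleton (MulAction.orbitRel.Quotient G (MulAction.orbit G a)) :=
    ⟨fun x y => Quotient.inductionOn₂ x y fun p q => Quotient.sound (by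
      obtain ⟨g, hg⟩ := MulAction.exists_smul_eq G q p
      exact ⟨g, hg⟩)⟩
  have h1 : ∀ g : G, 1 ≤ Fintype.card (MulAction.fixedBy (MulAction.orbit G a) g) := fun g => by
    obtain ⟨b, hb, hgb⟩ := hc g
    exact Fintype.card_pos_iff.2 ⟨⟨⟨b, hb⟩, Subtype.ext hgb⟩⟩
  have h2 : 1 < Fintype.card (MulAction.fixedBy (MulAction.orbit G a) (1 : G)) := by
    obtain ⟨g, hg⟩ := h
    rw [Fintype.one_lt_card_iff]
    exact ⟨⟨⟨g • a, MulAction.mem_orbit a g⟩, one_smul _ _⟩, ⟨⟨a, MulAction.mem_orbit_self a⟩, one_smul _ _⟩,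
      fun e => hg (congrArg Subtype.val (congrArg Subtype.val e))⟩
  have h3 : ∑ _g : G, 1 < ∑ g : G, Fintype.card (MulAction.fixedBy (MulAction.orbit G a) g) :=
    Finset.sum_lt_sum (fun g _ => h1 g) ⟨1, Finset.mem_univ _, h2⟩
  rw [hB, Finset.card_eq_sum_ones Finset.univ |>.symm, Finset.card_univ] at h3
  have h4 := Fintype.card_le_one_iff_subsingleton.2
    (inferInstance : Subsingleton (MulAction.orbitRel.Quotient G (MulAction.orbit G a)))
  nlinarith [h3, h4]

/-- For a transitive action the numbers of fixed points sum to the order of the group. -/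
theorem sum_fixed_eq_card [Fintype G] [MulAction.IsPretransitive G Ω] [Nonempty Ω] :
    ∑ g : G, Nat.card (MulAction.fixedBy Ω g) = Nat.card G := by
  classical
  haveI := Fintype.ofFinite Ω
  haveI := Fintype.ofFinite (MulAction.orbitRel.Quotient G Ω)
  haveI : Subsingleton (MulAction.orbitRel.Quotient G Ω) :=
    ⟨fun x y => Quotient.inductionOn₂ x y fun p q => Quotient.sound (MulAction.exists_smul_eq G q p)⟩
  haveI : Nonempty (MulAction.orbitRel.Quotient G Ω) := ‹Nonempty Ω›.map (Quotient.mk _)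
  simp only [Nat.card_eq_fintype_card]
  rw [MulAction.sum_card_fixedBy_eq_card_orbits_mul_card_group G Ω,
    show Fintype.card (MulAction.orbitRel.Quotient G Ω) = 1 from le_antisymm
      (Fintype.card_le_one_iff_subsingleton.2 inferInstance) Fintype.card_pos, one_mul]

end counting

variable {G Ω : Type*} [Group G] [MulAction G Ω] [FaithfulSMul G Ω] [MulAction.IsPreprimitive G Ω]

/-- A primitive group has a regular elementary abelian normal subgroup or a simple socle factor. -/
theorem affine_or_socleFactor [Finite G] [Finite Ω] [Nontrivial Ω] :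
    (∃ (N : Subgroup G) (r : ℕ), r.Prime ∧ N.Normal ∧ N ≠ ⊥ ∧ IsMulCommutative N ∧
      (∀ x ∈ N, x ^ r = 1) ∧ MulAction.IsPretransitive N Ω ∧
      ∀ a : Ω, MulAction.stabilizer N a = ⊥) ∨
    ∃ N T : Subgroup G, IsSocleFactor N T := by
  haveI : Nontrivial G := by
    obtain ⟨a, b, hab⟩ := exists_pair_ne Ω
    obtain ⟨g, hg⟩ := MulAction.exists_smul_eq G a b
    exact ⟨⟨g, 1, fun h => hab (by rw [← hg, h, one_smul])⟩⟩
  obtain ⟨N, hN⟩ := exists_isMinimalNormal (G := G)
  haveI := hN.normal
  by_cases hs : Group.IsSolvable N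
  · obtain ⟨r, hr, hc, hexp, -⟩ := hN.exists_prime hs
    haveI ht : MulAction.IsPretransitive N Ω := isPretransitive_of_normal_ne_bot N hN.ne_bot
    refine Or.inl ⟨N, r, hr, hN.normal, hN.ne_bot, hc, hexp, ht, fun a => ?_⟩
    exact (Subgroup.eq_bot_iff_forall _).2 fun v hv => Subtype.ext
      (eq_one_of_mem_centralizer (V := N) (Subgroup.le_centralizer_iff_isMulCommutative.2 hc v.2) hv)
  · exact Or.inr ⟨N, exists_isSocleFactor hN hs⟩

namespace IsSocleFactor

variable {N T : Subgroup G}

omit [MulAction G Ω] [FaithfulSMul G Ω] [MulAction.IsPreprimitive G Ω] in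
theorem almostSimple (h : IsSocleFactor N T) (hTN : T = N)
    (hC : Subgroup.centralizer (N : Set G) = ⊥) :
    ∃ S : Subgroup G, S.Normal ∧ IsSimpleGroup ↥S ∧ ¬ IsMulCommutative ↥S ∧
      Subgroup.centralizer (S : Set G) = ⊥ :=
  ⟨N, h.isMinimalNormal.normal, hTN ▸ h.isSimpleGroup, hTN ▸ h.not_comm, hC⟩

/-- If `N` has nontrivial centraliser then it is semiregular. -/
theorem semiregular_of_centralizer (h : IsSocleFactor N T)
    (hC : Subgroup.centralizer (N : Set G) ≠ ⊥) {x : G} (hx : x ∈ N) {a : Ω} (hxa : x • a = a) :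
    x = 1 := by
  haveI := h.isMinimalNormal.normal
  haveI := isPretransitive_of_normal_ne_bot (Ω := Ω) (Subgroup.centralizer (N : Set G)) hC
  exact eq_one_of_mem_centralizer (V := Subgroup.centralizer (N : Set G))
    (Subgroup.le_centralizer_iff.1 le_rfl hx) hxa

variable [Finite G]

variable (Ω) in
/-- Either every conjugate of the factor is semiregular, or all point stabilisers in `N` are
products of their components. -/
theorem semiregular_or_product (h : IsSocleFactor N T) :
    (∀ (g : G) (b : Ω) (x : G), x ∈ conjSub g T → x • b = b → x = 1) ∨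
    (∀ (b : Ω) (x : G), x ∈ N → x • b = b → ∀ g, comp (conjSub g T) x • b = b) := by
  refine or_iff_not_imp_right.2 fun hnot g b x hx hxb => ?_
  push_neg at hnot
  obtain ⟨c, y, hy, hyc, g₀, hg₀⟩ := hnot
  obtain ⟨u, rfl⟩ := MulAction.exists_smul_eq G c b
  rcases (h.map_conj (u⁻¹ * g)).diagonal_or_product c with ⟨h1, -⟩ | h2
  · have hmem : u⁻¹ * x * u ∈ conjSub (u⁻¹ * g) T ⊓ MulAction.stabilizer G c := by
      refine Subgroup.mem_inf.2 ⟨?_, ?_⟩
      · rw [mem_conjSub] at hx ⊢
        simpa [mul_assoc] using hx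
      · rw [MulAction.mem_stabilizer_iff, mul_smul, mul_smul, hxb, inv_smul_smul]
    rw [h1, Subgroup.mem_bot] at hmem
    calc x = u * (u⁻¹ * x * u) * u⁻¹ := by group
      _ = 1 := by rw [hmem, mul_one, mul_inv_cancel]
  · refine absurd ?_ hg₀
    have h3 := h2 y hy hyc (g₀ * (u⁻¹ * g)⁻¹)
    rwa [← conjSub_mul, inv_mul_cancel_right] at h3

/-- A factor that is not semiregular contains a derangement. -/
theorem exists_derangement [Finite Ω] (h : IsSocleFactor N T) {a : Ω}
    (hns : ∃ x ∈ T, x ≠ 1 ∧ x • a = a) : ∃ t ∈ T, ∀ b : Ω, t • b ≠ b := by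
  haveI := h.isPretransitive (Ω := Ω)
  have hmove : ∃ t : T, t • a ≠ a := by
    by_contra hc
    push_neg at hc
    obtain ⟨x, hx, hx1, -⟩ := hns
    refine hx1 (FaithfulSMul.eq_of_smul_eq_smul fun b : Ω => ?_)
    obtain ⟨⟨n, hn⟩, rfl⟩ := MulAction.exists_smul_eq N a b
    have h1 : (n⁻¹ * x * n) • a = a := hc ⟨_, by simpa using h.conj_mem n⁻¹ (inv_mem hn) x hx⟩
    change x • n • a = (1 : G) • n • a
    rw [one_smul]
    conv_rhs => rw [← h1]
    rw [smul_smul, smul_smul]
    congr 1; group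
  obtain ⟨t, ht⟩ := exists_forall_smul_ne_orbit hmove
  refine ⟨t, t.2, fun b hb => ?_⟩
  obtain ⟨⟨n, hn⟩, rfl⟩ := MulAction.exists_smul_eq N a b
  refine ht (comp T n • a) ⟨⟨comp T n, comp_mem T n⟩, rfl⟩ ?_
  change (t : G) • comp T n • a = comp T n • a
  have e : n⁻¹ * (t : G) * n = (comp T n)⁻¹ * t * comp T n := by
    have h1 := Subgroup.mem_centralizer_iff.1 (h.comp_spec hn) _ (mul_mem (mul_mem
      (inv_mem (comp_mem T n)) t.2) (comp_mem T n))
    calc n⁻¹ * (t : G) * n
        = ((comp T n)⁻¹ * n)⁻¹ * (((comp T n)⁻¹ * t * comp T n) * ((comp T n)⁻¹ * n)) := by group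
      _ = ((comp T n)⁻¹ * n)⁻¹ * (((comp T n)⁻¹ * n) * ((comp T n)⁻¹ * t * comp T n)) := by rw [h1]
      _ = (comp T n)⁻¹ * t * comp T n := by group
  change (t : G) • n • a = n • a at hb
  rw [← inv_smul_eq_iff, smul_smul, smul_smul, e, ← smul_smul, ← smul_smul, inv_smul_eq_iff] at hb
  exact hb

omit [MulAction G Ω] [FaithfulSMul G Ω] [MulAction.IsPreprimitive G Ω] in
/-- A factor has three primes dividing its order. -/
theorem two_lt_card_primeFactors (h : IsSocleFactor N T) : 2 < (Nat.card T).primeFactors.card :=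
  lt_of_not_ge fun hle => h.not_isSolvable (CfsgLib.FgsB.FourOrbits.isSolvable_of_card_primeFactors_le_two hle)

end IsSocleFactor

end CfsgLib.Recog
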