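import Cfsg.Agent.Lib.Recog.ExtremelyPrimitive
import Cfsg.Agent.Lib.Base.MinimalNormal
import Cfsg.Agent.Lib.Base.Frobenius

/-!
Point stabilisers of extremely primitive groups: centre and Fitting subgroup.
-/

set_option autoImplicit false
set_option maxHeartbeats 400000

namespace CfsgLib.Recog

open CfsgLib.Base

variable {G Ω : Type*} [Group G] [Finite G] [MulAction G Ω] [FaithfulSMul G Ω] [Finite Ω]
  [hprim : MulAction.IsPreprimitive G Ω] (hH : ∀ α : Ω, MulAction.stabilizer G α ≠ ⊥)
  (hep : ∀ α ω : Ω, MulAction.IsPreprimitive (MulAction.stabilizer G α)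
    (MulAction.orbit (MulAction.stabilizer G α) ω))
include hH hep

/-- A non-trivial normal subgroup of a point stabiliser is transitive on each suborbit. -/
theorem normal_transitive_on_orbit {α ω : Ω} (hω : ω ≠ α) (A : Subgroup (MulAction.stabilizer G α))
    [hA : A.Normal] (hA1 : A ≠ ⊥) {x : Ω} (hx : x ∈ MulAction.orbit (MulAction.stabilizer G α) ω) :
    ∃ a ∈ A, (a : G) • ω = x := by
  have hn : MulAction.stabilizer G α ≤
      Subgroup.normalizer ((A.map (MulAction.stabilizer G α).subtype : Subgroup G) : Set G) := by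
    intro h hh
    rw [Subgroup.mem_normalizer_iff]
    refine fun y => ⟨?_, fun ⟨a, ha, hae⟩ => ?_⟩
    · rintro ⟨a, ha, rfl⟩
      exact ⟨⟨h, hh⟩ * a * ⟨h, hh⟩⁻¹, hA.conj_mem a ha ⟨h, hh⟩, rfl⟩
    · refine ⟨⟨h, hh⟩⁻¹ * a * ⟨h, hh⟩, by simpa using hA.conj_mem a ha ⟨h, hh⟩⁻¹, ?_⟩
      change h⁻¹ * (a : G) * h = y
      rw [show (a : G) = h * y * h⁻¹ from hae]
      group
  rcases fixed_or_transitive_on_orbit (hep α ω) (Subgroup.map_subtype_le A) hn with h | h
  · refine absurd ((Subgroup.eq_bot_iff_forall _).2 fun a ha => Subtype.ext ?_) hA1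
    exact eq_one_of_fixes_orbit hH hep hω a.2 fun y hy => h y hy (a : G) ⟨a, ha, rfl⟩
  · obtain ⟨k, ⟨a, ha, rfl⟩, hk⟩ := h x hx
    exact ⟨a, ha, hk⟩

/-- An abelian normal subgroup `A ≠ 1` of a point stabiliser is self-centralising and semiregular
off `α`. -/
theorem mem_and_eq_one_of_centralizes {α ω : Ω} (hω : ω ≠ α) (A : Subgroup (MulAction.stabilizer G α))
    [A.Normal] [IsMulCommutative A] (hA1 : A ≠ ⊥) {c : MulAction.stabilizer G α}
    (hc : c ∈ Subgroup.centralizer (A : Set (MulAction.stabilizer G α))) :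
    c ∈ A ∧ ((c : G) • ω = ω → c = 1) := by
  have key : ∀ c ∈ Subgroup.centralizer (A : Set (MulAction.stabilizer G α)),
      (c : G) • ω = ω → c = 1 := by
    intro c hc hfix
    refine Subtype.ext (eq_one_of_fixes_orbit hH hep hω c.2 fun x hx => ?_)
    obtain ⟨a, ha, rfl⟩ := normal_transitive_on_orbit hH hep hω A hA1 hx
    rw [smul_smul, ← Subgroup.coe_mul, ← Subgroup.mem_centralizer_iff.1 hc a ha, Subgroup.coe_mul,
      ← smul_smul, hfix]
  refine ⟨?_, key c hc⟩
  obtain ⟨a, ha, hae⟩ := normal_transitive_on_orbit hH hep hω A hA1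
    (x := (c : G) • ω) ⟨c, rfl⟩
  have h1 : a⁻¹ * c = 1 := key _ (mul_mem (inv_mem (Subgroup.le_centralizer_iff_isMulCommutative.2
    ‹IsMulCommutative A› ha)) hc) (by
      rw [Subgroup.coe_mul, ← smul_smul, Subgroup.coe_inv, inv_smul_eq_iff, hae])
  rw [inv_mul_eq_one] at h1
  exact h1 ▸ ha

theorem exists_moved (α : Ω) : ∃ ω, ω ≠ α := by
  by_contra hall
  push_neg at hall
  exact hH α ((Subgroup.eq_bot_iff_forall _).2 fun g _ => FaithfulSMul.eq_of_smul_eq_smul
    fun x : Ω => by rw [one_smul, hall x, hall (g • α)])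

/-- The number of points is congruent to one modulo an abelian normal subgroup of a point
stabiliser. -/
theorem card_dvd_pred [Fintype Ω] {α : Ω} (A : Subgroup (MulAction.stabilizer G α)) [A.Normal]
    [IsMulCommutative A] (hA1 : A ≠ ⊥) : Nat.card A ∣ Fintype.card Ω - 1 := by
  classical
  letI : SMul A {x : Ω // x ≠ α} := ⟨fun a x => ⟨((a : MulAction.stabilizer G α) : G) • x.1,
    fun h => x.2 (MulAction.injective ((a : MulAction.stabilizer G α) : G) (h.trans (a : MulAction.stabilizer G α).2.symm))⟩⟩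
  letI : MulAction A {x : Ω // x ≠ α} :=
    { one_smul := fun x => Subtype.ext (one_smul G x.1)
      mul_smul := fun a b x => Subtype.ext (mul_smul ((a : MulAction.stabilizer G α) : G)
        ((b : MulAction.stabilizer G α) : G) x.1) }
  have h := card_dvd_of_free (A := A) (X := {x : Ω // x ≠ α}) fun a x hax => Subtype.ext
    ((mem_and_eq_one_of_centralizes hH hep x.2 A hA1
      (Subgroup.le_centralizer_iff_isMulCommutative.2 ‹IsMulCommutative A› a.2)).2
      (congrArg Subtype.val hax))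
  rwa [Nat.card_eq_fintype_card (α := {x : Ω // x ≠ α}), Fintype.card_subtype_compl,
    Fintype.card_subtype_eq] at h

/-- The centre is trivial unless the stabiliser has prime order. -/
theorem center_stabilizer_eq_bot (α : Ω) (hp : ¬ (Nat.card (MulAction.stabilizer G α)).Prime) :
    Subgroup.center (MulAction.stabilizer G α) = ⊥ := by
  by_contra hZ
  obtain ⟨ω, hω⟩ := exists_moved hH hep α
  haveI : IsMulCommutative (Subgroup.center (MulAction.stabilizer G α)) :=
    Subgroup.le_centralizer_iff_isMulCommutative.1 (Subgroup.center_le_centralizer _)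
  set H := MulAction.stabilizer G α with hHdef
  have hall : ∀ c : H, c ∈ Subgroup.centralizer ((Subgroup.center H : Subgroup H) : Set H) := fun c =>
    Subgroup.mem_centralizer_iff.2 fun z hz => (Subgroup.mem_center_iff.1 hz c).symm
  -- the stabiliser is abelian and regular on the orbit
  have hreg : ∀ c : H, (c : G) • ω = ω → c = 1 := fun c =>
    (mem_and_eq_one_of_centralizes hH hep hω _ hZ (hall c)).2
  haveI := hep α ω
  haveI : Nontrivial (MulAction.orbit H ω) := by
    obtain ⟨h, hh, hh1⟩ := (Subgroup.bot_or_exists_ne_one H).resolve_left (hH α)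
    refine ⟨⟨⟨ω, MulAction.mem_orbit_self ω⟩, ⟨(⟨h, hh⟩ : H) • ω, MulAction.mem_orbit ω _⟩, fun e => hh1 ?_⟩⟩
    exact congrArg Subtype.val (hreg ⟨h, hh⟩ (congrArg Subtype.val e).symm)
  have hc := MulAction.IsPreprimitive.isCoatom_stabilizer_of_isPreprimitive H
    (⟨ω, MulAction.mem_orbit_self ω⟩ : MulAction.orbit H ω)
  rw [show MulAction.stabilizer H (⟨ω, MulAction.mem_orbit_self ω⟩ : MulAction.orbit H ω) = ⊥ from
    (Subgroup.eq_bot_iff_forall _).2 fun c hc => hreg c (congrArg Subtype.val hc)] at hc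
  haveI : Nontrivial H := (Subgroup.nontrivial_iff_ne_bot H).2 (hH α)
  have hgen : ∀ c : H, c ≠ 1 → Subgroup.zpowers c = ⊤ := fun c hc1 =>
    hc.2 _ (bot_lt_iff_ne_bot.2 (Subgroup.zpowers_ne_bot.2 hc1))
  have hq := Nat.minFac_prime (Finite.one_lt_card (α := H)).ne'
  haveI := Fact.mk hq
  obtain ⟨c, hc'⟩ := exists_prime_orderOf_dvd_card' _ (Nat.minFac_dvd (Nat.card H))
  refine hp ?_
  rw [← Subgroup.card_top (G := H), ← hgen c (fun h => hq.ne_one (by rw [← hc', h, orderOf_one])),
    Nat.card_zpowers, hc']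
  exact hq

/-- The Fitting subgroup of a point stabiliser is elementary abelian and self-centralising. -/
theorem fittingSubgroup_stabilizer {α : Ω}
    (hF : Cfsg.fittingSubgroup (MulAction.stabilizer G α) ≠ ⊥) :
    ∃ p : ℕ, p.Prime ∧ IsMulCommutative (Cfsg.fittingSubgroup (MulAction.stabilizer G α)) ∧
      IsPGroup p (Cfsg.fittingSubgroup (MulAction.stabilizer G α)) ∧
      (∀ x ∈ Cfsg.fittingSubgroup (MulAction.stabilizer G α), x ^ p = 1) ∧
      Subgroup.centralizer (Cfsg.fittingSubgroup (MulAction.stabilizer G α) :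
        Set (MulAction.stabilizer G α)) ≤ Cfsg.fittingSubgroup (MulAction.stabilizer G α) := by
  haveI := fittingSubgroup_normal' (MulAction.stabilizer G α)
  obtain ⟨A, hAF, hA⟩ := exists_isMinimalNormal_le hF
  haveI := isNilpotent_of_le hAF (isNilpotent_fittingSubgroup _)
  obtain ⟨p, hp, hcomm, hexp, hpg⟩ := hA.exists_prime inferInstance
  haveI := hcomm
  haveI := hA.normal
  obtain ⟨ω, hω⟩ := exists_moved hH hep α
  have hC : Subgroup.centralizer (A : Set (MulAction.stabilizer G α)) ≤ A := fun c hc =>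
    (mem_and_eq_one_of_centralizes hH hep hω A hA.ne_bot hc).1
  have hFA : Cfsg.fittingSubgroup (MulAction.stabilizer G α) = A :=
    le_antisymm (hA.fittingSubgroup_le_centralizer.trans hC) hAF
  rw [hFA]
  exact ⟨p, hp, hcomm, hpg, hexp, hC⟩

end CfsgLib.Recog
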