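import Mathlib
import Cfsg.Agent.Lib.KnownA.Suzuki.Count
import Cfsg.Agent.Lib.KnownA.Suzuki.Out

/-!
The twisted tensor module of `Sz(8)`: the quartic satisfied by an element in terms of its trace,
traces fixed by the Frobenius map, and freeness of elements of order thirteen.
-/

set_option autoImplicit false

namespace CfsgLib.Recog.Sz8Model

open Matrix Cfsg.Lie Polynomial
open CfsgLib.KnownA.Suzuki (TitsField mat)

variable {F : Type*} [Field F] (H : TitsField F 4)

/-- The quartic of an element of trace `T`. -/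
noncomputable def quartic (T : F) : F[X] :=
  X ^ 4 + C T * X ^ 3 + C (T ^ 4) * X ^ 2 + C T * X + 1

include H

theorem aeval_quartic (g : Sz F 4) :
    aeval (mat g) (quartic (mat g).trace) = 0 := by
  haveI := H.charP
  haveI : CharP F[X] 2 := inferInstance
  obtain ⟨hsp, hst⟩ := CfsgLib.KnownA.Suzuki.mem_eqs H g
  set M := mat g with hM
  have h2 : CfsgLib.Recog.minorSum2 M = M.trace ^ 4 := by
    rw [← CfsgLib.Recog.trace_star4 hsp, hst]
    haveI : ExpChar F 2 := ExpChar.prime Nat.prime_two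
    exact (map_sum (iterateFrobenius F 2 2) _ _).symm
  have hcp : M.charpoly = quartic M.trace := by
    have hchar : Matrix.charmatrix M =
        (X : F[X]) • (1 : Matrix (Fin 4) (Fin 4) F[X]) + M.map C := by
      ext i j
      by_cases hij : i = j
      · subst hij
        simp [Matrix.charmatrix_apply, CharTwo.sub_eq_add]
      · simp [Matrix.charmatrix_apply, hij, CharTwo.neg_eq]
    rw [Matrix.charpoly, hchar, CfsgLib.Recog.det_smul_one_add]
    have e1 : (M.map C).trace = C M.trace := by simp [Matrix.trace, map_sum]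
    have e2 : CfsgLib.Recog.minorSum2 (M.map C) = C (CfsgLib.Recog.minorSum2 M) := by
      simp [CfsgLib.Recog.minorSum2]
    have e3 : (M.map C).adjugate.trace = C M.adjugate.trace := by
      rw [show M.map C = (C : F →+* F[X]).mapMatrix M from rfl, ← RingHom.map_adjugate]
      simp [Matrix.trace, map_sum]
    have e4 : (M.map C).det = C M.det := by
      rw [RingHom.map_det]
      rfl
    rw [e1, e2, e3, e4, CfsgLib.Recog.trace_adjugate_of_mem_Sp4 hsp,
      CfsgLib.Recog.det_eq_one_of_mem_Sp4 hsp, h2, quartic, map_one]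
  rw [← hcp]
  exact Matrix.aeval_self_charpoly M

omit H in
theorem mat_pow {e : ℕ} (g : Sz F e) (n : ℕ) : mat (g ^ n) = mat g ^ n := by
  induction n with
  | zero => simp [CfsgLib.KnownA.Suzuki.mat_one]
  | succ n ih => rw [pow_succ, CfsgLib.KnownA.Suzuki.mat_mul, ih, pow_succ]

theorem pow_eq_one_of_dvd (g : Sz F 4) (n : ℕ)
    (h : quartic (mat g).trace ∣ (X ^ n + 1 : F[X])) : g ^ n = 1 := by
  haveI := H.charP
  obtain ⟨S, hS⟩ := h
  have h1 := congrArg (aeval (mat g)) hS
  rw [map_mul, aeval_quartic H, zero_mul, map_add, map_pow, aeval_X, map_one] at h1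
  apply CfsgLib.KnownA.Suzuki.mat_ext
  rw [mat_pow, CfsgLib.KnownA.Suzuki.mat_one]
  ext i j
  have h2 := congrFun (congrFun h1 i) j
  simp only [Matrix.add_apply, Matrix.zero_apply] at h2
  exact CharTwo.add_eq_zero.1 h2

/-- An element whose trace lies in the prime field has order dividing four or five. -/
theorem pow_of_trace_sq (g : Sz F 4) (h : (mat g).trace ^ 2 = (mat g).trace) :
    g ^ 4 = 1 ∨ ((mat g).trace = 1 ∧ g ^ 5 = 1) := by
  haveI := H.charP
  haveI : CharP F[X] 2 := inferInstance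
  have h2 : (2 : F[X]) = 0 := CharTwo.two_eq_zero
  have : (mat g).trace * ((mat g).trace - 1) = 0 := by linear_combination h
  rcases mul_eq_zero.1 this with h0 | h1
  · left
    refine pow_eq_one_of_dvd H g 4 ⟨1, ?_⟩
    simp [quartic, h0]
  · right
    rw [sub_eq_zero] at h1
    refine ⟨h1, pow_eq_one_of_dvd H g 5 ⟨X + 1, ?_⟩⟩
    simp only [quartic, h1, one_pow, map_one]
    linear_combination -(X + X ^ 2 + X ^ 3 + X ^ 4) * h2

variable [Fintype F] (hF : Fintype.card F = 8)
include hF

omit H in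
theorem pow_eight (x : F) : x ^ 8 = x := hF ▸ FiniteField.pow_card x

/-- The Frobenius twist of an element. -/
theorem exists_twist (g : Sz F 4) :
    ∃ g' : Sz F 4, mat g' = (mat g).map (fun x => x ^ 2) ∧ (mat g').trace = (mat g).trace ^ 2 := by
  haveI := H.charP
  obtain ⟨g', hg'⟩ := CfsgLib.KnownA.Suzuki.map_normalForm H (frobeniusEquiv F 2) g
  have h1 : mat g' = (mat g).map (fun x => x ^ 2) := by
    rw [hg']; ext i j; simp [frobeniusEquiv_apply, frobenius_def]
  refine ⟨g', h1, ?_⟩
  rw [h1]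
  simp [Matrix.trace, sum_pow_char 2]

/-- An element of order thirteen has no fixed points on the twisted tensor module. -/
theorem eq_zero_of_fixed (g : Sz F 4) (h4 : g ^ 4 ≠ 1) (h5 : g ^ 5 ≠ 1) (h7 : g ^ 7 ≠ 1)
    {Z : Matrix (Fin 4) (Fin 4) F}
    (hZ : mat g * Z * ((mat g).map (fun x => x ^ 2))ᵀ = Z) : Z = 0 := by
  haveI := H.charP
  haveI : CharP F[X] 2 := inferInstance
  have two : (2 : F) = 0 := H.two
  have two' : (2 : F[X]) = 0 := CharTwo.two_eq_zero
  obtain ⟨g', hg', htr⟩ := exists_twist H hF g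
  set M := mat g with hM
  set N := mat g' with hN
  set A : Matrix (Fin 4) (Fin 4) F := CfsgLib.Recog.antiDiag
  set T := M.trace with hT
  rw [← hg'] at hZ
  have hA : N * A * Nᵀ = A :=
    CfsgLib.Recog.mul_antiDiag_mul_transpose (CfsgLib.KnownA.Suzuki.mem_eqs H g').1
  set Y := Z * A with hY
  have hYA : Y * A = Z := by rw [hY, Matrix.mul_assoc, CfsgLib.Recog.antiDiag_sq, Matrix.mul_one]
  have hR : (A * Nᵀ) * (A * N) = 1 := by
    have h1 : N * (A * Nᵀ * A) = 1 := by
      rw [← Matrix.mul_assoc, ← Matrix.mul_assoc, hA, CfsgLib.Recog.antiDiag_sq]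
    rw [← Matrix.mul_assoc]
    exact mul_eq_one_comm.1 h1
  have hint : M * Y = Y * N := by
    have h1 : M * Y * (A * Nᵀ) = Y * N * (A * Nᵀ) := by
      calc M * Y * (A * Nᵀ) = M * (Y * A) * Nᵀ := by simp only [Matrix.mul_assoc]
        _ = Z := by rw [hYA, hZ]
        _ = Y * (N * A * Nᵀ) := by rw [hA, hYA]
        _ = Y * N * (A * Nᵀ) := by simp only [Matrix.mul_assoc]
    have h3 := congrArg (· * (A * N)) h1
    simpa only [Matrix.mul_assoc, hR, Matrix.mul_one] using h3
  have hpow : ∀ n : ℕ, M ^ n * Y = Y * N ^ n := fun n => by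
    induction n with
    | zero => simp
    | succ n ih => rw [pow_succ, Matrix.mul_assoc, hint, ← Matrix.mul_assoc, ih, Matrix.mul_assoc,
        ← pow_succ]
  have hpoly : ∀ p : F[X], aeval M p * Y = Y * aeval N p := by
    intro p
    induction p using Polynomial.induction_on' with
    | add p q hp hq => rw [map_add, map_add, Matrix.add_mul, Matrix.mul_add, hp, hq]
    | monomial n a =>
      rw [aeval_monomial, aeval_monomial, ← Algebra.smul_def, ← Algebra.smul_def, smul_mul_assoc,
        hpow, mul_smul_comm]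
  have hP : Y * aeval N (quartic T) = 0 := by rw [← hpoly, aeval_quartic H, Matrix.zero_mul]
  have hQ : aeval N (quartic (T ^ 2)) = 0 := by
    have := aeval_quartic H g'
    rwa [← hN, htr] at this
  have h8 : (T ^ 2) ^ 4 = T := by rw [← pow_mul]; exact pow_eight hF T
  -- the trace is outside the prime field
  have hT01 : T ^ 2 ≠ T := fun h => by
    rcases pow_of_trace_sq H g h with h' | ⟨-, h'⟩
    · exact h4 h'
    · exact h5 h'
  have ha : T + T ^ 2 ≠ 0 := fun h => hT01 (CharTwo.add_eq_zero.1 h).symm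
  set c := 1 + T + T ^ 2 with hc
  set d := c ^ 2 + T ^ 2 * c + T with hd
  have hd0 : d ≠ 0 := by
    intro h0
    have hcub : T ^ 3 + T + 1 = 0 := by
      rw [hd, hc] at h0
      linear_combination h0 - (T + 2 * T ^ 2 + T ^ 4 + T ^ 3) * two
    apply h7
    refine pow_eq_one_of_dvd H g 7 ⟨X ^ 3 + C T * X ^ 2 + C T * X + 1, ?_⟩
    have hcub' : (C T) ^ 3 + C T + 1 = (0 : F[X]) := by
      simpa using congrArg C hcub
    simp only [quartic, map_pow]
    linear_combination -(C T * (X ^ 5 + X ^ 2) + ((C T) ^ 2 + 1) * (X ^ 4 + X ^ 3)) * hcub' -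
      (C T * X ^ 6 + C T * X - (C T) ^ 3 * (X ^ 4 + X ^ 3)) * two'
  set a := T + T ^ 2 with hadef
  set S : F[X] := X ^ 2 + C (c + T ^ 2) * X + 1 with hS
  set R : F[X] := X ^ 2 + C c * X + 1 with hR'
  have e1 : quartic T + quartic (T ^ 2) = C a * X * R := by
    simp only [quartic, h8, hR', hc, hadef, map_add, map_pow, map_one]
    linear_combination (X ^ 4 + 1 - (C T) ^ 2 * X ^ 2 - (C T) ^ 3 * X ^ 2) * two'
  have e2 : quartic (T ^ 2) = R * S + C d * X ^ 2 := by
    simp only [quartic, h8, hR', hS, hd, map_add, map_mul, map_pow]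
    linear_combination -(X ^ 3 * C c + X * C c + X ^ 2 + X ^ 2 * (C c) ^ 2 + X ^ 2 * C c * (C T) ^ 2) * two'
  have key : quartic T * S + quartic (T ^ 2) * (C a * X + S) =
      C (a * d) * X ^ 3 := by
    rw [map_mul]
    linear_combination S * e1 + (C a * X) * e2 + C a * X * R * S * two'
  have h3 := congrArg (fun p : F[X] => Y * aeval N p) key
  simp only [map_add, map_mul, map_pow, aeval_X, hQ, zero_mul, add_zero, aeval_C,
    ← Matrix.mul_assoc, hP, Matrix.zero_mul] at h3
  have hN3 : N ^ 3 * (mat g'⁻¹) ^ 3 = 1 := by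
    rw [hN, ← mat_pow, ← mat_pow, ← CfsgLib.KnownA.Suzuki.mat_mul, inv_pow, mul_inv_cancel,
      CfsgLib.KnownA.Suzuki.mat_one]
  have h4' : (a * d) • Y = 0 := by
    have h5' := congrArg (· * (mat g'⁻¹) ^ 3) h3.symm
    simp only [Matrix.mul_assoc, hN3, Matrix.mul_one, Matrix.zero_mul] at h5'
    rw [← h5', ← map_mul, ← Algebra.commutes, ← Algebra.smul_def]
  rcases smul_eq_zero.1 h4' with h | h
  · exact absurd h (mul_ne_zero ha hd0)
  · rw [← hYA, h, Matrix.zero_mul]

end CfsgLib.Recog.Sz8Model
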