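import Mathlib
import Cfsg.Agent.Lib.Recog.Sz8Model
import Cfsg.Agent.Lib.Recog.Unbounded

/-!
The group `F₈^{4×4} ⋊ (Sz(8) ⋊ 3)` built from the twisted tensor module, and its prime graph:
the primes are `2, 3, 5, 7, 13` and the edges are `2-3, 2-5, 3-5, 2-7`.
-/

set_option autoImplicit false

namespace CfsgLib.Recog.Sz8Model

open Matrix Cfsg.Lie
open CfsgLib.KnownA.Suzuki (TitsField mat su sh sw)

variable {F : Type} [Field F]

/-- Entrywise squaring. -/
def sqM (M : Matrix (Fin 4) (Fin 4) F) : Matrix (Fin 4) (Fin 4) F := M.map (fun x => x ^ 2)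

theorem sqM_mul (H : TitsField F 4) (M N : Matrix (Fin 4) (Fin 4) F) :
    sqM (M * N) = sqM M * sqM N := by
  haveI := H.charP
  exact (Matrix.map_mul (f := frobenius F 2) (L := M) (M := N))

theorem sqM_one : sqM (1 : Matrix (Fin 4) (Fin 4) F) = 1 := by
  ext i j
  by_cases h : i = j <;> simp [sqM, Matrix.one_apply, h]

/-- The module. -/
abbrev Mdl (F : Type) := Multiplicative (Matrix (Fin 4) (Fin 4) F)

/-- The twisted tensor action `X ↦ g X (g^(2))ᵀ`. -/
def szAct (H : TitsField F 4) : Sz F 4 →* MulAut (Mdl F) where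
  toFun g :=
    { toFun := fun v => Multiplicative.ofAdd (mat g * v.toAdd * (sqM (mat g))ᵀ)
      invFun := fun v => Multiplicative.ofAdd (mat g⁻¹ * v.toAdd * (sqM (mat g⁻¹))ᵀ)
      left_inv := fun v => by
        apply Multiplicative.toAdd.injective
        show mat g⁻¹ * (mat g * v.toAdd * (sqM (mat g))ᵀ) * (sqM (mat g⁻¹))ᵀ = v.toAdd
        rw [← Matrix.mul_assoc, ← Matrix.mul_assoc, ← CfsgLib.KnownA.Suzuki.mat_mul, inv_mul_cancel,
          Matrix.mul_assoc, ← Matrix.transpose_mul, ← sqM_mul H, ← CfsgLib.KnownA.Suzuki.mat_mul,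
          inv_mul_cancel, CfsgLib.KnownA.Suzuki.mat_one, sqM_one, Matrix.transpose_one,
          Matrix.one_mul, Matrix.mul_one]
      right_inv := fun v => by
        apply Multiplicative.toAdd.injective
        show mat g * (mat g⁻¹ * v.toAdd * (sqM (mat g⁻¹))ᵀ) * (sqM (mat g))ᵀ = v.toAdd
        rw [← Matrix.mul_assoc, ← Matrix.mul_assoc, ← CfsgLib.KnownA.Suzuki.mat_mul, mul_inv_cancel,
          Matrix.mul_assoc, ← Matrix.transpose_mul, ← sqM_mul H, ← CfsgLib.KnownA.Suzuki.mat_mul,
          mul_inv_cancel, CfsgLib.KnownA.Suzuki.mat_one, sqM_one, Matrix.transpose_one,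
          Matrix.one_mul, Matrix.mul_one]
      map_mul' := fun v w => by
        apply Multiplicative.toAdd.injective
        show mat g * (v.toAdd + w.toAdd) * (sqM (mat g))ᵀ =
          mat g * v.toAdd * (sqM (mat g))ᵀ + mat g * w.toAdd * (sqM (mat g))ᵀ
        rw [Matrix.mul_add, Matrix.add_mul] }
  map_one' := MulEquiv.ext fun v => by
    apply Multiplicative.toAdd.injective
    show mat (1 : Sz F 4) * v.toAdd * (sqM (mat (1 : Sz F 4)))ᵀ = v.toAdd
    rw [CfsgLib.KnownA.Suzuki.mat_one, sqM_one, Matrix.transpose_one, Matrix.one_mul, Matrix.mul_one]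
  map_mul' g k := MulEquiv.ext fun v => by
    apply Multiplicative.toAdd.injective
    show mat (g * k) * v.toAdd * (sqM (mat (g * k)))ᵀ =
      mat g * (mat k * v.toAdd * (sqM (mat k))ᵀ) * (sqM (mat g))ᵀ
    rw [CfsgLib.KnownA.Suzuki.mat_mul, sqM_mul H, Matrix.transpose_mul]
    simp only [Matrix.mul_assoc]

/-- Entrywise field automorphisms of the module. -/
def fldAct (C : Subgroup (F ≃+* F)) : C →* MulAut (Mdl F) where
  toFun c := AddEquiv.toMultiplicative ((c : F ≃+* F).toAddEquiv.mapMatrix)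
  map_one' := rfl
  map_mul' _ _ := rfl

/-- `Sz(8)` extended by field automorphisms. -/
abbrev TT (H : TitsField F 4) (C : Subgroup (F ≃+* F)) :=
  Sz F 4 ⋊[(CfsgLib.KnownA.Suzuki.fieldAut H).comp C.subtype] C

/-- The action of `Sz(8) ⋊ C` on the module. -/
noncomputable def modAct (H : TitsField F 4) (C : Subgroup (F ≃+* F)) : TT H C →* MulAut (Mdl F) :=
  SemidirectProduct.lift (szAct H) (fldAct C) (fun c => by
    refine MonoidHom.ext fun g => ?_
    simp only [MonoidHom.comp_apply, MulEquiv.coe_toMonoidHom, MulAut.conj_apply]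
    rw [eq_mul_inv_iff_mul_eq]
    refine MulEquiv.ext fun v => ?_
    apply Multiplicative.toAdd.injective
    show mat (CfsgLib.KnownA.Suzuki.fieldAut H (c : F ≃+* F) g) * (v.toAdd.map (c : F ≃+* F)) *
        (sqM (mat (CfsgLib.KnownA.Suzuki.fieldAut H (c : F ≃+* F) g)))ᵀ =
      (mat g * v.toAdd * (sqM (mat g))ᵀ).map (c : F ≃+* F)
    rw [show mat (CfsgLib.KnownA.Suzuki.fieldAut H (c : F ≃+* F) g) =
      (mat g).map (c : F ≃+* F) from CfsgLib.KnownA.Suzuki.mat_fieldEnd H _ g,
      Matrix.map_mul, Matrix.map_mul]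
    congr 1
    ext i j
    simp [sqM])

theorem modAct_apply (H : TitsField F 4) (C : Subgroup (F ≃+* F)) (x : TT H C) (v : Mdl F) :
    (modAct H C x v).toAdd =
      mat x.left * (v.toAdd.map (x.right : F ≃+* F)) * (sqM (mat x.left))ᵀ := rfl

/-- The group with the prime graph of `PSp₆(3)`. -/
abbrev GG (H : TitsField F 4) (C : Subgroup (F ≃+* F)) := Mdl F ⋊[modAct H C] TT H C

variable [Fintype F] (H : TitsField F 4) (hF : Fintype.card F = 8) {σ : F ≃+* F}
  (hσ : ∀ x, σ x = x ^ 2)
include hF hσ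

theorem orderOf_sigma : orderOf σ = 3 := by
  haveI := Fact.mk Nat.prime_three
  refine orderOf_eq_prime (RingEquiv.ext fun x => ?_) ?_
  · show σ (σ (σ x)) = x
    rw [hσ, hσ, hσ, ← pow_mul, ← pow_mul]
    exact pow_eight hF x
  · intro h
    classical
    obtain ⟨u, hu⟩ := Finset.exists_mem_notMem_of_card_lt_card
      (show ({0, 1} : Finset F).card < Finset.univ.card by
        rw [Finset.card_univ, hF]; exact lt_of_le_of_lt Finset.card_le_two (by norm_num))
    simp only [Finset.mem_insert, Finset.mem_singleton, not_or] at hu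
    have h1 : u ^ 2 = u := by rw [← hσ, h]; rfl
    have h2 : u * (u - 1) = 0 := by linear_combination h1
    rcases mul_eq_zero.1 h2 with h3 | h3
    · exact hu.2.1 h3
    · exact hu.2.2 (sub_eq_zero.1 h3)

theorem card_C : Nat.card (Subgroup.zpowers σ) = 3 := by
  rw [Nat.card_zpowers, orderOf_sigma hF hσ]

include H

theorem card_Sz : Nat.card (Sz F 4) = 29120 := by
  rw [CfsgLib.KnownA.Suzuki.natCard_Sz H, hF]
  norm_num

theorem card_TT : Nat.card (TT H (Subgroup.zpowers σ)) = 87360 := by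
  rw [SemidirectProduct.card, card_Sz H hF hσ, card_C hF hσ]

theorem orderOf_inl (g : Sz F 4) :
    orderOf (SemidirectProduct.inl g : TT H (Subgroup.zpowers σ)) = orderOf g :=
  orderOf_injective _ SemidirectProduct.inl_injective g

/-- Elements of order prime to three lie in `Sz(8)`. -/
theorem eq_inl {x : TT H (Subgroup.zpowers σ)} (h : Nat.Coprime (orderOf x) 3) :
    x = SemidirectProduct.inl x.left := by
  refine SemidirectProduct.ext (by simp) ?_
  simp only [SemidirectProduct.right_inl]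
  rw [← orderOf_eq_one_iff]
  have h1 : orderOf x.right ∣ orderOf x :=
    orderOf_map_dvd (SemidirectProduct.rightHom (φ := (CfsgLib.KnownA.Suzuki.fieldAut H).comp
      (Subgroup.zpowers σ).subtype)) x
  have h2 : orderOf x.right ∣ 3 := card_C hF hσ ▸ orderOf_dvd_natCard _
  exact Nat.eq_one_of_dvd_coprimes h h1 h2

theorem not_two_thirteen (x : TT H (Subgroup.zpowers σ)) : orderOf x ≠ 26 := by
  intro hx
  have h1 := eq_inl H hF hσ (x := x) (by rw [hx]; norm_num)
  rw [h1, orderOf_inl H hF hσ] at hx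
  rcases CfsgLib.KnownA.Suzuki.odd_or_pow_four H x.left with h | h
  · rw [hx] at h; exact absurd h (by decide)
  · have := orderOf_dvd_of_pow_eq_one h
    rw [hx] at this
    norm_num at this

theorem not_three (s : ℕ) (hs : s = 7 ∨ s = 13) (x : TT H (Subgroup.zpowers σ)) :
    orderOf x ≠ 3 * s := by
  intro hx
  have hy : orderOf (x ^ 3) = s := by
    rw [orderOf_pow' x (by norm_num), hx, Nat.gcd_eq_right (dvd_mul_right 3 s), Nat.mul_div_cancel_left _ (by norm_num)]
  set z := x ^ 3 with hz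
  have hzl := eq_inl H hF hσ (x := z) (by rw [hy]; rcases hs with rfl | rfl <;> norm_num)
  set y := z.left
  rw [hzl, orderOf_inl H hF hσ] at hy
  have hr : x.right ≠ 1 := by
    intro hr
    have h1 : x = SemidirectProduct.inl x.left :=
      SemidirectProduct.ext (by simp) (by simpa using hr)
    rw [h1, orderOf_inl H hF hσ] at hx
    have h2 : (3 : ℕ) ∣ 29120 := by
      rw [← card_Sz H hF hσ]
      exact (hx ▸ dvd_mul_right 3 s).trans (orderOf_dvd_natCard _)
    norm_num at h2
  have hcomm : x * z = z * x := ((Commute.refl x).pow_right 3).eq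
  rw [hzl] at hcomm
  have h2 := congrArg SemidirectProduct.left hcomm
  simp only [SemidirectProduct.mul_left, SemidirectProduct.left_inl, SemidirectProduct.right_inl,
    map_one, MulAut.one_apply, MonoidHom.comp_apply, Subgroup.coe_subtype] at h2
  set c : F ≃+* F := (x.right : F ≃+* F)
  have h3 : c (mat y).trace = (mat y).trace := by
    have h4 : (mat y).map c = mat (x.left⁻¹ * (y * x.left)) := by
      rw [← h2, inv_mul_cancel_left]
      exact (CfsgLib.KnownA.Suzuki.mat_fieldEnd H c y).symm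
    have h5 := congrArg Matrix.trace h4
    rw [CfsgLib.KnownA.Suzuki.mat_mul, CfsgLib.KnownA.Suzuki.mat_mul, Matrix.trace_mul_comm,
      Matrix.mul_assoc, ← CfsgLib.KnownA.Suzuki.mat_mul, mul_inv_cancel,
      CfsgLib.KnownA.Suzuki.mat_one, Matrix.mul_one] at h5
    conv_rhs => rw [← h5]
    simp [Matrix.trace, map_sum]
  have h6 : σ (mat y).trace = (mat y).trace := by
    have hmem : (⟨σ, Subgroup.mem_zpowers σ⟩ : Subgroup.zpowers σ) ∈ Subgroup.zpowers x.right :=
      haveI := Fact.mk Nat.prime_three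
      mem_zpowers_of_prime_card (card_C hF hσ) hr
    obtain ⟨n, hn⟩ := hmem
    have hn' : c ^ n = σ := by
      have := congrArg (fun w : Subgroup.zpowers σ => (w : F ≃+* F)) hn
      simpa using this
    rw [← hn']
    have hfix : c ∈ MulAction.stabilizer (F ≃+* F) (mat y).trace := MulAction.mem_stabilizer_iff.2 h3
    exact Subgroup.zpow_mem _ hfix n
  rw [hσ] at h6
  rcases pow_of_trace_sq H y h6 with h | ⟨-, h⟩ <;>
    · have := orderOf_dvd_of_pow_eq_one h
      rw [hy] at this
      rcases hs with rfl | rfl <;> norm_num at this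

theorem not_five_seven_thirteen {r s : ℕ} (hrs : (r = 5 ∧ s = 7) ∨ (r = 5 ∧ s = 13) ∨ (r = 13 ∧ s = 7))
    (x : TT H (Subgroup.zpowers σ)) : orderOf x ≠ r * s := by
  intro hx
  have h1 := eq_inl H hF hσ (x := x) (by
    rw [hx]; rcases hrs with ⟨rfl, rfl⟩ | ⟨rfl, rfl⟩ | ⟨rfl, rfl⟩ <;> norm_num)
  rw [h1, orderOf_inl H hF hσ] at hx
  set g := x.left
  have hs0 : s ≠ 0 := by rcases hrs with ⟨rfl, rfl⟩ | ⟨rfl, rfl⟩ | ⟨rfl, rfl⟩ <;> norm_num
  have hy : orderOf (g ^ s) = r := by
    rw [orderOf_pow' g hs0, hx, Nat.gcd_eq_right (dvd_mul_left s r), Nat.mul_div_cancel _ (Nat.pos_of_ne_zero hs0)]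
  have hr : r = 5 ∨ r = 13 := by omega
  have hF' : Fintype.card F = 2 ^ (2 * 1 + 1) := by rw [hF]; norm_num
  have hne : g ^ s ≠ 1 := fun h => by rw [h, orderOf_one] at hy; omega
  have hfpf : CfsgLib.KnownA.Suzuki.Fpf H (g ^ s) :=
    CfsgLib.KnownA.Suzuki.fpf_of_coprime H (m := 1) le_rfl hF' hne
      (by rw [hy]; rcases hr with rfl | rfl <;> decide)
      (by rw [hy]; rcases hr with rfl | rfl <;> norm_num)
  have hc := CfsgLib.KnownA.Suzuki.natCard_centralizer_eq H (m := 1) le_rfl hF' (by norm_num) hfpf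
  have hg : g ∈ Subgroup.centralizer ({g ^ s} : Set (Sz F 4)) :=
    Subgroup.mem_centralizer_singleton_iff.2 ((Commute.refl g).pow_right s).eq
  have h2 := Subgroup.orderOf_dvd_natCard _ hg
  rw [hx] at h2
  rcases hc with hc | hc <;> rw [hc] at h2 <;>
    rcases hrs with ⟨rfl, rfl⟩ | ⟨rfl, rfl⟩ | ⟨rfl, rfl⟩ <;>
    simp [CfsgLib.KnownA.Suzuki.kp, CfsgLib.KnownA.Suzuki.km] at h2 <;> norm_num at h2

theorem no_fixed_thirteen (x : TT H (Subgroup.zpowers σ)) (hx : orderOf x = 13) (v : Mdl F)
    (hv : modAct H _ x v = v) : v = 1 := by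
  have h1 := eq_inl H hF hσ (x := x) (by rw [hx]; norm_num)
  rw [h1, orderOf_inl H hF hσ] at hx
  have h2 := congrArg Multiplicative.toAdd hv
  rw [modAct_apply, h1] at h2
  simp only [SemidirectProduct.left_inl, SemidirectProduct.right_inl, OneMemClass.coe_one] at h2
  have h3 : ∀ n : ℕ, 0 < n → n < 13 → x.left ^ n ≠ 1 := fun n h0 hn h => by
    have := Nat.le_of_dvd h0 (hx ▸ orderOf_dvd_of_pow_eq_one h)
    omega
  apply Multiplicative.toAdd.injective
  refine eq_zero_of_fixed H hF x.left (h3 4 (by norm_num) (by norm_num)) (h3 5 (by norm_num) (by norm_num))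
    (h3 7 (by norm_num) (by norm_num)) ?_
  exact h2

theorem orderOf_inl_mul_inr (x : TT H (Subgroup.zpowers σ)) {v : Mdl F} (hv : v ≠ 1)
    (hfix : modAct H _ x v = v) (hodd : Nat.Coprime 2 (orderOf x)) :
    ∃ y : GG H (Subgroup.zpowers σ), orderOf y = 2 * orderOf x := by
  haveI := H.charP
  refine ⟨SemidirectProduct.inl v * SemidirectProduct.inr x, ?_⟩
  have hc : Commute (SemidirectProduct.inl v : GG H (Subgroup.zpowers σ))
      (SemidirectProduct.inr x) := by
    have := SemidirectProduct.inl_aut (φ := modAct H (Subgroup.zpowers σ)) x v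
    rw [hfix] at this
    show SemidirectProduct.inl v * SemidirectProduct.inr x = SemidirectProduct.inr x * SemidirectProduct.inl v
    conv_lhs => rw [this]
    rw [map_inv, inv_mul_cancel_right]
  have hv2 : orderOf (SemidirectProduct.inl v : GG H (Subgroup.zpowers σ)) = 2 := by
    haveI := Fact.mk Nat.prime_two
    rw [orderOf_injective _ SemidirectProduct.inl_injective]
    refine orderOf_eq_prime ?_ hv
    apply Multiplicative.toAdd.injective
    show (2 : ℕ) • v.toAdd = 0
    ext i j
    simp [CharTwo.two_eq_zero]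
  rw [hc.orderOf_mul_eq_mul_orderOf_of_coprime (by
    rw [hv2, orderOf_injective _ SemidirectProduct.inr_injective]; exact hodd), hv2,
    orderOf_injective _ SemidirectProduct.inr_injective]

/-- An element of order five of `Sz(2)` commuting with the field automorphism. -/
theorem exists_five : ∃ g : Sz F 4, orderOf g = 5 ∧ (mat g).map σ = mat g ∧
    CfsgLib.KnownA.Suzuki.fieldAut H σ g = g := by
  haveI := H.charP
  refine ⟨su H 0 1 * sw H, ?_, ?_⟩
  · have htr : (mat (su H (0 : F) 1 * sw H)).trace = 1 := by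
      simp [mat, su, sw, CfsgLib.KnownA.Suzuki.uGL, CfsgLib.KnownA.Suzuki.wGL,
        CfsgLib.KnownA.Suzuki.uMat, CfsgLib.KnownA.Suzuki.wMat, CfsgLib.KnownA.Suzuki.fv,
        Matrix.trace, Matrix.mul_apply, Fin.sum_univ_four]
    haveI : Fact (Nat.Prime 5) := ⟨by norm_num⟩
    refine orderOf_eq_prime ?_ ?_
    · refine pow_eq_one_of_dvd H _ 5 ⟨Polynomial.X + 1, ?_⟩
      have two : (2 : Polynomial F) = 0 := CharTwo.two_eq_zero
      simp only [quartic, htr, one_pow, map_one]
      linear_combination -(Polynomial.X + Polynomial.X ^ 2 + Polynomial.X ^ 3 + Polynomial.X ^ 4) * two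
    · intro h
      rw [h] at htr
      simp [CfsgLib.KnownA.Suzuki.mat_one, H.four] at htr
  · have h : CfsgLib.KnownA.Suzuki.fieldAut H σ (su H 0 1 * sw H) = su H 0 1 * sw H := by
      rw [map_mul, CfsgLib.KnownA.Suzuki.fieldAut_su, CfsgLib.KnownA.Suzuki.fieldAut_sw, map_zero,
        map_one]
    refine ⟨?_, h⟩
    conv_rhs => rw [← h]
    exact (CfsgLib.KnownA.Suzuki.mat_fieldEnd H σ _).symm

theorem wit_fifteen : ∃ x : TT H (Subgroup.zpowers σ), orderOf x = 15 := by
  obtain ⟨g, hg, -, hgf⟩ := exists_five H hF hσ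
  let s : Subgroup.zpowers σ := ⟨σ, Subgroup.mem_zpowers σ⟩
  have hs : orderOf s = 3 := by
    rw [← orderOf_sigma hF hσ]; exact Subgroup.orderOf_mk σ _
  refine ⟨SemidirectProduct.inl g * SemidirectProduct.inr s, ?_⟩
  have hc : Commute (SemidirectProduct.inl g : TT H (Subgroup.zpowers σ))
      (SemidirectProduct.inr s) := by
    have := SemidirectProduct.inl_aut
      (φ := (CfsgLib.KnownA.Suzuki.fieldAut H).comp (Subgroup.zpowers σ).subtype) s g
    simp only [MonoidHom.comp_apply, Subgroup.coe_subtype, s, hgf] at this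
    show SemidirectProduct.inl g * SemidirectProduct.inr s = SemidirectProduct.inr s * SemidirectProduct.inl g
    conv_lhs => rw [this]
    rw [map_inv, inv_mul_cancel_right]
  rw [hc.orderOf_mul_eq_mul_orderOf_of_coprime (by
      rw [orderOf_inl H hF hσ, orderOf_injective _ SemidirectProduct.inr_injective, hg, hs]; norm_num),
    orderOf_inl H hF hσ, orderOf_injective _ SemidirectProduct.inr_injective, hg, hs]

/-- Elements of orders `6`, `10` and `14` in the extension. -/
theorem wit_two (r : ℕ) (hr : r = 3 ∨ r = 5 ∨ r = 7) :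
    ∃ y : GG H (Subgroup.zpowers σ), orderOf y = 2 * r := by
  haveI := H.charP
  classical
  have hA : (CfsgLib.Recog.antiDiag : Matrix (Fin 4) (Fin 4) F) ≠ 0 := by
    intro h
    have := congrFun (congrFun h 0) 3
    simp [CfsgLib.Recog.antiDiag, Fin.rev] at this
  have hsA : (CfsgLib.Recog.antiDiag : Matrix (Fin 4) (Fin 4) F).map σ = CfsgLib.Recog.antiDiag := by
    ext i j
    by_cases h : i = j.rev <;> simp [CfsgLib.Recog.antiDiag, h]
  rcases hr with rfl | rfl | rfl
  · let x : TT H (Subgroup.zpowers σ) := SemidirectProduct.inr ⟨σ, Subgroup.mem_zpowers σ⟩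
    have hx : orderOf x = 3 := by
      rw [orderOf_injective _ SemidirectProduct.inr_injective, Subgroup.orderOf_mk, orderOf_sigma hF hσ]
    obtain ⟨y, hy⟩ := orderOf_inl_mul_inr H hF hσ x (v := Multiplicative.ofAdd CfsgLib.Recog.antiDiag)
      (fun h => hA (congrArg Multiplicative.toAdd h)) (by
        apply Multiplicative.toAdd.injective
        rw [modAct_apply]
        simp [x, CfsgLib.KnownA.Suzuki.mat_one, sqM_one, hsA]) (by rw [hx]; norm_num)
    exact ⟨y, by rw [hy, hx]⟩
  · obtain ⟨g, hg, hgm, -⟩ := exists_five H hF hσ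
    have hsq : sqM (mat g) = mat g := by
      conv_rhs => rw [← hgm]
      ext i j; simp [sqM, hσ]
    let x : TT H (Subgroup.zpowers σ) := SemidirectProduct.inl g
    obtain ⟨y, hy⟩ := orderOf_inl_mul_inr H hF hσ x (v := Multiplicative.ofAdd CfsgLib.Recog.antiDiag)
      (fun h => hA (congrArg Multiplicative.toAdd h)) (by
        apply Multiplicative.toAdd.injective
        rw [modAct_apply]
        simp only [x, SemidirectProduct.left_inl, SemidirectProduct.right_inl, OneMemClass.coe_one,
          toAdd_ofAdd, hsq]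
        exact CfsgLib.Recog.mul_antiDiag_mul_transpose (CfsgLib.KnownA.Suzuki.mem_eqs H g).1)
      (by rw [orderOf_inl H hF hσ, hg]; norm_num)
    exact ⟨y, by rw [hy, orderOf_inl H hF hσ, hg]⟩
  · obtain ⟨t, ht⟩ : ∃ t : Fˣ, t ≠ 1 := by
      haveI : Nontrivial Fˣ := Fintype.one_lt_card_iff_nontrivial.1 (by rw [Fintype.card_units, hF]; norm_num)
      exact exists_ne 1
    have ht7 : t ^ 7 = 1 := by
      have h := pow_card_eq_one (x := t)
      rwa [Fintype.card_units, hF] at h
    haveI : Fact (Nat.Prime 7) := ⟨by norm_num⟩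
    have hg : orderOf (sh H t) = 7 := by
      refine orderOf_eq_prime ?_ (fun h => ht (CfsgLib.KnownA.Suzuki.sh_inj H
        (h.trans (CfsgLib.KnownA.Suzuki.sh_one H).symm)))
      have h : ∀ n : ℕ, (sh H t) ^ n = sh H (t ^ n) := fun n => by
        induction n with
        | zero => simp [CfsgLib.KnownA.Suzuki.sh_one]
        | succ n ih => rw [pow_succ, ih, CfsgLib.KnownA.Suzuki.sh_mul, pow_succ]
      rw [h, ht7, CfsgLib.KnownA.Suzuki.sh_one]
    let x : TT H (Subgroup.zpowers σ) := SemidirectProduct.inl (sh H t)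
    have htF : (t : F) ^ 7 = 1 := by rw [← Units.val_pow_eq_pow_val, ht7, Units.val_one]
    obtain ⟨y, hy⟩ := orderOf_inl_mul_inr H hF hσ x
      (v := Multiplicative.ofAdd (!![0, 1, 0, 0; 0, 0, 0, 0; 0, 0, 0, 0; 0, 0, 0, 0] : Matrix (Fin 4) (Fin 4) F))
      (fun h => by
        have h1 : (1 : F) = 0 := congrFun (congrFun (congrArg Multiplicative.toAdd h) 0) 1
        exact one_ne_zero h1) (by
        apply Multiplicative.toAdd.injective
        rw [modAct_apply]
        simp only [x, SemidirectProduct.left_inl, SemidirectProduct.right_inl, OneMemClass.coe_one,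
          toAdd_ofAdd]
        ext i j
        fin_cases i <;> fin_cases j <;>
          simp [mat, sh, CfsgLib.KnownA.Suzuki.hGL, CfsgLib.KnownA.Suzuki.hMat, sqM, Matrix.mul_apply,
            Fin.sum_univ_four]
        linear_combination htF)
      (by rw [orderOf_inl H hF hσ, hg]; norm_num)
    exact ⟨y, by rw [hy, orderOf_inl H hF hσ, hg]⟩

end CfsgLib.Recog.Sz8Model
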