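import Mathlib
import Cfsg.Agent.Lib.Recog.Sz8ModelGraph

/-!
Groups of unbounded order whose prime graph has vertices `2, 3, 5, 7, 13` and edges
`2-3, 2-5, 3-5, 2-7`.
-/

set_option autoImplicit false

namespace CfsgLib.Recog.Sz8Model

open Matrix Cfsg.Lie
open CfsgLib.KnownA.Suzuki (TitsField mat)

theorem prime_dvd_87360 {r : ℕ} (hr : r.Prime) (h : r ∣ 87360) :
    r = 2 ∨ r = 3 ∨ r = 5 ∨ r = 7 ∨ r = 13 := by
  have hp : ∀ q : ℕ, q.Prime → r ∣ q → r = q := fun q hq hd => (Nat.prime_dvd_prime_iff_eq hr hq).1 hd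
  rw [show (87360 : ℕ) = 2 ^ 6 * 3 * 5 * 7 * 13 by norm_num, hr.dvd_mul, hr.dvd_mul, hr.dvd_mul,
    hr.dvd_mul] at h
  rcases h with (((h | h) | h) | h) | h
  · exact Or.inl (hp 2 Nat.prime_two (hr.dvd_of_dvd_pow h))
  · exact Or.inr (Or.inl (hp 3 Nat.prime_three h))
  · exact Or.inr (Or.inr (Or.inl (hp 5 (by norm_num) h)))
  · exact Or.inr (Or.inr (Or.inr (Or.inl (hp 7 (by norm_num) h))))
  · exact Or.inr (Or.inr (Or.inr (Or.inr (hp 13 (by norm_num) h))))

/-- The edges. -/
def Edge (r s : ℕ) : Prop :=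
  r * s = 6 ∨ r * s = 10 ∨ r * s = 15 ∨ r * s = 14

theorem edge_or {r s : ℕ} (hr : r = 2 ∨ r = 3 ∨ r = 5 ∨ r = 7 ∨ r = 13)
    (hs : s = 2 ∨ s = 3 ∨ s = 5 ∨ s = 7 ∨ s = 13) (hrs : r ≠ s) :
    Edge r s ∨ r * s = 3 * 7 ∨ r * s = 3 * 13 ∨ r * s = 26 ∨ r * s = 5 * 7 ∨ r * s = 5 * 13 ∨
      r * s = 13 * 7 := by
  unfold Edge
  rcases hr with rfl | rfl | rfl | rfl | rfl <;> rcases hs with rfl | rfl | rfl | rfl | rfl <;>
    omega

variable {F : Type} [Field F] [Fintype F] (H : TitsField F 4) (hF : Fintype.card F = 8) {σ : F ≃+* F}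
  (hσ : ∀ x, σ x = x ^ 2)
include H hF hσ

theorem exists_graph_group (N : ℕ) :
    ∃ (K : Type) (_ : Group K) (_ : Finite K), N < Nat.card K ∧
      ((∀ r : ℕ, r.Prime → (r ∣ Nat.card K ↔ (r = 2 ∨ r = 3 ∨ r = 5 ∨ r = 7 ∨ r = 13))) ∧
      (∀ r s : ℕ, r.Prime → s.Prime → r ≠ s →
        ((∃ g : K, orderOf g = r * s) ↔ Edge r s))) := by
  classical
  haveI := H.charP
  set C := Subgroup.zpowers σ
  haveI : Finite (F ≃+* F) := Finite.of_injective (fun f => (f : F → F)) DFunLike.coe_injective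
  haveI : Finite (TT H C) := Finite.of_equiv _ SemidirectProduct.equivProd.symm
  haveI : Finite (GG H C) := Finite.of_equiv _ SemidirectProduct.equivProd.symm
  haveI : Nontrivial (Mdl F) :=
    ⟨⟨Multiplicative.ofAdd 1, 1, fun h => one_ne_zero (α := Matrix (Fin 4) (Fin 4) F) (congrArg Multiplicative.toAdd h)⟩⟩
  have hM : ∀ v : Mdl F, v ^ 2 = 1 := fun v => by
    apply Multiplicative.toAdd.injective
    show (2 : ℕ) • v.toAdd = 0
    ext i j
    simp [CharTwo.two_eq_zero]
  have hcard : Nat.card (GG H C) = Nat.card (Mdl F) * 87360 := by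
    rw [SemidirectProduct.card, card_TT H hF hσ]
  have hprimes : ∀ r : ℕ, r.Prime →
      (r ∣ Nat.card (GG H C) ↔ (r = 2 ∨ r = 3 ∨ r = 5 ∨ r = 7 ∨ r = 13)) := by
    intro r hr
    rw [hcard]
    constructor
    · intro h
      rcases hr.dvd_mul.1 h with h | h
      · haveI : Fact r.Prime := ⟨hr⟩
        obtain ⟨v, hv⟩ := exists_prime_orderOf_dvd_card' r h
        have : r ∣ 2 := hv ▸ orderOf_dvd_of_pow_eq_one (hM v)
        exact Or.inl ((Nat.prime_dvd_prime_iff_eq hr Nat.prime_two).1 this)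
      · exact prime_dvd_87360 hr h
    · rintro (rfl | rfl | rfl | rfl | rfl) <;> exact dvd_mul_of_dvd_right (by norm_num) _
  have hedges : ∀ r s : ℕ, r.Prime → s.Prime → r ≠ s →
      ((∃ g : GG H C, orderOf g = r * s) ↔ Edge r s) := by
    intro r s hr hs hrs
    constructor
    · rintro ⟨x, hx⟩
      have hdvd : r * s ∣ Nat.card (GG H C) := hx ▸ orderOf_dvd_natCard x
      rcases edge_or ((hprimes r hr).1 (dvd_of_mul_right_dvd hdvd))
        ((hprimes s hs).1 (dvd_of_mul_left_dvd hdvd)) hrs with h | h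
      · exact h
      exfalso
      rcases orderOf_cases (modAct H C) Nat.prime_two hM x with h' | ⟨h', v, hv, hfix⟩
      · rw [hx] at h'
        rcases h with h | h | h | h | h | h <;> rw [h] at h'
        · exact not_three H hF hσ 7 (Or.inl rfl) x.right h'.symm
        · exact not_three H hF hσ 13 (Or.inr rfl) x.right h'.symm
        · exact not_two_thirteen H hF hσ x.right h'.symm
        · exact not_five_seven_thirteen H hF hσ (Or.inl ⟨rfl, rfl⟩) x.right h'.symm
        · exact not_five_seven_thirteen H hF hσ (Or.inr (Or.inl ⟨rfl, rfl⟩)) x.right h'.symm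
        · exact not_five_seven_thirteen H hF hσ (Or.inr (Or.inr ⟨rfl, rfl⟩)) x.right h'.symm
      · rw [hx] at h'
        rcases h with h | h | h | h | h | h <;> rw [h] at h' <;> try omega
        exact hv (no_fixed_thirteen H hF hσ x.right (by omega) v hfix)
    · intro h
      rcases h with h | h | h | h <;> rw [h]
      · exact wit_two H hF hσ 3 (Or.inl rfl)
      · exact wit_two H hF hσ 5 (Or.inr (Or.inl rfl))
      · obtain ⟨x, hx⟩ := wit_fifteen H hF hσ
        exact ⟨SemidirectProduct.inr x, (orderOf_injective _ SemidirectProduct.inr_injective x).trans hx⟩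
      · exact wit_two H hF hσ 7 (Or.inr (Or.inr rfl))
  obtain ⟨K, hK, hKF, hN, h1, h2⟩ := exists_large_primeGraph
    ((modAct H C).comp (SemidirectProduct.rightHom (φ := modAct H C))) Nat.prime_two hM
    ((hprimes 2 Nat.prime_two).2 (Or.inl rfl)) (fun g hg hg2 ⟨v, hv, hfix⟩ => by
      have hd : orderOf g.right ∣ orderOf g :=
        orderOf_map_dvd (SemidirectProduct.rightHom (φ := modAct H C)) g
      rcases (Nat.dvd_prime hg).1 hd with h | h
      · exfalso
        rw [orderOf_eq_one_iff] at h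
        have h2 : g ^ 2 = 1 := by
          have : g = SemidirectProduct.inl g.left := SemidirectProduct.ext (by simp) (by simpa using h)
          rw [this, ← map_pow, hM, map_one]
        exact hg2 ((Nat.prime_dvd_prime_iff_eq hg Nat.prime_two).1 (orderOf_dvd_of_pow_eq_one h2))
      · rw [← h]
        exact orderOf_inl_mul_inr H hF hσ g.right hv hfix
          ((Nat.coprime_primes Nat.prime_two (h ▸ hg)).2 (fun h' => hg2 (h ▸ h'.symm)))) N
  refine ⟨K, hK, inferInstance, by rw [Nat.card_eq_fintype_card]; exact hN, fun r hr => ?_,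
    fun r s hr hs hrs => ?_⟩
  · rw [← h1 r hr]; exact hprimes r hr
  · rw [← h2 r s hr hs hrs]; exact hedges r s hr hs hrs

omit H hF hσ in
/-- The unbounded family, with the model over `GF(8)`. -/
theorem exists_unbounded (N : ℕ) :
    ∃ (K : Type) (_ : Group K) (_ : Finite K), N < Nat.card K ∧
      ((∀ r : ℕ, r.Prime → (r ∣ Nat.card K ↔ (r = 2 ∨ r = 3 ∨ r = 5 ∨ r = 7 ∨ r = 13))) ∧
      (∀ r s : ℕ, r.Prime → s.Prime → r ≠ s →
        ((∃ g : K, orderOf g = r * s) ↔ Edge r s))) := by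
  haveI : Fact (Nat.Prime 2) := ⟨Nat.prime_two⟩
  haveI : Fintype (GaloisField 2 3) := Fintype.ofFinite _
  have hF : Fintype.card (GaloisField 2 3) = 8 := by
    rw [← Nat.card_eq_fintype_card, GaloisField.card 2 3 (by norm_num)]
    norm_num
  have H : TitsField (GaloisField 2 3) 4 :=
    CfsgLib.KnownA.Suzuki.titsField_of_card (m := 1) (by rw [hF]; norm_num)
  haveI := H.charP
  exact exists_graph_group H hF (σ := frobeniusEquiv (GaloisField 2 3) 2)
    (fun x => by simp [frobeniusEquiv_apply, frobenius_def]) N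

end CfsgLib.Recog.Sz8Model
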