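import Cfsg.Agent.Lib.Recog.TransLinearLayer

/-!
The action of the centralizer on the class two layer.
-/

set_option autoImplicit false
set_option maxHeartbeats 400000
set_option linter.unusedSectionVars false

open scoped commutatorElement

namespace CfsgLib.Recog.TransLinear

variable {p : ℕ} [Fact p.Prime] {V : Type*} [AddCommGroup V] [Module (ZMod p) V] [Finite V]
  [Nontrivial V] {G : Type*} [Group G] [Finite G] {R : G →* Module.End (ZMod p) V}

namespace Frame.Layer

variable {D : Frame R} (L : D.Layer)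

instance : L.B.Normal := L.normal

instance : Fact L.s.Prime := ⟨L.prime⟩

/-- The quotient of the layer. -/
abbrev Quo : Type _ := L.B ⧸ D.A.subgroupOf L.B

theorem quo_comm (x y : L.Quo) : x * y = y * x := by
  induction x using QuotientGroup.induction_on with | _ x => ?_
  induction y using QuotientGroup.induction_on with | _ y => ?_
  rw [← QuotientGroup.mk_mul, ← QuotientGroup.mk_mul, QuotientGroup.eq, Subgroup.mem_subgroupOf]
  have h := L.comm_mem _ (inv_mem y.2) _ (inv_mem x.2)
  rw [commutatorElement_def] at h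
  simpa [mul_assoc] using h

instance : CommGroup L.Quo :=
  { (inferInstance : Group L.Quo) with mul_comm := L.quo_comm }

theorem quo_pow (x : L.Quo) : x ^ L.s = 1 := by
  induction x using QuotientGroup.induction_on with | _ x => ?_
  rw [← QuotientGroup.mk_pow, QuotientGroup.eq_one_iff, Subgroup.mem_subgroupOf]
  exact L.pow_mem _ x.2

instance : Module (ZMod L.s) (Additive L.Quo) :=
  AddCommGroup.zmodModule fun x => L.quo_pow x.toMul

theorem finrank_eq : Module.finrank (ZMod L.s) (Additive L.Quo) = L.n := by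
  refine Nat.pow_right_injective L.prime.two_le ?_
  have h := Module.natCard_eq_pow_finrank (K := ZMod L.s) (V := Additive L.Quo)
  rw [Nat.card_zmod, Nat.card_congr Additive.toMul] at h
  exact h.symm.trans L.relIndex_eq

/-- The action of a group element on the layer. -/
def act (g : G) : L.Quo →* L.Quo :=
  QuotientGroup.map _ _ (MulAut.conjNormal (H := L.B) g).toMonoidHom fun b hb => by
    rw [Subgroup.mem_comap, Subgroup.mem_subgroupOf]
    change ((MulAut.conjNormal g b : L.B) : G) ∈ D.A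
    rw [MulAut.conjNormal_apply]
    exact D.normal.conj_mem _ (Subgroup.mem_subgroupOf.1 hb) g

theorem act_mk (g : G) (b : L.B) :
    L.act g (b : L.Quo) = ((MulAut.conjNormal g b : L.B) : L.Quo) := rfl

/-- The action as a linear map. -/
def actLin : G →* Module.End (ZMod L.s) (Additive L.Quo) where
  toFun g := (MonoidHom.toAdditive (L.act g)).toZModLinearMap L.s
  map_one' := LinearMap.ext fun x => by
    refine Additive.toMul.injective ?_
    change L.act 1 x.toMul = x.toMul
    induction x.toMul using QuotientGroup.induction_on with | _ b => ?_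
    rw [L.act_mk, map_one]
    rfl
  map_mul' g h := LinearMap.ext fun x => by
    refine Additive.toMul.injective ?_
    change L.act (g * h) x.toMul = L.act g (L.act h x.toMul)
    induction x.toMul using QuotientGroup.induction_on with | _ b => ?_
    rw [L.act_mk, L.act_mk, L.act_mk, map_mul]
    rfl

theorem mem_of_actLin_eq_one {c : G} (hc : L.actLin c = 1) : ∀ b ∈ L.B, ⁅c, b⁆ ∈ D.A := by
  intro b hb
  have h : L.act c ((⟨b, hb⟩ : L.B) : L.Quo) = ((⟨b, hb⟩ : L.B) : L.Quo) :=
    congrArg Additive.toMul (LinearMap.congr_fun hc (Additive.ofMul ((⟨b, hb⟩ : L.B) : L.Quo)))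
  rw [L.act_mk, eq_comm, QuotientGroup.eq, Subgroup.mem_subgroupOf, Subgroup.coe_mul,
    MulAut.conjNormal_apply, InvMemClass.coe_inv] at h
  have h' := D.normal.conj_mem _ h b
  rwa [show b * (((⟨b, hb⟩ : L.B) : G)⁻¹ * (c * ((⟨b, hb⟩ : L.B) : G) * c⁻¹)) * b⁻¹ = ⁅c, b⁆ by
    rw [commutatorElement_def]; group] at h'

theorem commutator_mul_left {a b c : G} (hc : c ∈ D.C) (ha : a ∈ D.C) (h : ⁅b, c⁆ ∈ D.A) :
    ⁅a * b, c⁆ = ⁅b, c⁆ * ⁅a, c⁆ := by
  have h1 : Commute ⁅b, c⁆ a := D.commute_of_mem ha h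
  calc ⁅a * b, c⁆ = a * ⁅b, c⁆ * a⁻¹ * ⁅a, c⁆ := by
        rw [commutatorElement_def, commutatorElement_def, commutatorElement_def]; group
    _ = ⁅b, c⁆ * ⁅a, c⁆ := by rw [← h1.eq, mul_inv_cancel_right]

theorem commutator_mul_right {a b c : G} (hb : b ∈ D.C) (h : ⁅a, c⁆ ∈ D.A) :
    ⁅a, b * c⁆ = ⁅a, b⁆ * ⁅a, c⁆ := by
  have h1 : Commute ⁅a, c⁆ b := D.commute_of_mem hb h
  calc ⁅a, b * c⁆ = ⁅a, b⁆ * (b * ⁅a, c⁆ * b⁻¹) := by
        rw [commutatorElement_def, commutatorElement_def, commutatorElement_def]; group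
    _ = ⁅a, b⁆ * ⁅a, c⁆ := by rw [← h1.eq, mul_inv_cancel_right]

/-- The commutator pairing in the second variable. -/
def pairHom (u : L.B) : L.B →* D.A where
  toFun v := ⟨⁅(u : G), v⁆, L.comm_mem _ u.2 _ v.2⟩
  map_one' := Subtype.ext (commutatorElement_one_right _)
  map_mul' v w := Subtype.ext (commutator_mul_right (L.le_C v.2) (L.comm_mem _ u.2 _ w.2))

theorem pairHom_ker (u : L.B) : D.A.subgroupOf L.B ≤ (L.pairHom u).ker := fun v hv => by
  refine MonoidHom.mem_ker.2 (Subtype.ext ?_)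
  exact commutatorElement_eq_one_iff_mul_comm.2
    (D.commute_of_mem (L.le_C u.2) (Subgroup.mem_subgroupOf.1 hv)).eq.symm

theorem prime_bound {x : G} (hx : x ∈ D.C) {r : ℕ} (hr : r.Prime) (hr2 : 2 < r) (hrs : r ≠ L.s)
    (hxr : x ^ r = 1) (hnc : ¬ ∀ b ∈ L.B, Commute x b) :
    ∃ i : ℕ, 0 < i ∧ 2 * i ≤ L.n ∧ r ≤ L.s ^ i + 1 := by
  classical
  letI : CommGroup D.A := { (inferInstance : Group D.A) with mul_comm := D.comm.is_comm.comm }
  let f : L.B →* (L.Quo →* D.A) :=
    { toFun := fun u => QuotientGroup.lift _ (L.pairHom u) (L.pairHom_ker u)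
      map_one' := MonoidHom.ext fun q => by
        induction q using QuotientGroup.induction_on with | _ v => ?_
        exact Subtype.ext (commutatorElement_one_left _)
      map_mul' := fun a b => MonoidHom.ext fun q => by
        induction q using QuotientGroup.induction_on with | _ v => ?_
        refine Subtype.ext ?_
        change ⁅((a * b : L.B) : G), (v : G)⁆ = ⁅(a : G), (v : G)⁆ * ⁅(b : G), (v : G)⁆
        rw [Subgroup.coe_mul, commutator_mul_left (L.le_C v.2) (L.le_C a.2) (L.comm_mem _ b.2 _ v.2)]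
        exact congrArg Subtype.val (mul_comm (⟨_, L.comm_mem _ b.2 _ v.2⟩ : D.A)
          ⟨_, L.comm_mem _ a.2 _ v.2⟩) }
  have hf : D.A.subgroupOf L.B ≤ f.ker := fun u hu => by
    refine MonoidHom.mem_ker.2 (MonoidHom.ext fun q => ?_)
    induction q using QuotientGroup.induction_on with | _ v => ?_
    exact Subtype.ext (commutatorElement_eq_one_iff_mul_comm.2
      (D.commute_of_mem (L.le_C v.2) (Subgroup.mem_subgroupOf.1 hu)).eq)
  let f' : L.Quo →* (L.Quo →* D.A) := QuotientGroup.lift _ f hf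
  let c : Additive L.Quo →+ Additive L.Quo →+ Additive D.A :=
    AddMonoidHom.mk' (fun w => MonoidHom.toAdditive (f' w.toMul)) fun a b => AddMonoidHom.ext fun z => by
      change Additive.ofMul (f' (a.toMul * b.toMul) z.toMul) = _
      rw [map_mul, MonoidHom.mul_apply]
      rfl
  refine Exists.imp (fun i h => ⟨h.1, L.finrank_eq ▸ h.2.1, h.2.2⟩)
    (PairingPrime.exists_le_pow_succ c hr hr2 hrs (L.actLin x)
      (by rw [← map_pow, hxr, map_one]) ?_ ?_ ?_)
  · -- non-trivial
    intro h1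
    refine hnc fun b hb => ?_
    have hd : ⁅x, b⁆ ∈ D.A := L.mem_of_actLin_eq_one h1 b hb
    have hconj : x * b * x⁻¹ = ⁅x, b⁆ * b := by rw [commutatorElement_def]; group
    have hs : ⁅x, b⁆ ^ L.s = 1 := by
      have h2 := congrArg (· ^ L.s) hconj
      beta_reduce at h2
      have h4 : x * b ^ L.s * x⁻¹ = b ^ L.s := by
        rw [(D.commute_of_mem hx (L.pow_mem _ hb)).symm.eq, mul_inv_cancel_right]
      rw [conj_pow, (D.commute_of_mem (L.le_C hb) hd : Commute ⁅x, b⁆ b).mul_pow, h4] at h2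
      exact mul_eq_right.1 h2.symm
    have hn : ∀ n : ℕ, x ^ n * b * (x ^ n)⁻¹ = ⁅x, b⁆ ^ n * b := by
      intro n
      induction n with
      | zero => simp
      | succ n ih =>
        calc x ^ (n + 1) * b * (x ^ (n + 1))⁻¹ = x * (x ^ n * b * (x ^ n)⁻¹) * x⁻¹ := by group
          _ = (x * ⁅x, b⁆ ^ n * x⁻¹) * (x * b * x⁻¹) := by rw [ih]; group
          _ = ⁅x, b⁆ ^ (n + 1) * b := by
            rw [((D.commute_of_mem hx hd : Commute ⁅x, b⁆ x).pow_left n).eq.symm,
              mul_inv_cancel_right, hconj, ← mul_assoc, pow_succ]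
    have hr1 := hn r
    rw [hxr, one_mul, inv_one, mul_one, eq_comm, mul_eq_right] at hr1
    have hone : ⁅x, b⁆ = 1 := by
      have hg : Nat.gcd r L.s = 1 := (Nat.coprime_primes hr L.prime).2 hrs
      have := pow_gcd_eq_one.2 ⟨hr1, hs⟩
      rwa [hg, pow_one] at this
    exact commutatorElement_eq_one_iff_mul_comm.1 hone
  · -- non-degenerate
    intro w hw
    refine Additive.toMul.injective ?_
    change w.toMul = 1
    induction h : w.toMul using QuotientGroup.induction_on with | _ b => ?_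
    rw [QuotientGroup.eq_one_iff, Subgroup.mem_subgroupOf]
    refine L.ker _ b.2 fun b' hb' => ?_
    have h1 : f' w.toMul ((⟨b', hb'⟩ : L.B) : L.Quo) = 1 :=
      congrArg Additive.toMul (hw (Additive.ofMul ((⟨b', hb'⟩ : L.B) : L.Quo)))
    rw [h] at h1
    exact (commutatorElement_eq_one_iff_mul_comm.1 (congrArg Subtype.val h1)).symm
  · -- invariant
    intro u v
    refine Additive.toMul.injective ?_
    change f' (L.act x u.toMul) (L.act x v.toMul) = f' u.toMul v.toMul
    induction u.toMul using QuotientGroup.induction_on with | _ a => ?_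
    induction v.toMul using QuotientGroup.induction_on with | _ b => ?_
    refine Subtype.ext ?_
    change ⁅((MulAut.conjNormal x a : L.B) : G), ((MulAut.conjNormal x b : L.B) : G)⁆ = ⁅(a : G), (b : G)⁆
    rw [MulAut.conjNormal_apply, MulAut.conjNormal_apply, ← conjugate_commutatorElement,
      (D.commute_of_mem hx (L.comm_mem _ a.2 _ b.2)).symm.eq, mul_inv_cancel_right]

theorem centralizer_eq (hR : Function.Injective R) (hfull : L.s ^ L.n = D.m * D.m) {z : G}
    (hz : z ∈ D.C) (hzB : ∀ b ∈ L.B, Commute z b) : z ∈ D.A := by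
  let T : Subgroup G := D.C ⊓ Subgroup.centralizer (L.B : Set G)
  have hAT : D.A ≤ T := le_inf D.A_le_C fun a ha =>
    Subgroup.mem_centralizer_iff.2 fun x hx => (D.commute_of_mem (L.le_C hx) ha).eq.symm
  have hT := D.max T inferInstance ⟨⟨fun a b => Subtype.ext
    (D.commute_of_full hR L.le_C L.le_C (fun h hh y hy => L.comm_mem y hy h hh) L.ker
      (L.relIndex_eq.trans hfull) (Subgroup.mem_inf.1 a.2).1
      (fun h hh => (Subgroup.mem_centralizer_iff.1 (Subgroup.mem_inf.1 a.2).2 h hh).symm)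
      (Subgroup.mem_inf.1 b.2).1).eq⟩⟩ hAT
  rw [← hT]
  exact Subgroup.mem_inf.2 ⟨hz, Subgroup.mem_centralizer_iff.2 fun x hx => (hzB x hx).eq.symm⟩

/-- The kernel of the action on a full layer is the layer. -/
theorem mem_B_of_actLin_eq_one (hR : Function.Injective R) (hfull : L.s ^ L.n = D.m * D.m) {c : G}
    (hc : c ∈ D.C) (h1 : L.actLin c = 1) : c ∈ L.B := by
  let C₁ : Subgroup G := D.C ⊓ L.actLin.ker
  have hBC₁ : L.B ≤ C₁ := fun b hb => Subgroup.mem_inf.2 ⟨L.le_C hb,
    MonoidHom.mem_ker.2 (LinearMap.ext fun w => by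
      refine Additive.toMul.injective ?_
      change L.act b w.toMul = w.toMul
      induction w.toMul using QuotientGroup.induction_on with | _ y => ?_
      rw [L.act_mk, show (MulAut.conjNormal b y : L.B) = ⟨b, hb⟩ * y * ⟨b, hb⟩⁻¹ from
        Subtype.ext (MulAut.conjNormal_apply b y), QuotientGroup.mk_mul, QuotientGroup.mk_mul,
        QuotientGroup.mk_inv, L.quo_comm ((⟨b, hb⟩ : L.B) : L.Quo), mul_inv_cancel_right])⟩
  have hc₁ : ∀ h ∈ C₁, ∀ y ∈ L.B, ⁅y, h⁆ ∈ D.A := fun h hh y hy => by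
    have h2 := L.mem_of_actLin_eq_one (MonoidHom.mem_ker.1 (Subgroup.mem_inf.1 hh).2) y hy
    rw [← commutatorElement_inv]
    exact inv_mem h2
  have hker : ∀ h ∈ C₁, (∀ y ∈ L.B, Commute y h) → h ∈ D.A := fun h hh hcm =>
    L.centralizer_eq hR hfull (Subgroup.mem_inf.1 hh).1 fun b hb => (hcm b hb).symm
  have hle := D.relIndex_le_sq hR (inf_le_left : C₁ ≤ D.C) L.le_C hc₁ hker
  rw [← hfull, ← L.relIndex_eq, ← Subgroup.relIndex_mul_relIndex D.A L.B C₁ L.A_le hBC₁] at hle
  have hpos : 0 < D.A.relIndex L.B := by rw [L.relIndex_eq]; exact pow_pos L.prime.pos _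
  have hne : L.B.relIndex C₁ ≠ 0 := Subgroup.FiniteIndex.index_ne_zero
  have h3 : L.B.relIndex C₁ = 1 := by
    have := Nat.le_of_mul_le_mul_left (hle.trans (mul_one _).ge) hpos
    omega
  exact Subgroup.relIndex_eq_one.1 h3 (Subgroup.mem_inf.2 ⟨hc, MonoidHom.mem_ker.2 h1⟩)

/-- The order of the group in the full case. -/
theorem card_dvd (hR : Function.Injective R) (hfull : L.s ^ L.n = D.m * D.m) :
    Nat.card G ∣ D.l * (∏ i : Fin L.n, (L.s ^ L.n - L.s ^ (i : ℕ))) * L.s ^ L.n *
      (p ^ D.l - 1) := by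
  classical
  let χ : D.C →* (Module.End (ZMod L.s) (Additive L.Quo))ˣ :=
    (L.actLin.comp D.C.subtype).toHomUnits
  have hker : χ.ker ≤ L.B.subgroupOf D.C := fun c hc => by
    rw [Subgroup.mem_subgroupOf]
    exact L.mem_B_of_actLin_eq_one hR hfull c.2 (congrArg Units.val (MonoidHom.mem_ker.1 hc))
  have hker' : L.B.subgroupOf D.C ≤ χ.ker := fun c hc => by
    refine MonoidHom.mem_ker.2 (Units.ext (LinearMap.ext fun w => ?_))
    refine Additive.toMul.injective ?_
    change L.act (c : G) w.toMul = w.toMul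
    induction w.toMul using QuotientGroup.induction_on with | _ y => ?_
    rw [L.act_mk, show (MulAut.conjNormal (c : G) y : L.B) = ⟨c, hc⟩ * y * ⟨c, hc⟩⁻¹ from
      Subtype.ext (MulAut.conjNormal_apply _ y), QuotientGroup.mk_mul, QuotientGroup.mk_mul,
      QuotientGroup.mk_inv, L.quo_comm _ ((y : L.Quo)), mul_inv_cancel_right]
  have hGL : L.B.relIndex D.C ∣ ∏ i : Fin L.n, (L.s ^ L.n - L.s ^ (i : ℕ)) := by
    let b := Module.finBasisOfFinrankEq (ZMod L.s) (Additive L.Quo) L.finrank_eq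
    have h1 := Subgroup.card_subgroup_dvd_card χ.range
    rw [Nat.card_congr (Units.mapEquiv (algEquivMatrix b).toMulEquiv).toEquiv,
      Matrix.card_GL_field, ZMod.card, ← Subgroup.index_ker, le_antisymm hker hker'] at h1
    exact h1
  have h2 : Nat.card D.C = Nat.card L.B * L.B.relIndex D.C := by
    rw [← Subgroup.card_mul_index (L.B.subgroupOf D.C),
      Nat.card_congr (Subgroup.subgroupOfEquivOfLe L.le_C).toEquiv]
    rfl
  have h3 : Nat.card L.B = Nat.card D.A * L.s ^ L.n := by
    rw [← L.relIndex_eq, ← Subgroup.card_mul_index (D.A.subgroupOf L.B),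
      Nat.card_congr (Subgroup.subgroupOfEquivOfLe L.A_le).toEquiv]
    rfl
  rw [← Subgroup.card_mul_index D.C, h2, h3]
  rw [show D.l * (∏ i : Fin L.n, (L.s ^ L.n - L.s ^ (i : ℕ))) * L.s ^ L.n * (p ^ D.l - 1) =
    (p ^ D.l - 1) * L.s ^ L.n * (∏ i : Fin L.n, (L.s ^ L.n - L.s ^ (i : ℕ))) * D.l by ring]
  exact mul_dvd_mul (mul_dvd_mul (mul_dvd_mul_right (D.card_A_dvd hR) _) hGL) (D.index_C hR).1

end Frame.Layer

end CfsgLib.Recog.TransLinear
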