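import Mathlib

/-!
A commutative normal subgroup of a group acting transitively on the non-zero vectors spans a field.
-/

set_option autoImplicit false
set_option maxHeartbeats 400000

namespace CfsgLib.Recog.TransLinear

variable {p : ℕ} [Fact p.Prime] {V : Type*} [AddCommGroup V] [Module (ZMod p) V] [Finite V]
  [Nontrivial V] {G : Type*} [Group G] [Finite G]
  (R : G →* Module.End (ZMod p) V)

theorem mul_inv_apply_cancel (g : G) (v : V) : R g⁻¹ (R g v) = v := by
  rw [← Module.End.mul_apply, ← map_mul, inv_mul_cancel, map_one, Module.End.one_apply]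

theorem ne_zero_apply (g : G) {v : V} (hv : v ≠ 0) : R g v ≠ 0 := fun h => hv (by
  rw [← mul_inv_apply_cancel R g v, h, map_zero])

variable (htr : ∀ v w : V, v ≠ 0 → w ≠ 0 → ∃ g : G, R g v = w)

include htr in
theorem exists_field (A : Subgroup G) [A.Normal] (hA : IsMulCommutative A) :
    ∃ (l : ℕ) (φ : GaloisField p l →+* Module.End (ZMod p) V), l ≠ 0 ∧
      (∀ a ∈ A, R a ∈ Set.range φ) ∧
      (∀ f : Module.End (ZMod p) V, (∀ a ∈ A, Commute f (R a)) → ∀ x, Commute f (φ x)) ∧
      (∀ g : G, ∃ σ : GaloisField p l →+* GaloisField p l, ∀ x, R g * φ x = φ (σ x) * R g) := by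
  classical
  haveI : Finite (Module.End (ZMod p) V) :=
    Finite.of_injective (fun f => (f : V → V)) DFunLike.coe_injective
  have hTc : ∀ a ∈ R '' A, ∀ b ∈ R '' A, a * b = b * a := by
    rintro _ ⟨a, ha, rfl⟩ _ ⟨b, hb, rfl⟩
    rw [← map_mul, ← map_mul]
    exact congrArg R (congrArg Subtype.val (mul_comm' (⟨a, ha⟩ : A) ⟨b, hb⟩))
  set K := Algebra.adjoin (ZMod p) (R '' A) with hK
  have hmem : ∀ {t}, t ∈ A → R t ∈ K := fun ht => Algebra.subset_adjoin ⟨_, ht, rfl⟩
  letI : CommRing K := Algebra.adjoinCommRingOfComm (ZMod p) hTc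
  have hinv : ∀ g : G, R g⁻¹ * R g = 1 := fun g => by rw [← map_mul, inv_mul_cancel, map_one]
  have hconj : ∀ (g : G) (a : K), R g * (a : Module.End (ZMod p) V) * R g⁻¹ ∈ K := by
    intro g a
    obtain ⟨a, ha⟩ := a
    induction ha using Algebra.adjoin_induction with
    | mem x hx =>
      obtain ⟨t, ht, rfl⟩ := hx
      rw [← map_mul, ← map_mul]
      exact hmem (Subgroup.Normal.conj_mem inferInstance t ht g)
    | algebraMap r =>
      rw [← Algebra.commutes, mul_assoc, ← map_mul R, mul_inv_cancel, map_one, mul_one]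
      exact K.algebraMap_mem r
    | add x y _ _ hx hy => simpa [mul_add, add_mul] using K.add_mem hx hy
    | mul x y _ _ hx hy =>
      have h1 := K.mul_mem hx hy
      rwa [show R g * x * R g⁻¹ * (R g * y * R g⁻¹) = R g * (x * y) * R g⁻¹ by
        simp only [mul_assoc]; rw [← mul_assoc (R g⁻¹), hinv, one_mul]] at h1
  -- the annihilators of the non-zero vectors
  let I : V → Set K := fun v => {a | (a : Module.End (ZMod p) V) v = 0}
  have hle : ∀ v w : V, v ≠ 0 → w ≠ 0 → (I v).ncard ≤ (I w).ncard := by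
    intro v w hv hw
    obtain ⟨g, hg⟩ := htr v w hv hw
    refine Set.ncard_le_ncard_of_injOn (fun a => ⟨R g * (a : Module.End (ZMod p) V) * R g⁻¹, hconj g a⟩)
      (fun a ha => ?_) (fun a _ b _ hab => ?_) (Set.toFinite _)
    · change (R g * (a : Module.End (ZMod p) V) * R g⁻¹) w = 0
      rw [Module.End.mul_apply, Module.End.mul_apply, ← hg, mul_inv_apply_cancel,
        show (a : Module.End (ZMod p) V) v = 0 from ha, map_zero]
    · have h1 := congrArg (fun z : K => R g⁻¹ * (z : Module.End (ZMod p) V) * R g) hab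
      simp only at h1
      rw [show ∀ z : Module.End (ZMod p) V, R g⁻¹ * (R g * z * R g⁻¹) * R g = z from fun z => by
        simp only [mul_assoc]; rw [hinv, mul_one, ← mul_assoc, hinv, one_mul]] at h1
      rw [show ∀ z : Module.End (ZMod p) V, R g⁻¹ * (R g * z * R g⁻¹) * R g = z from fun z => by
        simp only [mul_assoc]; rw [hinv, mul_one, ← mul_assoc, hinv, one_mul]] at h1
      exact Subtype.ext h1
  have hsub : ∀ v w : V, v ≠ 0 → w ≠ 0 → I v ⊆ I w → I v = I w := fun v w hv hw h =>
    Set.eq_of_subset_of_ncard_le h (hle w v hw hv) (Set.toFinite _)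
  have happ : ∀ (a b : K) (v : V), ((a * b : K) : Module.End (ZMod p) V) v =
      (a : Module.End (ZMod p) V) ((b : Module.End (ZMod p) V) v) := fun _ _ _ => rfl
  have hprime : ∀ (a b : K) (v : V), v ≠ 0 → a * b ∈ I v → a ∈ I v ∨ b ∈ I v := by
    intro a b v hv hab
    refine or_iff_not_imp_right.2 fun hb => ?_
    have hw : (b : Module.End (ZMod p) V) v ≠ 0 := hb
    rw [hsub v _ hv hw fun c hc => ?_]
    · exact hab
    · change (c : Module.End (ZMod p) V) ((b : Module.End (ZMod p) V) v) = 0
      rw [← happ, mul_comm, happ, show (c : Module.End (ZMod p) V) v = 0 from hc, map_zero]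
  have hker : ∀ (a : K) (v : V), v ≠ 0 → a ∈ I v → a = 0 := by
    intro a v hv ha
    refine Subtype.ext (LinearMap.ext fun u => ?_)
    change (a : Module.End (ZMod p) V) u = 0
    by_contra hu
    have hu0 : u ≠ 0 := fun e => hu (by rw [e, map_zero])
    obtain ⟨c, hcu, hcv⟩ : ∃ c, c ∈ I u ∧ c ∉ I v := by
      by_contra! h
      exact hu (show a ∈ I u from (hsub u v hu0 hv h) ▸ ha)
    have huv : u + v ≠ 0 := fun e => hu (by
      rw [eq_neg_of_add_eq_zero_left e, map_neg, show (a : Module.End (ZMod p) V) v = 0 from ha, neg_zero])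
    have hac : a * c ∈ I (u + v) := by
      change ((a * c : K) : Module.End (ZMod p) V) (u + v) = 0
      rw [map_add, happ, show (c : Module.End (ZMod p) V) u = 0 from hcu, map_zero, zero_add,
        mul_comm, happ, show (a : Module.End (ZMod p) V) v = 0 from ha, map_zero]
    rcases hprime a c _ huv hac with h | h
    · refine hu ?_
      have h1 : (a : Module.End (ZMod p) V) (u + v) = 0 := h
      rwa [map_add, show (a : Module.End (ZMod p) V) v = 0 from ha, add_zero] at h1
    · refine hcv ?_
      have h1 : (c : Module.End (ZMod p) V) (u + v) = 0 := h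
      rwa [map_add, show (c : Module.End (ZMod p) V) u = 0 from hcu, zero_add] at h1
  obtain ⟨v₀, hv₀⟩ := exists_ne (0 : V)
  haveI : Nontrivial K := ⟨⟨0, 1, fun h =>
    hv₀ (LinearMap.congr_fun (congrArg Subtype.val h) v₀).symm⟩⟩
  haveI : NoZeroDivisors K := ⟨fun {a b} hab => by
    have h0 : a * b ∈ I v₀ := by rw [hab]; rfl
    exact (hprime a b v₀ hv₀ h0).imp (hker a v₀ hv₀) (hker b v₀ hv₀)⟩
  haveI : IsDomain K := NoZeroDivisors.to_isDomain K
  letI : Field K := (Finite.isField_of_domain K).toField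
  set l := Module.finrank (ZMod p) K with hl
  have hcardK : Nat.card K = p ^ l := by
    rw [Module.natCard_eq_pow_finrank (K := ZMod p) (V := K), Nat.card_zmod]
  have hl0 : l ≠ 0 := Module.finrank_pos.ne'
  letI := Fintype.ofFinite K
  letI := Fintype.ofFinite (GaloisField p l)
  let e : K ≃+* GaloisField p l := FiniteField.ringEquivOfCardEq (by
    rw [← Nat.card_eq_fintype_card, ← Nat.card_eq_fintype_card, hcardK, GaloisField.card p l hl0])
  refine ⟨l, K.val.toRingHom.comp e.symm.toRingHom, hl0, fun a ha => ⟨e ⟨R a, hmem ha⟩, ?_⟩,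
    fun f hf x => ?_, fun g => ?_⟩
  · change ((e.symm (e ⟨R a, hmem ha⟩) : K) : Module.End (ZMod p) V) = R a
    rw [e.symm_apply_apply]
  · change Commute f ((e.symm x : K) : Module.End (ZMod p) V)
    have hz : ∀ z ∈ K, Commute f z := fun z hz => by
      induction hz using Algebra.adjoin_induction with
      | mem x hx => obtain ⟨t, ht, rfl⟩ := hx; exact hf t ht
      | algebraMap r => exact (Algebra.commutes r f).symm
      | add x y _ _ hx hy => exact hx.add_right hy
      | mul x y _ _ hx hy => exact hx.mul_right hy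
    exact hz _ (e.symm x).2
  · let τ : K →+* K :=
      { toFun := fun a => ⟨R g * (a : Module.End (ZMod p) V) * R g⁻¹, hconj g a⟩
        map_one' := Subtype.ext (by
          change R g * 1 * R g⁻¹ = 1
          rw [mul_one, ← map_mul, mul_inv_cancel, map_one])
        map_mul' := fun a b => Subtype.ext (by
          change R g * ((a : Module.End (ZMod p) V) * b) * R g⁻¹ = _
          simp only [Subalgebra.coe_mul, mul_assoc]
          rw [← mul_assoc (R g⁻¹), hinv, one_mul])
        map_zero' := Subtype.ext (by change R g * 0 * R g⁻¹ = 0; simp)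
        map_add' := fun a b => Subtype.ext (by
          change R g * ((a : Module.End (ZMod p) V) + b) * R g⁻¹ = _
          simp [mul_add, add_mul]) }
    refine ⟨e.toRingHom.comp (τ.comp e.symm.toRingHom), fun x => ?_⟩
    change R g * ((e.symm x : K) : Module.End (ZMod p) V) =
      ((e.symm (e (τ (e.symm x))) : K) : Module.End (ZMod p) V) * R g
    rw [e.symm_apply_apply]
    change _ = R g * ((e.symm x : K) : Module.End (ZMod p) V) * R g⁻¹ * R g
    rw [mul_assoc (R g * _), hinv, mul_one]

/-- The field is the whole space: the group is semilinear. -/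
theorem semilinear_of_card {l : ℕ} (hl : l ≠ 0)
    (φ : GaloisField p l →+* Module.End (ZMod p) V)
    (hσ : ∀ g : G, ∃ σ : GaloisField p l →+* GaloisField p l, ∀ x, R g * φ x = φ (σ x) * R g)
    (hcard : Nat.card V = p ^ l) :
    ∃ (F : Type) (_ : Field F) (_ : Fintype F) (e : V ≃+ F),
      ∀ g : G, ∃ (a : F) (σ : F ≃+* F), ∀ v : V, e (R g v) = a * σ (e v) := by
  obtain ⟨v₀, hv₀⟩ := exists_ne (0 : V)
  let ψ : GaloisField p l →+ V :=
    { toFun := fun x => φ x v₀
      map_zero' := by rw [map_zero, LinearMap.zero_apply]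
      map_add' := fun a b => by rw [map_add, LinearMap.add_apply] }
  have hinj : Function.Injective ψ := (injective_iff_map_eq_zero ψ).2 fun x hx => by
    by_contra h
    refine hv₀ ?_
    have h1 : φ (x⁻¹ * x) v₀ = v₀ := by rw [inv_mul_cancel₀ h, map_one, Module.End.one_apply]
    rw [map_mul, Module.End.mul_apply, show φ x v₀ = 0 from hx, map_zero] at h1
    exact h1.symm
  have hbij : Function.Bijective ψ :=
    (Nat.bijective_iff_injective_and_card ψ).2 ⟨hinj, by rw [hcard, GaloisField.card p l hl]⟩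
  let e₀ := AddEquiv.ofBijective ψ hbij
  refine ⟨GaloisField p l, inferInstance, Fintype.ofFinite _, e₀.symm, fun g => ?_⟩
  obtain ⟨σ, hσg⟩ := hσ g
  refine ⟨e₀.symm (R g v₀), RingEquiv.ofBijective σ (Finite.injective_iff_bijective.1 σ.injective),
    fun v => ?_⟩
  apply e₀.injective
  rw [e₀.apply_symm_apply, RingEquiv.coe_ofBijective]
  obtain ⟨x, rfl⟩ := e₀.surjective v
  rw [e₀.symm_apply_apply, mul_comm]
  change R g (φ x v₀) = φ (σ x * e₀.symm (R g v₀)) v₀
  rw [map_mul, Module.End.mul_apply, show φ (e₀.symm (R g v₀)) v₀ = R g v₀ from e₀.apply_symm_apply _,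
    ← Module.End.mul_apply, hσg, Module.End.mul_apply]

end CfsgLib.Recog.TransLinear
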