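import Cfsg.Agent.Lib.Recog.TransLinearField
import Cfsg.Agent.Lib.Recog.InvariantPairingPrime

/-!
Solvable groups transitive on the non-zero vectors: the class two layer above a maximal commutative
normal subgroup.
-/

set_option autoImplicit false
set_option maxHeartbeats 400000
set_option linter.unusedSectionVars false

open scoped commutatorElement

namespace CfsgLib.Recog.TransLinear

variable {p : ℕ} [Fact p.Prime] {V : Type*} [AddCommGroup V] [Module (ZMod p) V] [Finite V]
  [Nontrivial V] {G : Type*} [Group G] [Finite G]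

/-- A maximal commutative normal subgroup with the field it spans. -/
structure Frame (R : G →* Module.End (ZMod p) V) where
  A : Subgroup G
  normal : A.Normal
  comm : IsMulCommutative A
  max : ∀ T : Subgroup G, T.Normal → IsMulCommutative T → A ≤ T → T = A
  l : ℕ
  l_ne : l ≠ 0
  φ : GaloisField p l →+* Module.End (ZMod p) V
  mem_range : ∀ a ∈ A, R a ∈ Set.range φ
  commute_φ : ∀ f : Module.End (ZMod p) V, (∀ a ∈ A, Commute f (R a)) → ∀ x, Commute f (φ x)
  exists_σ : ∀ g : G, ∃ σ : GaloisField p l →+* GaloisField p l, ∀ x, R g * φ x = φ (σ x) * R g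

variable (R : G →* Module.End (ZMod p) V) (htr : ∀ v w : V, v ≠ 0 → w ≠ 0 → ∃ g : G, R g v = w)

include htr in
theorem exists_frame : Nonempty (Frame R) := by
  obtain ⟨A, ⟨hAn, hAc⟩, hmax⟩ := (wellFounded_gt (α := Subgroup G)).has_min
    {A : Subgroup G | A.Normal ∧ IsMulCommutative A} ⟨⊥, inferInstance, inferInstance⟩
  obtain ⟨l, φ, hl, h1, h2, h3⟩ := exists_field R htr A hAc
  exact ⟨⟨A, hAn, hAc, fun T hT hTc hle => (eq_of_le_of_not_lt hle (hmax T ⟨hT, hTc⟩)).symm,
    l, hl, φ, h1, h2, h3⟩⟩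

include htr in
theorem sub_one_dvd_card : Nat.card V - 1 ∣ Nat.card G := by
  classical
  let _ : MulAction G {v : V // v ≠ 0} :=
    { smul := fun g v => ⟨R g v.1, ne_zero_apply R g v.2⟩
      one_smul := fun v => Subtype.ext (by change R 1 v.1 = v.1; rw [map_one, Module.End.one_apply])
      mul_smul := fun g h v => Subtype.ext (by
        change R (g * h) v.1 = R g (R h v.1)
        rw [map_mul, Module.End.mul_apply]) }
  have : MulAction.IsPretransitive G {v : V // v ≠ 0} :=
    ⟨fun v w => (htr v.1 w.1 v.2 w.2).imp fun g hg => Subtype.ext hg⟩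
  obtain ⟨v, hv⟩ := exists_ne (0 : V)
  have h := Subgroup.index_dvd_card (MulAction.stabilizer G (⟨v, hv⟩ : {v : V // v ≠ 0}))
  rw [MulAction.index_stabilizer_of_transitive] at h
  haveI := Fintype.ofFinite V
  rwa [Nat.card_eq_fintype_card, Fintype.card_subtype_compl, Fintype.card_subtype_eq,
    ← Nat.card_eq_fintype_card] at h

namespace Frame

variable {R} (D : Frame R)

instance : D.A.Normal := D.normal

/-- The field. -/
abbrev K : Type := GaloisField p D.l

/-- The centralizer of the commutative normal subgroup. -/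
abbrev C : Subgroup G := Subgroup.centralizer (D.A : Set G)

theorem A_le_C : D.A ≤ D.C := fun a ha =>
  Subgroup.mem_centralizer_iff.2 fun b hb =>
    haveI := D.comm
    congrArg Subtype.val (mul_comm' (⟨b, hb⟩ : D.A) ⟨a, ha⟩)

theorem commute_of_mem {c a : G} (hc : c ∈ D.C) (ha : a ∈ D.A) : Commute a c :=
  Subgroup.mem_centralizer_iff.1 hc a ha

theorem commute_R {c : G} (hc : c ∈ D.C) (x : D.K) : Commute (R c) (D.φ x) :=
  D.commute_φ _ (fun a ha => ((D.commute_of_mem hc ha).symm.map R)) x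

theorem φ_injective : Function.Injective D.φ := D.φ.injective

include D in
theorem R_mul_inv (g : G) : R g * R g⁻¹ = 1 := by rw [← map_mul, mul_inv_cancel, map_one]

/-- `V` as a vector space over the field. -/
def Space (_ : Frame R) : Type _ := V

instance : AddCommGroup D.Space := inferInstanceAs (AddCommGroup V)
instance : Finite D.Space := inferInstanceAs (Finite V)
instance : Nontrivial D.Space := inferInstanceAs (Nontrivial V)
noncomputable instance : Module D.K D.Space :=
  Module.compHom V D.φ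

/-- The dimension over the field. -/
noncomputable def m : ℕ := Module.finrank D.K D.Space

theorem one_le_m : 1 ≤ D.m := Module.finrank_pos

theorem card_eq : Nat.card V = p ^ (D.l * D.m) := by
  have h := Module.natCard_eq_pow_finrank (K := D.K) (V := D.Space)
  rw [GaloisField.card p D.l D.l_ne, ← pow_mul] at h
  exact h

/-- An element of the centralizer as a linear map over the field. -/
noncomputable def lin : D.C →* Module.End D.K D.Space where
  toFun c :=
    { toFun := fun v => R (c : G) v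
      map_add' := fun v w => map_add (R (c : G)) v w
      map_smul' := fun x v => LinearMap.congr_fun (D.commute_R c.2 x).eq v }
  map_one' := LinearMap.ext fun v => by
    change R (1 : G) v = v
    rw [map_one]
    rfl
  map_mul' a b := LinearMap.ext fun v => by
    change R ((a : G) * b) v = R (a : G) (R (b : G) v)
    rw [map_mul]
    rfl

theorem lin_apply (c : D.C) (v : V) : D.lin c v = R (c : G) v := rfl

theorem lin_injective (hR : Function.Injective R) : Function.Injective D.lin := fun a b h =>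
  Subtype.ext (hR (LinearMap.ext fun v => LinearMap.congr_fun h v))

theorem card_A_dvd (hR : Function.Injective R) : Nat.card D.A ∣ p ^ D.l - 1 := by
  classical
  let f : D.A →* D.K :=
    { toFun := fun a => (D.mem_range a a.2).choose
      map_one' := D.φ_injective ((D.mem_range _ (1 : D.A).2).choose_spec.trans (by simp))
      map_mul' := fun a b => D.φ_injective (by
        rw [(D.mem_range _ (a * b).2).choose_spec, map_mul, (D.mem_range _ a.2).choose_spec,
          (D.mem_range _ b.2).choose_spec, Subgroup.coe_mul, map_mul]) }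
  have hf : Function.Injective f := fun a b h => Subtype.ext (hR (by
    rw [← (D.mem_range _ a.2).choose_spec, ← (D.mem_range _ b.2).choose_spec]
    exact congrArg D.φ h))
  rw [← GaloisField.card p D.l D.l_ne, ← Nat.card_units]
  exact Subgroup.card_dvd_of_injective f.toHomUnits fun a b h => hf (congrArg Units.val h)

theorem index_C (hR : Function.Injective R) : D.C.index ∣ D.l ∧ IsCyclic (G ⧸ D.C) := by
  classical
  have huniq : ∀ (g : G) (σ τ : D.K →+* D.K), (∀ x, R g * D.φ x = D.φ (σ x) * R g) →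
      (∀ x, R g * D.φ x = D.φ (τ x) * R g) → σ = τ := fun g σ τ hσ hτ => RingHom.ext fun x =>
    D.φ_injective (by
      have h := congrArg (· * R g⁻¹) ((hσ x).symm.trans (hτ x))
      simpa only [mul_assoc, D.R_mul_inv, mul_one] using h)
  choose σ hσ using D.exists_σ
  have h1 : σ 1 = RingHom.id D.K := huniq 1 _ _ (hσ 1) fun x => by simp
  have hmul : ∀ a b, σ (a * b) = (σ a).comp (σ b) := fun a b => huniq _ _ _ (hσ _) fun x => by
    rw [map_mul, mul_assoc, hσ b, ← mul_assoc, hσ a, mul_assoc]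
    rfl
  let alg : G → (D.K →ₐ[ZMod p] D.K) := fun g =>
    { σ g with
      commutes' := fun r => DFunLike.congr_fun
        (Subsingleton.elim ((σ g).comp (algebraMap (ZMod p) D.K)) (algebraMap (ZMod p) D.K)) r }
  let τ : G →* (D.K ≃ₐ[ZMod p] D.K) := MonoidHom.mk'
    (fun g => AlgEquiv.ofAlgHom (alg g) (alg g⁻¹)
      (AlgHom.ext fun x => by
        change (σ g).comp (σ g⁻¹) x = x
        rw [← hmul, mul_inv_cancel, h1]; rfl)
      (AlgHom.ext fun x => by
        change (σ g⁻¹).comp (σ g) x = x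
        rw [← hmul, inv_mul_cancel, h1]; rfl))
    fun a b => AlgEquiv.ext fun x => DFunLike.congr_fun (hmul a b) x
  have hker : τ.ker = D.C := by
    ext g
    constructor
    · intro hg
      refine Subgroup.mem_centralizer_iff.2 fun a ha => hR ?_
      obtain ⟨x, hx⟩ := D.mem_range a ha
      rw [map_mul, map_mul, ← hx, hσ g x,
        show σ g x = x from DFunLike.congr_fun (MonoidHom.mem_ker.1 hg) x]
    · intro hg
      refine MonoidHom.mem_ker.2 (AlgEquiv.ext fun x => ?_)
      change σ g x = x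
      exact DFunLike.congr_fun (huniq g _ (RingHom.id _) (hσ g) fun y => (D.commute_R hg y).eq) x
  let e : G ⧸ D.C ≃* τ.range :=
    (QuotientGroup.quotientMulEquivOfEq hker.symm).trans (QuotientGroup.quotientKerEquivRange τ)
  refine ⟨?_, isCyclic_of_injective (τ.range.subtype.comp e.toMonoidHom)
    (τ.range.subtype_injective.comp e.injective)⟩
  have h := Subgroup.card_subgroup_dvd_card τ.range
  rw [IsGalois.card_aut_eq_finrank, GaloisField.finrank p D.l_ne] at h
  rwa [← hker, Subgroup.index_ker]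

theorem isCyclic_C (hR : Function.Injective R) (hm : D.m = 1) : IsCyclic D.C := by
  classical
  obtain ⟨v, hv⟩ := exists_ne (0 : D.Space)
  have key : ∀ f : Module.End D.K D.Space, ∃ a : D.K, f = a • 1 := fun f => by
    obtain ⟨a, ha⟩ := exists_smul_eq_of_finrank_eq_one hm hv (f v)
    refine ⟨a, LinearMap.ext fun w => ?_⟩
    obtain ⟨b, rfl⟩ := exists_smul_eq_of_finrank_eq_one hm hv w
    rw [map_smul, ← ha, LinearMap.smul_apply, Module.End.one_apply, smul_comm]
  choose a ha using key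
  have hinj : ∀ x y : D.K, x • (1 : Module.End D.K D.Space) = y • 1 → x = y := fun x y h =>
    smul_left_injective D.K (one_ne_zero : (1 : Module.End D.K D.Space) ≠ 0) h
  let f : D.C →* D.K :=
    { toFun := fun c => a (D.lin c)
      map_one' := hinj _ _ (by rw [← ha, map_one, one_smul])
      map_mul' := fun x y => hinj _ _ (by
        rw [← ha, map_mul, ha (D.lin x), ha (D.lin y), smul_mul_smul_comm, mul_one,
          ← ha (D.lin x), ← ha (D.lin y)]) }
  exact isCyclic_of_injective_ringHom f fun x y h => D.lin_injective hR (by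
    rw [ha (D.lin x), ha (D.lin y)]
    exact congrArg (· • (1 : Module.End D.K D.Space)) h)

theorem not_commute_eq {q q₀ y : G} (h : ⁅y, q⁆ = ⁅y, q₀⁆) (ha : Commute ⁅y, q⁆ q) :
    Commute y (q⁻¹ * q₀) := by
  have h1 : y * q * y⁻¹ = ⁅y, q⁆ * q := by rw [commutatorElement_def]; group
  have h2 : y * q₀ * y⁻¹ = ⁅y, q₀⁆ * q₀ := by rw [commutatorElement_def]; group
  have h3 : y * (q⁻¹ * q₀) * y⁻¹ = q⁻¹ * q₀ := by
    calc y * (q⁻¹ * q₀) * y⁻¹ = (y * q * y⁻¹)⁻¹ * (y * q₀ * y⁻¹) := by group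
      _ = (⁅y, q⁆ * q)⁻¹ * (⁅y, q⁆ * q₀) := by rw [h1, h2, h]
      _ = q⁻¹ * q₀ := by group
  exact mul_inv_eq_iff_eq_mul.1 h3

/-- Coset representatives with pairwise different commutator characters are independent. -/
theorem linearIndependent_reps (hR : Function.Injective R) {H Y : Subgroup G} (hH : H ≤ D.C)
    (hY : Y ≤ D.C) (hc : ∀ h ∈ H, ∀ y ∈ Y, ⁅y, h⁆ ∈ D.A)
    (hker : ∀ h ∈ H, (∀ y ∈ Y, Commute y h) → h ∈ D.A) :
    LinearIndependent D.K fun q : H ⧸ D.A.subgroupOf H =>
      D.lin ⟨((Quotient.out q : H) : G), hH (Quotient.out q).2⟩ := by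
  classical
  set f := fun q : H ⧸ D.A.subgroupOf H =>
      D.lin ⟨((Quotient.out q : H) : G), hH (Quotient.out q).2⟩ with hf
  have hchar : ∀ (q : H ⧸ D.A.subgroupOf H) (y : Y), ∃ x : D.K,
      D.φ x = R ⁅(y : G), ((Quotient.out q : H) : G)⁆ := fun q y =>
    D.mem_range _ (hc _ (Quotient.out q).2 _ y.2)
  choose χ hχ using hchar
  have htwist : ∀ (q : H ⧸ D.A.subgroupOf H) (y : Y),
      D.lin ⟨y, hY y.2⟩ * f q = χ q y • (f q * D.lin ⟨y, hY y.2⟩) := fun q y =>
    LinearMap.ext fun (v : V) => by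
      change R (y : G) (R ((Quotient.out q : H) : G) v) =
        D.φ (χ q y) (R ((Quotient.out q : H) : G) (R (y : G) v))
      rw [hχ, ← Module.End.mul_apply, ← Module.End.mul_apply, ← Module.End.mul_apply, ← map_mul,
        ← map_mul, ← map_mul]
      congr 2
      rw [commutatorElement_def]
      group
  have hsep : ∀ q q' : H ⧸ D.A.subgroupOf H, (∀ y, χ q y = χ q' y) → q = q' := by
    intro q q' h
    rw [← QuotientGroup.out_eq' q, ← QuotientGroup.out_eq' q', QuotientGroup.eq, Subgroup.mem_subgroupOf]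
    refine hker _ (H.mul_mem (H.inv_mem (Quotient.out q).2) (Quotient.out q').2) fun y hy => ?_
    refine not_commute_eq (hR ?_) ?_
    · rw [← hχ q ⟨y, hy⟩, ← hχ q' ⟨y, hy⟩, h ⟨y, hy⟩]
    · exact D.commute_of_mem (hH (Quotient.out q).2) (hc _ (Quotient.out q).2 _ hy)
  have hunit : ∀ c : D.C, D.lin c * D.lin c⁻¹ = 1 := fun c => by
    rw [← map_mul, mul_inv_cancel, map_one]
  rw [linearIndependent_iff']
  intro t
  induction t using Finset.induction_on with
  | empty => intro g _ i hi; exact absurd hi (Finset.notMem_empty i)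
  | @insert q₀ t hq₀ ih =>
    intro g hg i hi
    have ht : ∀ q ∈ t, g q = 0 := by
      intro q hq
      obtain ⟨y, hy⟩ : ∃ y, χ q y ≠ χ q₀ y := by
        by_contra! h
        exact hq₀ (hsep q q₀ h ▸ hq)
      have h1 : ∑ j ∈ insert q₀ t, (g j * χ j y) • f j = 0 := by
        have h2 := congrArg (fun z => D.lin ⟨y, hY y.2⟩ * z * D.lin (⟨y, hY y.2⟩⁻¹)) hg
        simp only [mul_zero, zero_mul, Finset.mul_sum, Finset.sum_mul] at h2
        rw [← h2]
        refine Finset.sum_congr rfl fun j _ => ?_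
        rw [mul_smul_comm, smul_mul_assoc, htwist, smul_mul_assoc, mul_assoc, hunit, mul_one, smul_smul]
      have h3 : ∑ j ∈ t, (g j * (χ j y - χ q₀ y)) • f j = 0 := by
        have h4 : ∑ j ∈ insert q₀ t, (g j * (χ j y - χ q₀ y)) • f j = 0 := by
          simp only [mul_sub, sub_smul, Finset.sum_sub_distrib]
          rw [h1, zero_sub, neg_eq_zero]
          simp_rw [mul_comm (g _) (χ q₀ y), mul_smul, ← Finset.smul_sum]
          rw [hg, smul_zero]
        rwa [Finset.sum_insert hq₀, sub_self, mul_zero, zero_smul, zero_add] at h4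
      exact (mul_eq_zero.1 (ih _ h3 q hq)).resolve_right (sub_ne_zero.2 hy)
    rcases Finset.mem_insert.1 hi with rfl | hi
    · rw [Finset.sum_insert hq₀, Finset.sum_eq_zero (fun j hj => by rw [ht j hj, zero_smul]),
        add_zero] at hg
      refine (smul_eq_zero.1 hg).resolve_right fun h0 => ?_
      have h1 := hunit ⟨((Quotient.out i : H) : G), hH (Quotient.out i).2⟩
      rw [show D.lin ⟨((Quotient.out i : H) : G), hH (Quotient.out i).2⟩ = 0 from h0, zero_mul] at h1
      exact zero_ne_one h1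
    · exact ht i hi

theorem relIndex_le_sq (hR : Function.Injective R) {H Y : Subgroup G} (hH : H ≤ D.C)
    (hY : Y ≤ D.C) (hc : ∀ h ∈ H, ∀ y ∈ Y, ⁅y, h⁆ ∈ D.A)
    (hker : ∀ h ∈ H, (∀ y ∈ Y, Commute y h) → h ∈ D.A) :
    D.A.relIndex H ≤ D.m * D.m := by
  classical
  haveI := Fintype.ofFinite (H ⧸ D.A.subgroupOf H)
  have h := (D.linearIndependent_reps hR hH hY hc hker).fintype_card_le_finrank
  rwa [Module.finrank_linearMap, ← Nat.card_eq_fintype_card] at h

theorem commute_of_full (hR : Function.Injective R) {H Y : Subgroup G} (hH : H ≤ D.C)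
    (hY : Y ≤ D.C) (hc : ∀ h ∈ H, ∀ y ∈ Y, ⁅y, h⁆ ∈ D.A)
    (hker : ∀ h ∈ H, (∀ y ∈ Y, Commute y h) → h ∈ D.A) (hfull : D.A.relIndex H = D.m * D.m)
    {z c : G} (hz : z ∈ D.C) (hzH : ∀ h ∈ H, Commute z h) (hcC : c ∈ D.C) : Commute z c := by
  classical
  haveI := Fintype.ofFinite (H ⧸ D.A.subgroupOf H)
  have hspan := (D.linearIndependent_reps hR hH hY hc hker).span_eq_top_of_card_eq_finrank'
    (by rw [Module.finrank_linearMap, ← Nat.card_eq_fintype_card]; exact hfull)
  have hall : ∀ f : Module.End D.K D.Space, Commute (D.lin ⟨z, hz⟩) f := by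
    intro f
    have hf : f ∈ Submodule.span D.K (Set.range fun q : H ⧸ D.A.subgroupOf H =>
      D.lin ⟨((Quotient.out q : H) : G), hH (Quotient.out q).2⟩) := hspan ▸ Submodule.mem_top
    induction hf using Submodule.span_induction with
    | mem x hx =>
      obtain ⟨q, rfl⟩ := hx
      exact (Commute.map (show Commute (⟨z, hz⟩ : D.C) ⟨_, hH (Quotient.out q).2⟩ from
        Subtype.ext (hzH _ (Quotient.out q).2).eq) D.lin)
    | zero => exact Commute.zero_right _
    | add x y _ _ hx hy => exact hx.add_right hy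
    | smul a x _ hx => exact hx.smul_right a
  exact congrArg Subtype.val (D.lin_injective hR (by
    rw [map_mul, map_mul]; exact (hall (D.lin ⟨c, hcC⟩)).eq) :
    (⟨z, hz⟩ : D.C) * ⟨c, hcC⟩ = ⟨c, hcC⟩ * ⟨z, hz⟩)

/-- The layer. -/
structure Layer where
  B : Subgroup G
  s : ℕ
  n : ℕ
  prime : s.Prime
  normal : B.Normal
  A_le : D.A ≤ B
  le_C : B ≤ D.C
  two_le : 2 ≤ n
  relIndex_eq : D.A.relIndex B = s ^ n
  le_sq : s ^ n ≤ D.m * D.m
  dvd : s ∣ p ^ D.l - 1
  comm_mem : ∀ a ∈ B, ∀ b ∈ B, ⁅a, b⁆ ∈ D.A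
  pow_mem : ∀ b ∈ B, b ^ s ∈ D.A
  ker : ∀ b ∈ B, (∀ b' ∈ B, Commute b' b) → b ∈ D.A

include htr in
theorem exists_layer (hR : Function.Injective R) (hsol : Group.IsSolvable G) (hm : 2 ≤ D.m) :
    Nonempty D.Layer := by
  classical
  haveI := D.comm
  have hp : p.Prime := Fact.out
  have hAC : D.A < D.C := by
    refine lt_of_le_of_ne D.A_le_C fun h => ?_
    have h1 := sub_one_dvd_card R htr
    rw [D.card_eq, ← Subgroup.card_mul_index D.C, ← h] at h1
    have hpl : 2 ≤ p ^ D.l := le_trans hp.two_le (Nat.le_self_pow D.l_ne p)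
    have h2 : Nat.card D.A * D.A.index ≤ (p ^ D.l - 1) * D.l := by
      refine Nat.mul_le_mul (Nat.le_of_dvd (by omega) (D.card_A_dvd hR))
        (Nat.le_of_dvd (Nat.pos_of_ne_zero D.l_ne) ?_)
      rw [h]; exact (D.index_C hR).1
    have h3 := (Nat.le_of_dvd (Nat.mul_pos Nat.card_pos
      (Nat.pos_of_ne_zero Subgroup.FiniteIndex.index_ne_zero)) h1).trans h2
    have h4 : (p ^ D.l) ^ 2 ≤ p ^ (D.l * D.m) := by
      rw [← pow_mul]; exact Nat.pow_le_pow_right hp.pos (Nat.mul_le_mul_left _ hm)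
    have h5 : D.l < p ^ D.l := Nat.lt_pow_self hp.one_lt
    have h6 : (p ^ D.l) ^ 2 - 1 = (p ^ D.l + 1) * (p ^ D.l - 1) := by
      simpa using Nat.sq_sub_sq (p ^ D.l) 1
    have h7 : (p ^ D.l - 1) * D.l < (p ^ D.l + 1) * (p ^ D.l - 1) := by
      rw [mul_comm (p ^ D.l + 1)]
      exact Nat.mul_lt_mul_of_pos_left (by omega) (by omega)
    omega
  obtain ⟨B, ⟨hBn, hAB, hBC⟩, hBmin⟩ := (wellFounded_lt (α := Subgroup G)).has_min
    {B : Subgroup G | B.Normal ∧ D.A < B ∧ B ≤ D.C}
    ⟨D.C, Subgroup.normal_centralizer, hAC, le_rfl⟩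
  have hcm : ∀ a ∈ B, ∀ b ∈ B, ⁅a, b⁆ ∈ D.A := by
    have hle : ⁅B, B⁆ ⊔ D.A ≤ B :=
      sup_le (Subgroup.commutator_le_left B B) hAB.le
    by_cases heq : ⁅B, B⁆ ⊔ D.A = B
    · exfalso
      haveI := hsol
      obtain ⟨k, hk⟩ := (Group.isSolvable_def (G ⧸ D.A)).1 inferInstance
      have himg : ∀ j, B.map (QuotientGroup.mk' D.A) ≤ derivedSeries (G ⧸ D.A) j := by
        intro j
        induction j with
        | zero => exact le_top
        | succ j ih =>
          conv_lhs => rw [← heq]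
          rw [Subgroup.map_sup, Subgroup.map_commutator, QuotientGroup.map_mk'_self, sup_bot_eq,
            derivedSeries_succ]
          exact Subgroup.commutator_mono ih ih
      have h1 := himg k
      rw [hk, le_bot_iff, Subgroup.map_eq_bot_iff, QuotientGroup.ker_mk'] at h1
      exact absurd h1 hAB.not_ge
    · intro a ha b hb
      have hA' : D.A = ⁅B, B⁆ ⊔ D.A := by
        by_contra hne
        exact hBmin _ ⟨inferInstance, lt_of_le_of_ne le_sup_right hne, hle.trans hBC⟩
          (lt_of_le_of_ne hle heq)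
      rw [hA']
      exact Subgroup.mem_sup_left (Subgroup.commutator_mem_commutator ha hb)
  -- the exponent
  have hquot : ∀ x y : B ⧸ D.A.subgroupOf B, Commute x y := fun x y => by
    induction x using QuotientGroup.induction_on with | _ x => ?_
    induction y using QuotientGroup.induction_on with | _ y => ?_
    have h1 : ((x * y * x⁻¹ * y⁻¹ : B) : B ⧸ D.A.subgroupOf B) = 1 := by
      rw [QuotientGroup.eq_one_iff, Subgroup.mem_subgroupOf]
      exact hcm _ x.2 _ y.2
    rw [QuotientGroup.mk_mul, QuotientGroup.mk_mul, QuotientGroup.mk_mul, QuotientGroup.mk_inv,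
      QuotientGroup.mk_inv, ← commutatorElement_def, commutatorElement_eq_one_iff_mul_comm] at h1
    exact h1
  obtain ⟨s, hs, hsd⟩ := Nat.exists_prime_and_dvd (n := D.A.relIndex B)
    (fun h => hAB.not_ge (Subgroup.relIndex_eq_one.1 h))
  haveI : Fact s.Prime := ⟨hs⟩
  let Bs : Subgroup G :=
    { carrier := {b | ∃ h : b ∈ B, ((⟨b, h⟩ : B) : B ⧸ D.A.subgroupOf B) ^ s = 1}
      one_mem' := ⟨B.one_mem, by
        rw [show (⟨1, B.one_mem⟩ : B) = 1 from rfl, QuotientGroup.mk_one, one_pow]⟩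
      mul_mem' := fun {a b} ⟨ha, ha'⟩ ⟨hb, hb'⟩ => ⟨B.mul_mem ha hb, by
        rw [show (⟨a * b, B.mul_mem ha hb⟩ : B) = ⟨a, ha⟩ * ⟨b, hb⟩ from rfl, QuotientGroup.mk_mul,
          (hquot _ _).mul_pow, ha', hb', one_mul]⟩
      inv_mem' := fun {a} ⟨ha, ha'⟩ => ⟨B.inv_mem ha, by
        rw [show (⟨a⁻¹, B.inv_mem ha⟩ : B) = ⟨a, ha⟩⁻¹ from rfl, QuotientGroup.mk_inv, inv_pow, ha',
          inv_one]⟩ }
  have hBs_iff : ∀ {b : G}, b ∈ Bs ↔ b ∈ B ∧ b ^ s ∈ D.A := fun {b} =>
    ⟨fun ⟨h, h'⟩ => ⟨h, by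
      rw [← QuotientGroup.mk_pow, QuotientGroup.eq_one_iff, Subgroup.mem_subgroupOf] at h'
      exact h'⟩,
    fun ⟨h, h'⟩ => ⟨h, by
      rw [← QuotientGroup.mk_pow, QuotientGroup.eq_one_iff, Subgroup.mem_subgroupOf]
      exact h'⟩⟩
  have hBseq : Bs = B := by
    by_contra hne
    refine hBmin Bs ⟨⟨fun b hb g => ?_⟩, ?_, fun b hb => hBC (hBs_iff.1 hb).1⟩
      (lt_of_le_of_ne (fun b hb => (hBs_iff.1 hb).1) hne)
    · obtain ⟨hb1, hb2⟩ := hBs_iff.1 hb
      exact hBs_iff.2 ⟨hBn.conj_mem b hb1 g, by rw [conj_pow]; exact D.normal.conj_mem _ hb2 g⟩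
    · refine lt_of_le_of_ne (fun a ha => hBs_iff.2 ⟨hAB.le ha, pow_mem ha s⟩) fun he => ?_
      obtain ⟨x, hx⟩ := exists_prime_orderOf_dvd_card' (G := B ⧸ D.A.subgroupOf B) s hsd
      induction x using QuotientGroup.induction_on with | _ x => ?_
      have hxm : (x : G) ∈ Bs := ⟨x.2, by rw [← hx]; exact pow_orderOf_eq_one _⟩
      rw [← he] at hxm
      rw [(QuotientGroup.eq_one_iff x).2 hxm, orderOf_one] at hx
      exact hs.ne_one hx.symm
  have hpow : ∀ b ∈ B, b ^ s ∈ D.A := fun b hb => (hBs_iff.1 (hBseq.symm ▸ hb : b ∈ Bs)).2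
  have hpg : IsPGroup s (B ⧸ D.A.subgroupOf B) := fun x => ⟨1, by
    induction x using QuotientGroup.induction_on with | _ x => ?_
    rw [pow_one, ← QuotientGroup.mk_pow, QuotientGroup.eq_one_iff, Subgroup.mem_subgroupOf]
    exact hpow _ x.2⟩
  obtain ⟨n, hn⟩ := hpg.exists_card_eq
  have hker : ∀ b ∈ B, (∀ b' ∈ B, Commute b' b) → b ∈ D.A := by
    intro b hb hcb
    let T : Subgroup G := B ⊓ Subgroup.centralizer (B : Set G)
    have hAT : D.A ≤ T := le_inf hAB.le fun a ha =>
      Subgroup.mem_centralizer_iff.2 fun x hx => (D.commute_of_mem (hBC hx) ha).eq.symm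
    have hT := D.max T inferInstance ⟨⟨fun x y => Subtype.ext
      ((Subgroup.mem_centralizer_iff.1 (Subgroup.mem_inf.1 y.2).2) x (Subgroup.mem_inf.1 x.2).1)⟩⟩ hAT
    rw [← hT]
    exact Subgroup.mem_inf.2 ⟨hb, Subgroup.mem_centralizer_iff.2 fun x hx => (hcb x hx).eq⟩
  obtain ⟨b₁, hb₁, b₂, hb₂, hne⟩ : ∃ b₁ ∈ B, ∃ b₂ ∈ B, ¬ Commute b₁ b₂ := by
    by_contra! h
    exact hAB.not_ge fun x hx => hker x hx fun y hy => h y hy x hx
  refine ⟨⟨B, s, n, hs, hBn, hAB.le, hBC, ?_, hn, hn ▸ D.relIndex_le_sq hR hBC hBC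
    (fun h hh y hy => hcm y hy h hh) hker, ?_, hcm, hpow, hker⟩⟩
  · -- the layer is not cyclic
    by_contra hlt
    have hcyc : IsCyclic (B ⧸ D.A.subgroupOf B) := by
      rcases Nat.eq_zero_or_pos n with h0 | h0
      · rw [h0, pow_zero] at hn
        haveI := (Nat.card_eq_one_iff_unique.1 hn).1
        infer_instance
      · exact isCyclic_of_prime_card (p := s) (by rw [hn, show n = 1 by omega, pow_one])
    have hle : (QuotientGroup.mk' (D.A.subgroupOf B)).ker ≤ Subgroup.center B := by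
      rw [QuotientGroup.ker_mk']
      intro x hx
      exact Subgroup.mem_center_iff.2 fun y =>
        Subtype.ext (D.commute_of_mem (hBC y.2) (Subgroup.mem_subgroupOf.1 hx)).eq.symm
    exact hne (congrArg Subtype.val
      ((commutative_of_cyclic_center_quotient _ hle) ⟨b₁, hb₁⟩ ⟨b₂, hb₂⟩))
  · have hc1 : ⁅b₁, b₂⁆ ≠ 1 := fun e => hne (commutatorElement_eq_one_iff_mul_comm.1 e)
    have hca := hcm _ hb₁ _ hb₂
    have hcs : ⁅b₁, b₂⁆ ^ s = 1 := by
      have h1 : b₁ * b₂ * b₁⁻¹ = ⁅b₁, b₂⁆ * b₂ := by rw [commutatorElement_def]; group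
      have h2 : Commute ⁅b₁, b₂⁆ b₂ := D.commute_of_mem (hBC hb₂) hca
      have h3 := congrArg (· ^ s) h1
      have h4 : b₁ * b₂ ^ s * b₁⁻¹ = b₂ ^ s := by
        rw [(D.commute_of_mem (hBC hb₁) (hpow _ hb₂)).symm.eq, mul_inv_cancel_right]
      rw [conj_pow, h2.mul_pow, h4] at h3
      exact mul_eq_right.1 h3.symm
    have h5 := (orderOf_dvd_natCard (⟨_, hca⟩ : D.A)).trans (D.card_A_dvd hR)
    rwa [orderOf_eq_prime (x := (⟨_, hca⟩ : D.A)) (Subtype.ext hcs)
      (fun e => hc1 (congrArg Subtype.val e))] at h5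

end Frame

end CfsgLib.Recog.TransLinear
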