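import Cfsg.Agent.Lib.Recog.TransLinearSolvable
import Cfsg.Agent.Lib.Transfer.SLTwoThree

/-!
Solvable groups acting regularly on the non-zero vectors.
-/

set_option autoImplicit false
set_option maxHeartbeats 400000
set_option linter.unusedSectionVars false

open scoped commutatorElement

namespace CfsgLib.Recog.TransLinear

/-- A normal subgroup with cyclic quotient of even order gives a subgroup of index two. -/
theorem exists_index_two_of_cyclic_quotient {G : Type*} [Group G] [Finite G] (H : Subgroup G)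
    [H.Normal] [IsCyclic (G ⧸ H)] (he : 2 ∣ H.index) : ∃ N : Subgroup G, N.Normal ∧ N.index = 2 := by
  obtain ⟨x, hx⟩ := IsCyclic.exists_generator (α := G ⧸ H)
  have hord : orderOf x = H.index := orderOf_eq_card_of_forall_mem_zpowers hx
  obtain ⟨t, ht⟩ := he
  have ht0 : 0 < t := by
    have := (Nat.card_pos : 0 < Nat.card (G ⧸ H))
    rw [← Subgroup.index_eq_card, ht] at this
    omega
  have hidx : (Subgroup.zpowers (x ^ 2)).index = 2 := by
    have h1 := Subgroup.card_mul_index (Subgroup.zpowers (x ^ 2))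
    rw [Nat.card_zpowers, orderOf_pow, hord, ← Subgroup.index_eq_card, ht,
      Nat.gcd_eq_right (dvd_mul_right 2 t), Nat.mul_div_cancel_left _ two_pos, mul_comm 2 t] at h1
    exact Nat.eq_of_mul_eq_mul_left ht0 h1
  have h2 : ((Subgroup.zpowers (x ^ 2)).comap (QuotientGroup.mk' H)).index = 2 := by
    rw [Subgroup.index_comap_of_surjective _ (QuotientGroup.mk'_surjective H), hidx]
  exact ⟨_, Subgroup.normal_of_index_eq_two h2, h2⟩

/-- Normal subgroup with quotient of order two, eight, sixteen or six. -/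
theorem exists_index_two_of_order {G : Type*} [Group G] [Finite G] (H : Subgroup G) [H.Normal]
    {m r : ℕ} [Fact r.Prime] {j : ℕ} (hm : r ^ j = m) (hi : H.index = 2 * m) :
    ∃ N : Subgroup G, N.Normal ∧ N.index = 2 := by
  obtain ⟨S, hS⟩ := Sylow.exists_subgroup_card_pow_prime (G := G ⧸ H) r (n := j) (by
    rw [← Subgroup.index_eq_card, hi, hm]; exact dvd_mul_left _ _)
  have hidx : S.index = 2 := by
    have h1 := Subgroup.card_mul_index S
    rw [hS, hm, ← Subgroup.index_eq_card, hi, mul_comm 2 m] at h1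
    exact Nat.eq_of_mul_eq_mul_left (by rw [← hm]; exact pow_pos (Fact.out : r.Prime).pos _) h1
  have h2 : (S.comap (QuotientGroup.mk' H)).index = 2 := by
    rw [Subgroup.index_comap_of_surjective _ (QuotientGroup.mk'_surjective H), hidx]
  exact ⟨_, Subgroup.normal_of_index_eq_two h2, h2⟩

theorem exists_index_two_of_cyclic {G : Type*} [Group G] [Finite G] (he : 2 ∣ Nat.card G)
    (C : Subgroup G) [C.Normal] [IsCyclic C] [IsCyclic (G ⧸ C)] :
    ∃ N : Subgroup G, N.Normal ∧ N.index = 2 := by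
  haveI : Fact (Nat.Prime 2) := ⟨Nat.prime_two⟩
  by_cases h2 : 2 ∣ C.index
  · exact exists_index_two_of_cyclic_quotient C h2
  -- a cyclic Sylow `2`-subgroup
  let P : Sylow 2 G := Classical.arbitrary _
  have hPC : (P : Subgroup G) ≤ C := fun y hy => by
    rw [← QuotientGroup.eq_one_iff, ← orderOf_eq_one_iff]
    obtain ⟨k, hk⟩ := P.2 ⟨y, hy⟩
    have h1 : orderOf (y : G ⧸ C) ∣ 2 ^ k := orderOf_dvd_of_pow_eq_one (by
      rw [← QuotientGroup.mk_pow, show y ^ 2 ^ k = 1 from congrArg Subtype.val hk, QuotientGroup.mk_one])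
    have h3 : Nat.Coprime (2 ^ k) (Nat.card (G ⧸ C)) := by
      rw [← Subgroup.index_eq_card]
      exact Nat.Coprime.pow_left _ (Nat.prime_two.coprime_iff_not_dvd.2 h2)
    exact Nat.eq_one_of_dvd_coprimes h3 h1 (orderOf_dvd_natCard _)
  haveI : IsCyclic (P : Subgroup G) :=
    isCyclic_of_injective (Subgroup.inclusion hPC) (Subgroup.inclusion_injective hPC)
  let f := MonoidHom.transferSylow P
    (IsCyclic.normalizer_le_centralizer ((Nat.minFac_eq_two_iff _).2 he) inferInstance)
  have hc := MonoidHom.ker_transferSylow_isComplement' P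
    (IsCyclic.normalizer_le_centralizer ((Nat.minFac_eq_two_iff _).2 he) inferInstance)
  haveI : IsCyclic (G ⧸ f.ker) :=
    isCyclic_of_injective (QuotientGroup.kerLift f) (QuotientGroup.kerLift_injective f)
  refine exists_index_two_of_cyclic_quotient f.ker ?_
  rw [hc.symm.index_eq_card]
  refine (Nat.Prime.dvd_iff_one_le_factorization Nat.prime_two Nat.card_pos.ne').2 ?_
  rw [Sylow.card_eq_multiplicity, Nat.Prime.factorization_pow Nat.prime_two, Finsupp.single_eq_same]
  exact Nat.prime_two.factorization_pos_of_dvd Nat.card_pos.ne' he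

variable {p : ℕ} [Fact p.Prime] {V : Type*} [AddCommGroup V] [Module (ZMod p) V] [Finite V]
  [Nontrivial V] {G : Type*} [Group G] [Finite G] (R : G →* Module.End (ZMod p) V)
  (htr : ∀ v w : V, v ≠ 0 → w ≠ 0 → ∃ g : G, R g v = w)
  (hreg : ∀ v : V, v ≠ 0 → ∀ g : G, R g v = v → g = 1)

include hreg in
theorem injective_of_regular : Function.Injective R := by
  obtain ⟨v, hv⟩ := exists_ne (0 : V)
  intro a b h
  refine inv_mul_eq_one.1 (hreg v hv (a⁻¹ * b) ?_)
  rw [map_mul, Module.End.mul_apply, ← h, mul_inv_apply_cancel]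

include htr hreg in
theorem card_of_regular : Nat.card G = Nat.card V - 1 := by
  classical
  obtain ⟨v, hv⟩ := exists_ne (0 : V)
  haveI := Fintype.ofFinite V
  rw [Nat.card_congr (Equiv.ofBijective
    (fun g : G => (⟨R g v, ne_zero_apply R g hv⟩ : {w : V // w ≠ 0}))
    ⟨fun a b h => ?_, fun w => ?_⟩), Nat.card_eq_fintype_card, Fintype.card_subtype_compl,
    Fintype.card_subtype_eq, Nat.card_eq_fintype_card]
  · refine inv_mul_eq_one.1 (hreg v hv (a⁻¹ * b) ?_)
    have h' : R a v = R b v := congrArg Subtype.val h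
    rw [map_mul, Module.End.mul_apply, ← h', mul_inv_apply_cancel]
  · obtain ⟨g, hg⟩ := htr v w.1 hv w.2
    exact ⟨g, Subtype.ext hg⟩

include hreg in
/-- An involution acts as `-1`. -/
theorem involution_eq_neg {g : G} (hg : g ^ 2 = 1) (hg1 : g ≠ 1) (v : V) : R g v = -v := by
  by_contra h
  have h1 : R g v + v ≠ 0 := fun e => h (eq_neg_of_add_eq_zero_left e)
  refine hg1 (hreg _ h1 g ?_)
  rw [map_add, ← Module.End.mul_apply, ← map_mul, ← sq, hg, map_one, Module.End.one_apply, add_comm]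

include hreg in
theorem involution_central {g : G} (hg : g ^ 2 = 1) (hg1 : g ≠ 1) (y : G) : Commute g y :=
  injective_of_regular R hreg (LinearMap.ext fun v => by
    rw [map_mul, map_mul, Module.End.mul_apply, Module.End.mul_apply,
      involution_eq_neg R hreg hg hg1, involution_eq_neg R hreg hg hg1, map_neg])

include htr in
theorem semilinear_of_normal (hR : Function.Injective R) {d : ℕ} (hV : Nat.card V = p ^ d)
    (T : Subgroup G) [T.Normal] (hT : IsMulCommutative T)
    (hn : ∀ i, 0 < i → i < d → i ∣ d → ¬ Nat.card T ∣ p ^ i - 1) :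
    ∃ (F : Type) (_ : Field F) (_ : Fintype F) (e : V ≃+ F),
        ∀ g : G, ∃ (a : F) (σ : F ≃+* F), ∀ v : V, e (R g v) = a * σ (e v) := by
  classical
  have hp : p.Prime := Fact.out
  obtain ⟨l, φ, hl, h1, -, h3⟩ := exists_field R htr T hT
  refine semilinear_of_card R hl φ h3 ?_
  letI : Module (GaloisField p l) V := Module.compHom V φ
  have hcard : Nat.card V = p ^ (l * Module.finrank (GaloisField p l) V) := by
    rw [Module.natCard_eq_pow_finrank (K := GaloisField p l) (V := V), GaloisField.card p l hl,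
      ← pow_mul]
  have hd : d = l * Module.finrank (GaloisField p l) V :=
    Nat.pow_right_injective hp.two_le (hV.symm.trans hcard)
  rcases eq_or_lt_of_le (Nat.le_of_dvd (by
      rw [hd]; exact Nat.mul_pos (Nat.pos_of_ne_zero hl) Module.finrank_pos)
      (hd ▸ dvd_mul_right l _) : l ≤ d) with h | h
  · rw [hV, h]
  exfalso
  refine hn l (Nat.pos_of_ne_zero hl) h (hd ▸ dvd_mul_right _ _) ?_
  let f : T →* GaloisField p l :=
    { toFun := fun a => (h1 a a.2).choose
      map_one' := φ.injective ((h1 _ (1 : T).2).choose_spec.trans (by simp))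
      map_mul' := fun a b => φ.injective (by
        rw [(h1 _ (a * b).2).choose_spec, map_mul, (h1 _ a.2).choose_spec,
          (h1 _ b.2).choose_spec, Subgroup.coe_mul, map_mul]) }
  have hf : Function.Injective f := fun a b h => Subtype.ext (hR (by
    rw [← (h1 _ a.2).choose_spec, ← (h1 _ b.2).choose_spec]
    exact congrArg φ h))
  rw [← GaloisField.card p l hl, ← Nat.card_units]
  exact Subgroup.card_dvd_of_injective f.toHomUnits fun a b h => hf (congrArg Units.val h)

include htr hreg in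
theorem sylow_five_normal (h80 : Nat.card V = 81) : ∃ X : Subgroup G, X.Normal ∧ Nat.card X = 5 := by
  classical
  haveI : Fact (Nat.Prime 5) := ⟨by norm_num⟩
  haveI : Fact (Nat.Prime 2) := ⟨Nat.prime_two⟩
  have hG : Nat.card G = 80 := by rw [card_of_regular R htr hreg, h80]
  let X : Sylow 5 G := Classical.arbitrary _
  have hXc : Nat.card (X : Subgroup G) = 5 := by
    rw [Sylow.card_eq_multiplicity, hG, show 80 = 5 * 16 from rfl,
      Nat.factorization_mul (by norm_num) (by norm_num), Finsupp.add_apply,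
      Nat.Prime.factorization_self (by norm_num), Nat.factorization_eq_zero_of_not_dvd (by norm_num)]
    rfl
  obtain ⟨z, hz⟩ := exists_prime_orderOf_dvd_card' (G := G) 2 (by rw [hG]; norm_num)
  have hzN : z ∈ Subgroup.normalizer ((X : Subgroup G) : Set G) := by
    have hc := fun y : G => involution_central R hreg (by rw [← hz]; exact pow_orderOf_eq_one z)
      (fun e => by rw [e, orderOf_one] at hz; omega) y
    refine Subgroup.mem_normalizer_iff.2 fun y => ?_
    rw [(hc y).eq, mul_inv_cancel_right]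
  refine ⟨X, Subgroup.normalizer_eq_top_iff.1 (Subgroup.index_eq_one.1 ?_), hXc⟩
  have h1 : (Subgroup.normalizer ((X : Subgroup G) : Set G)).index = Nat.card (Sylow 5 G) :=
    (Sylow.card_eq_index_normalizer X).symm
  have h2 : Nat.card (Sylow 5 G) ≡ 1 [MOD 5] := card_sylow_modEq_one 5 G
  have h3 : 10 ∣ Nat.card (Subgroup.normalizer ((X : Subgroup G) : Set G)) := by
    refine Nat.Coprime.mul_dvd_of_dvd_of_dvd (show Nat.Coprime 5 2 by norm_num) ?_ ?_
    · exact hXc.symm.dvd.trans (Subgroup.card_dvd_of_le Subgroup.le_normalizer)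
    · have h5 := orderOf_dvd_natCard (⟨z, hzN⟩ : Subgroup.normalizer ((X : Subgroup G) : Set G))
      rwa [← Subgroup.orderOf_coe, hz] at h5
  have h4 := Subgroup.card_mul_index (Subgroup.normalizer ((X : Subgroup G) : Set G))
  rw [hG] at h4
  obtain ⟨c, hc⟩ := h3
  rw [hc, h1] at h4
  rw [Nat.ModEq] at h2
  rw [h1]
  have h5 : Nat.card (Sylow 5 G) ∣ 8 := ⟨c, by rw [mul_assoc] at h4; have := mul_comm c (Nat.card (Sylow 5 G)); omega⟩
  have h6 := Nat.le_of_dvd (by norm_num) h5
  set n := Nat.card (Sylow 5 G)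
  interval_cases n <;> omega

include htr hreg in
theorem semilinear_nine (h9 : Nat.card V = p ^ 2) (hp3 : p = 3) :
    ∃ (F : Type) (_ : Field F) (_ : Fintype F) (e : V ≃+ F),
        ∀ g : G, ∃ (a : F) (σ : F ≃+* F), ∀ v : V, e (R g v) = a * σ (e v) := by
  have hR := injective_of_regular R hreg
  have hG : Nat.card G = 8 := by
    rw [card_of_regular R htr hreg, h9]
    exact congrArg (fun z : ℕ => z ^ 2 - 1) hp3
  obtain ⟨T, hTn, hTc, hTd⟩ : ∃ T : Subgroup G, T.Normal ∧ IsMulCommutative T ∧ 4 ∣ Nat.card T := by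
    by_cases h4 : ∃ x : G, 4 ∣ orderOf x
    · obtain ⟨x, hx⟩ := h4
      refine ⟨Subgroup.zpowers x, ?_, inferInstance, by rwa [Nat.card_zpowers]⟩
      have h1 := Subgroup.card_mul_index (Subgroup.zpowers x)
      rw [Nat.card_zpowers, hG] at h1
      have h2 : (Subgroup.zpowers x).index ≤ 2 := by
        have := Nat.le_of_dvd (orderOf_pos x) hx
        nlinarith
      interval_cases h : (Subgroup.zpowers x).index
      · exact absurd h Subgroup.FiniteIndex.index_ne_zero
      · rw [Subgroup.index_eq_one.1 h]; infer_instance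
      · exact Subgroup.normal_of_index_eq_two h
    · push Not at h4
      have hsq : ∀ x : G, x ^ 2 = 1 := fun x => by
        obtain ⟨k, hk, hk'⟩ := (Nat.dvd_prime_pow Nat.prime_two).1
          (show orderOf x ∣ 2 ^ 3 by rw [show 2 ^ 3 = Nat.card G by rw [hG]; rfl]; exact orderOf_dvd_natCard x)
        rw [← orderOf_dvd_iff_pow_eq_one, hk']
        rcases Nat.lt_or_ge k 2 with hk2 | hk2
        · exact pow_dvd_pow 2 (show k ≤ 1 by omega) |>.trans (dvd_of_eq (pow_one 2))
        · exact absurd (hk' ▸ pow_dvd_pow 2 hk2 : 2 ^ 2 ∣ orderOf x) (h4 x)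
      refine ⟨⊤, inferInstance, ⟨⟨fun a b => Subtype.ext ?_⟩⟩, by rw [Subgroup.card_top, hG]; norm_num⟩
      have h1 := hsq ((a : G) * b)
      rw [sq] at h1
      calc (a : G) * b = ((a : G) * b)⁻¹ := eq_inv_of_mul_eq_one_left h1
        _ = b * a := by
          rw [mul_inv_rev, inv_eq_of_mul_eq_one_left (sq (b : G) ▸ hsq b),
            inv_eq_of_mul_eq_one_left (sq (a : G) ▸ hsq a)]
  refine semilinear_of_normal R htr hR h9 T hTc fun i hi hi2 _ hdvd => ?_
  obtain rfl : i = 1 := by omega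
  have h1 : 4 ∣ 3 ^ 1 - 1 := (hTd.trans hdvd).trans (congrArg (fun z : ℕ => z ^ 1 - 1) hp3).dvd
  exact absurd h1 (by norm_num)

namespace Frame

variable {R} (D : Frame R) (L : D.Layer)

include htr hreg

/-- The binary tetrahedral part in dimension two. -/
theorem exists_slTwoThree (hp2 : D.l = 1 ∧ D.m = 2 ∧ L.s = 2 ∧ L.n = 2) (hC : D.C = ⊤) {k : ℕ}
    (hk : Odd k) (hA : Nat.card D.A = 2 * k) (hB : L.B.index = 3) (hk3 : ¬ 3 ∣ k) :
    ∃ H : Subgroup G, Nat.card H = 24 ∧ Nonempty (H ≃* Matrix.SpecialLinearGroup (Fin 2) (ZMod 3)) := by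
  classical
  obtain ⟨-, hm2, hs, hn⟩ := hp2
  haveI : Fact (Nat.Prime 2) := ⟨Nat.prime_two⟩
  haveI : Fact (Nat.Prime 3) := ⟨Nat.prime_three⟩
  have hR := injective_of_regular R hreg
  have hcent : ∀ {a : G}, a ∈ D.A → ∀ y : G, Commute a y := fun ha y =>
    D.commute_of_mem (hC ▸ Subgroup.mem_top y) ha
  obtain ⟨z₀, hz₀⟩ := exists_prime_orderOf_dvd_card' (G := D.A) 2 (by rw [hA]; exact dvd_mul_right 2 k)
  set z : G := (z₀ : G) with hzdef
  have hzA : z ∈ D.A := z₀.2
  have hz : orderOf z = 2 := by rw [hzdef, Subgroup.orderOf_coe, hz₀]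
  have huniq : ∀ y : G, y ^ 2 = 1 → y = 1 ∨ y = z := fun y hy => or_iff_not_imp_left.2 fun hy1 =>
    hR (LinearMap.ext fun v => by
      rw [involution_eq_neg R hreg hy hy1, involution_eq_neg R hreg (hz ▸ pow_orderOf_eq_one z)
        (fun e => by rw [e, orderOf_one] at hz; omega)])
  have hpowA : ∀ a ∈ D.A, (a ^ k) ^ 2 = 1 := fun a ha => by
    rw [← pow_mul, mul_comm, ← hA]
    exact congrArg Subtype.val (pow_card_eq_one' (x := (⟨a, ha⟩ : D.A)))
  have hcard4 : Nat.card L.Quo = 4 := by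
    rw [show Nat.card L.Quo = D.A.relIndex L.B from rfl, L.relIndex_eq, hs, hn]; rfl
  -- square roots of the involution
  obtain ⟨i, hiB, hiA⟩ : ∃ i ∈ L.B, i ∉ D.A := by
    by_contra! h
    have h1 := Subgroup.relIndex_eq_one.2 h
    rw [L.relIndex_eq, hs, hn] at h1
    omega
  obtain ⟨i, hiB, hiA, hi2⟩ : ∃ i ∈ L.B, i ∉ D.A ∧ i ^ 2 = z := by
    refine ⟨i ^ k, pow_mem hiB k, ?_, ?_⟩
    · intro hk'
      obtain ⟨t, rfl⟩ := hk
      rw [pow_succ, pow_mul] at hk'
      have h1 : i ^ 2 ∈ D.A := hs ▸ L.pow_mem i hiB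
      exact hiA ((Subgroup.mul_mem_cancel_left _ (pow_mem h1 t)).1 hk')
    · have h1 : i ^ 2 ∈ D.A := hs ▸ L.pow_mem i hiB
      have h2 : ((i ^ k) ^ 2) ^ 2 = 1 := by
        rw [← pow_mul i k 2, mul_comm k 2, pow_mul i 2 k]
        exact hpowA _ h1
      refine (huniq _ h2).resolve_left fun h3 => ?_
      have hik : i ^ k ∉ D.A := by
        intro hk'
        obtain ⟨t, rfl⟩ := hk
        rw [pow_succ, pow_mul] at hk'
        exact hiA ((Subgroup.mul_mem_cancel_left _ (pow_mem h1 t)).1 hk')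
      rcases huniq _ h3 with h4 | h4
      · exact hik (h4 ▸ one_mem _)
      · exact hik (h4 ▸ hzA)
  -- the element of order three
  obtain ⟨d, hd⟩ := exists_prime_orderOf_dvd_card' (G := G) 3
    (by rw [← Subgroup.card_mul_index L.B, hB]; exact dvd_mul_left _ _)
  have hd3 : d ^ 3 = 1 := hd ▸ pow_orderOf_eq_one d
  have hBcard : Nat.card L.B = 8 * k := by
    rw [← Subgroup.card_mul_index (D.A.subgroupOf L.B),
      Nat.card_congr (Subgroup.subgroupOfEquivOfLe L.A_le).toEquiv, hA,
      show (D.A.subgroupOf L.B).index = D.A.relIndex L.B from rfl, L.relIndex_eq, hs, hn]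
    ring
  have hdB : d ∉ L.B := fun h => by
    have h1 := orderOf_dvd_natCard (⟨d, h⟩ : L.B)
    rw [← Subgroup.orderOf_coe, hd, hBcard] at h1
    exact hk3 ((Nat.Coprime.dvd_mul_left (by norm_num)).1 h1)
  have hfull : L.s ^ L.n = D.m * D.m := by rw [hm2, hs, hn]; rfl
  have hact : L.actLin d ≠ 1 := fun h => hdB (L.mem_B_of_actLin_eq_one hR hfull (hC ▸ Subgroup.mem_top d) h)
  -- no fixed point on the layer
  set τ : L.Quo →* L.Quo := L.act d with hτ
  have hτ3 : ∀ w, τ (τ (τ w)) = w := fun w => by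
    have h1 : L.actLin d ^ 3 = 1 := by rw [← map_pow, hd3, map_one]
    exact congrArg Additive.toMul (LinearMap.congr_fun h1 (Additive.ofMul w))
  have hτinj : Function.Injective τ := fun a b h => by rw [← hτ3 a, ← hτ3 b, h]
  have hcases : ∀ u v : L.Quo, u ≠ 1 → v ≠ 1 → u ≠ v → ∀ w : L.Quo, w = 1 ∨ w = u ∨ w = v ∨ w = u * v := by
    intro u v hu hv huv w
    by_contra! h
    obtain ⟨hw1, hwu, hwv, hwuv⟩ := h
    have huv1 : u * v ≠ 1 := fun e => huv (by
      have h5 := L.quo_pow v
      rw [hs, sq] at h5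
      exact (eq_inv_of_mul_eq_one_left e).trans (inv_eq_of_mul_eq_one_left h5))
    haveI := Fintype.ofFinite L.Quo
    have h1 : ({1, u, v, u * v, w} : Finset L.Quo).card ≤ 4 := by
      rw [← hcard4, Nat.card_eq_fintype_card]; exact Finset.card_le_univ _
    rw [Finset.card_insert_of_notMem (by simp [hu.symm, hv.symm, huv1.symm, hw1.symm]),
      Finset.card_insert_of_notMem (by simp [huv, hwu.symm, hv]),
      Finset.card_insert_of_notMem (by simp [hwv.symm, hu]),
      Finset.card_insert_of_notMem (by simp [hwuv.symm]), Finset.card_singleton] at h1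
    omega
  have hfix : ∀ w : L.Quo, τ w = w → w = 1 := by
    intro u hu
    by_contra hu1
    refine hact (LinearMap.ext fun w => Additive.toMul.injective ?_)
    change τ w.toMul = w.toMul
    by_contra hv
    have hv1 : w.toMul ≠ 1 := fun e => hv (by rw [e, map_one])
    have huv : u ≠ w.toMul := fun e => hv (e ▸ hu)
    rcases hcases u w.toMul hu1 hv1 huv (τ w.toMul) with h | h | h | h
    · exact hv1 (hτinj (h.trans (map_one τ).symm))
    · exact huv (hτinj (hu.trans h.symm))
    · exact hv h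
    · have h2 : τ (τ w.toMul) = w.toMul := by
        have h5 := L.quo_pow u
        rw [hs, sq] at h5
        rw [h, map_mul, hu, h, ← mul_assoc, h5, one_mul]
      have h3 := hτ3 w.toMul
      rw [h2] at h3
      exact hv h3
  set j := d * i * d⁻¹ with hj
  have hjB : j ∈ L.B := L.normal.conj_mem i hiB d
  set ib : L.Quo := ((⟨i, hiB⟩ : L.B) : L.Quo) with hib
  set jb : L.Quo := ((⟨j, hjB⟩ : L.B) : L.Quo) with hjb
  have hi1 : ib ≠ 1 := fun e => hiA (Subgroup.mem_subgroupOf.1 ((QuotientGroup.eq_one_iff _).1 e))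
  have hτi : τ ib = jb := congrArg QuotientGroup.mk (Subtype.ext (MulAut.conjNormal_apply d _))
  have hij : ib ≠ jb := fun e => hi1 (hfix _ (hτi.trans e.symm))
  have hj1 : jb ≠ 1 := fun e => hi1 (hτinj (hτi.trans (e.trans (map_one τ).symm)))
  have hk1 : τ jb = ib * jb := by
    rcases hcases ib jb hi1 hj1 hij (τ jb) with h | h | h | h
    · exact absurd (hτinj (h.trans (map_one τ).symm)) hj1
    · exfalso
      have h2 := hτ3 ib
      rw [hτi, h, hτi] at h2
      exact hij h2.symm
    · exact absurd (hfix _ h) hj1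
    · exact h
  have hzc := hcent hzA
  have hj2 : j ^ 2 = z := by rw [hj, conj_pow, hi2, ← (hzc d).eq, mul_inv_cancel_right]
  have hi4 : i ^ 4 = 1 := by rw [show 4 = 2 * 2 from rfl, pow_mul, hi2, ← hz, pow_orderOf_eq_one]
  have hinv : j * i * j⁻¹ = i⁻¹ := by
    have hc : ⁅j, i⁆ ∈ D.A := L.comm_mem _ hjB _ hiB
    have h1 : j * i * j⁻¹ = ⁅j, i⁆ * i := by rw [commutatorElement_def]; group
    have h2 : ⁅j, i⁆ ^ 2 = 1 := by
      have h3 := congrArg (· ^ 2) h1
      beta_reduce at h3
      rw [conj_pow, (hcent hc i).mul_pow, hi2, ← (hzc j).eq, mul_inv_cancel_right] at h3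
      exact mul_eq_right.1 h3.symm
    have hne : ⁅j, i⁆ ≠ 1 := by
      intro e
      have hcij : Commute j i := commutatorElement_eq_one_iff_mul_comm.1 e
      refine hiA (L.ker i hiB fun b hb => ?_)
      have hkey : ∀ (c : G) (hc' : c ∈ L.B), Commute c i →
          ((⟨b, hb⟩ : L.B) : L.Quo) = ((⟨c, hc'⟩ : L.B) : L.Quo) → Commute b i := by
        intro c hc' hci he
        rw [QuotientGroup.eq, Subgroup.mem_subgroupOf] at he
        have h5 : Commute (b⁻¹ * c) i := hcent he i
        have h6 : b = c * (b⁻¹ * c)⁻¹ := by group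
        rw [h6]
        exact hci.mul_left h5.inv_left
      rcases hcases ib jb hi1 hj1 hij ((⟨b, hb⟩ : L.B) : L.Quo) with h | h | h | h
      · exact hkey 1 (one_mem _) (Commute.one_left i) (h.trans (QuotientGroup.mk_one _).symm)
      · exact hkey i hiB (Commute.refl i) h
      · exact hkey j hjB hcij h
      · exact hkey (i * j) (mul_mem hiB hjB) ((Commute.refl i).mul_left hcij) h
    rw [h1, (huniq _ h2).resolve_left hne, ← hi2]
    refine eq_inv_of_mul_eq_one_left ?_
    rw [← pow_succ, ← pow_succ]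
    exact hi4
  have hmem : i * j * (d * j * d⁻¹)⁻¹ ∈ D.A := by
    have h1 : ((⟨d * j * d⁻¹, L.normal.conj_mem j hjB d⟩ : L.B) : L.Quo) =
        ((⟨i * j, mul_mem hiB hjB⟩ : L.B) : L.Quo) :=
      (congrArg QuotientGroup.mk (Subtype.ext (MulAut.conjNormal_apply d
        (⟨j, hjB⟩ : L.B)).symm)).trans hk1
    rw [QuotientGroup.eq, Subgroup.mem_subgroupOf] at h1
    have h2 := D.normal.conj_mem _ h1 (d * j * d⁻¹)
    rw [Subgroup.coe_mul, InvMemClass.coe_inv] at h2
    rwa [show (d * j * d⁻¹) * ((d * j * d⁻¹)⁻¹ * (i * j)) * (d * j * d⁻¹)⁻¹ =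
      i * j * (d * j * d⁻¹)⁻¹ by group] at h2
  set a := i * j * (d * j * d⁻¹)⁻¹ with ha
  have ha2 : a ^ 2 = 1 := by
    have h1 : i * j = a * (d * j * d⁻¹) := by rw [ha]; group
    have h2 := congrArg (· ^ 2) h1
    beta_reduce at h2
    rw [(hcent hmem _).mul_pow, conj_pow, hj2, ← (hzc d).eq, mul_inv_cancel_right] at h2
    have h3 : (i * j) ^ 2 = z := by
      calc (i * j) ^ 2 = i * (j * i * j⁻¹) * j ^ 2 := by rw [sq, sq]; group
        _ = z := by rw [hinv, mul_inv_cancel, one_mul, hj2]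
    rw [h3] at h2
    exact mul_eq_right.1 h2.symm
  -- choose the orientation
  obtain ⟨i', j', hi'B, hj'B, hi'A, hrel⟩ : ∃ i' j' : G, i' ∈ L.B ∧ j' ∈ L.B ∧ i' ∉ D.A ∧
      Transfer.SLTwoThreeRel i' j' d := by
    rcases huniq a ha2 with h | h
    · exact ⟨i, j, hiB, hjB, hiA, hi4, hi2.trans hj2.symm, hinv, hd3, rfl,
        (mul_inv_eq_one.1 (ha ▸ h)).symm⟩
    · have h1 : d * j * d⁻¹ = z⁻¹ * (i * j) := by
        rw [← h, ha]; group
      refine ⟨i⁻¹, j⁻¹, inv_mem hiB, inv_mem hjB, fun e => hiA (inv_inv i ▸ inv_mem e), ?_, ?_, ?_, hd3, ?_, ?_⟩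
      · rw [inv_pow, hi4, inv_one]
      · rw [inv_pow, inv_pow, hi2, hj2]
      · have h2 : j⁻¹ * i * j = i⁻¹ := by
          have h3 := congrArg (fun y => j⁻¹ * y * j) hinv
          beta_reduce at h3
          rw [show j⁻¹ * (j * i * j⁻¹) * j = i by group] at h3
          conv_rhs => rw [h3]
          group
        calc j⁻¹ * i⁻¹ * (j⁻¹)⁻¹ = (j⁻¹ * i * j)⁻¹ := by group
          _ = (i⁻¹)⁻¹ := by rw [h2]
      · rw [hj]; group
      · have h3 : j * i = i⁻¹ * j := by rw [← hinv]; group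
        have h4 : z * i⁻¹ = i := by rw [← hi2]; group
        have h5 : Commute z (j * i) := hzc _
        calc d * j⁻¹ * d⁻¹ = (d * j * d⁻¹)⁻¹ := by group
          _ = (i * j)⁻¹ * z := by rw [h1]; group
          _ = (z⁻¹ * (i * j))⁻¹ := by group
          _ = (j * i)⁻¹ := by
            congr 1
            rw [h3, show z⁻¹ * (i * j) = (z⁻¹ * i) * j by group]
            congr 1
            rw [← hi2]; group
          _ = i⁻¹ * j⁻¹ := by group
  -- its size
  set H : Subgroup G := Subgroup.closure {i', j', d} with hH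
  have hle24 : Nat.card H ≤ 24 := hrel.card_closure_le
  have hi'H : i' ∈ H := Subgroup.subset_closure (Or.inl rfl)
  have hj'H : j' ∈ H := Subgroup.subset_closure (Or.inr (Or.inl rfl))
  have hdH : d ∈ H := Subgroup.subset_closure (Or.inr (Or.inr rfl))
  have h8 : 8 ∣ Nat.card H := by
    let S : Subgroup G := H ⊓ L.B
    let f : S →* L.Quo := (QuotientGroup.mk' _).comp (Subgroup.inclusion (inf_le_right : S ≤ L.B))
    set u : L.Quo := ((⟨i', hi'B⟩ : L.B) : L.Quo)
    have hu : u ∈ f.range := ⟨⟨i', Subgroup.mem_inf.2 ⟨hi'H, hi'B⟩⟩, rfl⟩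
    have hv : τ u ∈ f.range := by
      refine ⟨⟨d * i' * d⁻¹, Subgroup.mem_inf.2
        ⟨mul_mem (mul_mem hdH hi'H) (inv_mem hdH), L.normal.conj_mem _ hi'B d⟩⟩, ?_⟩
      exact congrArg QuotientGroup.mk (Subtype.ext (MulAut.conjNormal_apply d (⟨i', hi'B⟩ : L.B)).symm)
    have hu1 : u ≠ 1 := fun e => hi'A (Subgroup.mem_subgroupOf.1 ((QuotientGroup.eq_one_iff _).1 e))
    have hsurj : f.range = ⊤ := (Subgroup.eq_top_iff' _).2 fun w => by
      rcases hcases u (τ u) hu1 (fun e => hu1 (hτinj (e.trans (map_one τ).symm)))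
          (fun e => hu1 (hfix _ e.symm)) w with h | h | h | h <;> rw [h]
      · exact one_mem _
      · exact hu
      · exact hv
      · exact mul_mem hu hv
    have hzS : z ∈ S := by
      have h1 : i' ^ 2 ∈ D.A := hs ▸ L.pow_mem i' hi'B
      have h2 : (i' ^ 2) ^ 2 = 1 := by rw [← pow_mul]; exact hrel.i4
      refine Subgroup.mem_inf.2 ⟨?_, L.A_le hzA⟩
      rcases huniq _ h2 with h | h
      · exact absurd (huniq i' h) (by
          rintro (e | e)
          · exact hi'A (e ▸ one_mem _)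
          · exact hi'A (e ▸ hzA))
      · exact h ▸ pow_mem hi'H 2
    have h2k : 2 ∣ Nat.card f.ker := by
      have hzk : (⟨z, hzS⟩ : S) ∈ f.ker := by
        refine MonoidHom.mem_ker.2 ?_
        exact (QuotientGroup.eq_one_iff _).2 (Subgroup.mem_subgroupOf.2 hzA)
      have h1 := orderOf_dvd_natCard (⟨⟨z, hzS⟩, hzk⟩ : f.ker)
      rwa [← Subgroup.orderOf_coe, ← Subgroup.orderOf_coe, hz] at h1
    refine Dvd.dvd.trans ?_ (Subgroup.card_dvd_of_le (inf_le_left : S ≤ H))
    rw [← Subgroup.card_mul_index f.ker, Subgroup.index_ker, hsurj, Subgroup.card_top, hcard4]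
    exact Nat.mul_dvd_mul_right h2k 4
  have h3 : 3 ∣ Nat.card H := by
    have h1 := orderOf_dvd_natCard (⟨d, hdH⟩ : H)
    rwa [← Subgroup.orderOf_coe, hd] at h1
  have h24 : Nat.card H = 24 := le_antisymm hle24
    (Nat.le_of_dvd Nat.card_pos (Nat.Coprime.mul_dvd_of_dvd_of_dvd (by norm_num : Nat.Coprime 8 3) h8 h3))
  refine ⟨H, h24, Transfer.SLTwoThreeRel.mulEquiv_SL (i := (⟨i', hi'H⟩ : H)) (j := ⟨j', hj'H⟩)
    (d := ⟨d, hdH⟩) ⟨Subtype.ext hrel.i4, Subtype.ext hrel.sq, Subtype.ext hrel.inv,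
      Subtype.ext hrel.d3, Subtype.ext hrel.di, Subtype.ext hrel.dj⟩ ?_ h24.ge⟩
  rw [eq_top_iff, ← Subgroup.closure_closure_coe_preimage (k := ({i', j', d} : Set G))]
  refine Subgroup.closure_mono ?_
  rintro ⟨y, hy⟩ (h | h | h)
  · exact Or.inl (Subtype.ext h)
  · exact Or.inr (Or.inl (Subtype.ext h))
  · exact Or.inr (Or.inr (Subtype.ext h))

end Frame

end CfsgLib.Recog.TransLinear
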