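import Mathlib

/-!
There are two primes in `(m, 2 m]` for `m ≥ 6`, by the argument of Bertrand's postulate.
-/

set_option autoImplicit false

namespace CfsgLib.Recog

open Nat

theorem three_mul_add_two_sq_lt {L : ℕ} (hL : 12 ≤ L) : (3 * L + 2) ^ 2 < 2 ^ (L - 1) := by
  induction L, hL using Nat.le_induction with
  | base => norm_num
  | succ L hL ih =>
    rw [show L + 1 - 1 = (L - 1) + 1 by omega, pow_succ 2]
    nlinarith

theorem log_sqrt_bound {m : ℕ} (hm : 1024 ≤ m) :
    3 * ((Nat.log 2 (2 * m) + 1) * (sqrt (2 * m) + 2)) ≤ 2 * m := by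
  set L := Nat.log 2 (2 * m) + 1 with hL
  set s := sqrt (2 * m) with hs
  have h1 : 2 ^ (L - 1) ≤ 2 * m := by
    rw [hL, Nat.add_sub_cancel]
    exact Nat.pow_log_le_self 2 (by omega)
  have h12 : 12 ≤ L := by
    have : 11 ≤ Nat.log 2 (2 * m) :=
      Nat.le_log_of_pow_le (by norm_num) (by norm_num; omega)
    omega
  have h2 : 3 * L + 2 ≤ s := by
    by_contra h
    have h3 : 2 * m < (3 * L + 2) ^ 2 := by
      rw [hs, not_le, Nat.sqrt_lt'] at h
      exact h
    have := three_mul_add_two_sq_lt h12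
    omega
  have h3 : s * s ≤ 2 * m := Nat.sqrt_le _
  obtain ⟨u, hu⟩ := Nat.exists_eq_add_of_le h2
  rw [hu] at h3 ⊢
  nlinarith

/-- With at most one prime in `(n, 2 n]` the central binomial coefficient is small. -/
theorem centralBinom_le_of_one_prime (n q : ℕ) (n_large : 2 < n)
    (hq : ∀ p : ℕ, p.Prime → n < p → p ≤ 2 * n → p = q) :
    centralBinom n ≤ (2 * n) ^ (sqrt (2 * n) + 1) * 4 ^ (2 * n / 3) := by
  classical
  have n2_pos : 1 ≤ 2 * n := by omega
  set f := fun x => x ^ n.centralBinom.factorization x with hf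
  have hfle : ∀ p, f p ≤ 2 * n := fun p => pow_factorization_choose_le (by omega)
  set A := (Finset.Icc 1 (sqrt (2 * n))) with hA
  set B := (Finset.range (2 * n / 3 + 1)).filter Nat.Prime with hB
  set S := (Finset.range (2 * n + 1)).filter Nat.Prime with hS
  have h1 : centralBinom n = ∏ p ∈ S, f p := by
    conv_lhs => rw [← n.prod_pow_factorization_centralBinom]
    refine (Finset.prod_filter_of_ne fun p _ h => ?_).symm
    contrapose h
    rw [factorization_eq_zero_of_not_prime n.centralBinom h, _root_.pow_zero]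
  rw [h1, ← Finset.prod_filter_mul_prod_filter_not S (· ≤ sqrt (2 * n))]
  have hsmall : ∏ p ∈ S.filter (· ≤ sqrt (2 * n)), f p ≤ (2 * n) ^ sqrt (2 * n) := by
    refine (Finset.prod_le_prod' fun p _ => hfle p).trans ?_
    rw [Finset.prod_const]
    refine Nat.pow_le_pow_right n2_pos ?_
    have : A.card = sqrt (2 * n) := by rw [hA, card_Icc, Nat.add_sub_cancel]
    refine le_of_le_of_eq (Finset.card_le_card fun x hx => ?_) this
    obtain ⟨h1, h2⟩ := Finset.mem_filter.1 hx
    exact Finset.mem_Icc.2 ⟨(Finset.mem_filter.1 h1).2.one_lt.le, h2⟩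
  have hlarge : ∏ p ∈ S.filter (fun p => ¬ p ≤ sqrt (2 * n)), f p ≤
      4 ^ (2 * n / 3) * (2 * n) := by
    set T := S.filter (fun p => ¬ p ≤ sqrt (2 * n)) with hT
    rw [← Finset.prod_filter_mul_prod_filter_not T (· ≤ 2 * n / 3)]
    refine Nat.mul_le_mul ?_ ?_
    · refine le_trans ?_ (primorial_le_four_pow (2 * n / 3))
      refine (Finset.prod_le_prod' fun p hp => (?_ : f p ≤ p)).trans ?_
      · obtain ⟨hp1, -⟩ := Finset.mem_filter.1 hp
        obtain ⟨hp2, hp3⟩ := Finset.mem_filter.1 hp1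
        have hpp : p.Prime := (Finset.mem_filter.1 hp2).2
        refine (Nat.pow_le_pow_right hpp.one_lt.le ?_).trans (pow_one p).le
        exact Nat.factorization_choose_le_one (sqrt_lt'.mp <| not_le.1 hp3)
      · refine Finset.prod_le_prod_of_subset_of_one_le' (fun p hp => ?_) ?_
        · obtain ⟨hp1, hp4⟩ := Finset.mem_filter.1 hp
          obtain ⟨hp2, -⟩ := Finset.mem_filter.1 hp1
          exact Finset.mem_filter.2
            ⟨Finset.mem_range.2 (by omega), (Finset.mem_filter.1 hp2).2⟩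
        · exact fun p hp _ => (Finset.mem_filter.1 hp).2.one_lt.le
    · -- beyond `2 n / 3` only `q` contributes
      have key : ∀ p ∈ T.filter (fun p => ¬ p ≤ 2 * n / 3), f p ≠ 1 → p = q := by
        intro p hp hne
        obtain ⟨hp1, hp4⟩ := Finset.mem_filter.1 hp
        obtain ⟨hp2, -⟩ := Finset.mem_filter.1 hp1
        obtain ⟨hr, hpp⟩ := Finset.mem_filter.1 hp2
        rw [Finset.mem_range] at hr
        refine hq p hpp ?_ (by omega)
        by_contra hle
        apply hne
        dsimp only [f]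
        rw [factorization_centralBinom_of_two_mul_self_lt_three_mul n_large (by omega) (by omega),
          _root_.pow_zero]
      by_cases hqm : q ∈ T.filter (fun p => ¬ p ≤ 2 * n / 3)
      · rw [Finset.prod_eq_single q (fun p hp hne => by_contra fun h => hne (key p hp h))
          (fun h => absurd hqm h)]
        exact hfle q
      · rw [Finset.prod_eq_one fun p hp => by_contra fun h => hqm (key p hp h ▸ hp)]
        omega
  calc _ ≤ (2 * n) ^ sqrt (2 * n) * (4 ^ (2 * n / 3) * (2 * n)) := Nat.mul_le_mul hsmall hlarge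
    _ = _ := by rw [pow_succ]; ring

theorem two_primes_of_large {m : ℕ} (hm : 1024 ≤ m) :
    ∃ p q : ℕ, p.Prime ∧ q.Prime ∧ m < p ∧ p < q ∧ q ≤ 2 * m := by
  obtain ⟨q, hq1, hq2, hq3⟩ := Nat.exists_prime_lt_and_le_two_mul m (by omega)
  by_contra hno
  push_neg at hno
  have hq : ∀ p : ℕ, p.Prime → m < p → p ≤ 2 * m → p = q := by
    intro p hp h1 h2
    rcases Nat.lt_trichotomy p q with h | h | h
    · have := hno p q hp hq1 h1 h; omega
    · exact h
    · have := hno q p hq1 hp hq2 h; omega
  have h1 := centralBinom_le_of_one_prime m q (by omega) hq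
  have h2 := Nat.four_pow_lt_mul_centralBinom m (by omega)
  set L := Nat.log 2 (2 * m) + 1 with hL
  have h3 : 2 * m ≤ 2 ^ L := (Nat.lt_pow_succ_log_self (by norm_num) _).le
  have h4 : m * centralBinom m ≤ 2 ^ (L * (sqrt (2 * m) + 2) + 2 * (2 * m / 3)) := by
    calc m * centralBinom m ≤ (2 * m) * ((2 * m) ^ (sqrt (2 * m) + 1) * 4 ^ (2 * m / 3)) :=
          Nat.mul_le_mul (by omega) h1
      _ = (2 * m) ^ (sqrt (2 * m) + 2) * 2 ^ (2 * (2 * m / 3)) := by
          rw [pow_mul 2 2, ← mul_assoc, ← pow_succ']; norm_num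
      _ ≤ (2 ^ L) ^ (sqrt (2 * m) + 2) * 2 ^ (2 * (2 * m / 3)) :=
          Nat.mul_le_mul_right _ (Nat.pow_le_pow_left h3 _)
      _ = _ := by rw [← pow_mul, ← pow_add]
  have h5 : L * (sqrt (2 * m) + 2) + 2 * (2 * m / 3) ≤ 2 * m := by
    have := log_sqrt_bound hm
    rw [← hL] at this
    omega
  have h6 : m * centralBinom m ≤ 4 ^ m := by
    rw [show (4 : ℕ) ^ m = 2 ^ (2 * m) by rw [pow_mul]; norm_num]
    exact h4.trans (Nat.pow_le_pow_right (by norm_num) h5)
  omega

theorem two_primes_step {m p q : ℕ} (b : ℕ) (hp : p.Prime) (hq : q.Prime) (hpq : p < q)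
    (hb : q ≤ 2 * b) (hm : m < p)
    (H : m < b → ∃ p q : ℕ, p.Prime ∧ q.Prime ∧ m < p ∧ p < q ∧ q ≤ 2 * m) :
    ∃ p q : ℕ, p.Prime ∧ q.Prime ∧ m < p ∧ p < q ∧ q ≤ 2 * m := by
  by_cases h : m < b
  · exact H h
  · exact ⟨p, q, hp, hq, hm, hpq, by omega⟩

/-- Two primes in `(m, 2 m]`. -/
theorem exists_two_primes {m : ℕ} (hm : 6 ≤ m) :
    ∃ p q : ℕ, p.Prime ∧ q.Prime ∧ m < p ∧ p < q ∧ q ≤ 2 * m := by
  rcases Nat.lt_or_ge m 1024 with h | h
  swap
  · exact two_primes_of_large h
  refine two_primes_step (p := 1031) (q := 1033) 517 (by norm_num) (by norm_num) (by norm_num)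
    (by norm_num) (by omega) fun h => ?_
  refine two_primes_step (p := 521) (q := 523) 262 (by norm_num) (by norm_num) (by norm_num)
    (by norm_num) (by omega) fun h => ?_
  refine two_primes_step (p := 269) (q := 271) 136 (by norm_num) (by norm_num) (by norm_num)
    (by norm_num) (by omega) fun h => ?_
  refine two_primes_step (p := 137) (q := 139) 70 (by norm_num) (by norm_num) (by norm_num)
    (by norm_num) (by omega) fun h => ?_
  refine two_primes_step (p := 71) (q := 73) 37 (by norm_num) (by norm_num) (by norm_num)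
    (by norm_num) (by omega) fun h => ?_
  refine two_primes_step (p := 37) (q := 41) 21 (by norm_num) (by norm_num) (by norm_num)
    (by norm_num) (by omega) fun h => ?_
  refine two_primes_step (p := 23) (q := 29) 15 (by norm_num) (by norm_num) (by norm_num)
    (by norm_num) (by omega) fun h => ?_
  refine two_primes_step (p := 17) (q := 19) 10 (by norm_num) (by norm_num) (by norm_num)
    (by norm_num) (by omega) fun h => ?_
  refine two_primes_step (p := 11) (q := 13) 7 (by norm_num) (by norm_num) (by norm_num)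
    (by norm_num) (by omega) fun h => ?_
  exact ⟨7, 11, by norm_num, by norm_num, by omega, by norm_num, by omega⟩

end CfsgLib.Recog
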