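import Cfsg.Agent.Lib.Perm.BurnsideTwoTransitive

/-!
Doubly transitive groups of degree congruent to `2` modulo `4`: the minimal normal subgroup is
doubly transitive. The fixed point set of a Sylow `2`-subgroup of a point stabiliser of the minimal
normal subgroup has exactly two points.
-/

set_option autoImplicit false
set_option maxHeartbeats 400000

open MulAction
open scoped Pointwise

namespace CfsgLib.Recog.TwoModFour

/-- Two `2`-subgroups of maximal order of `H` are conjugate in `H`. -/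
theorem exists_conj_le {G : Type*} [Group G] [Finite G] {H P P' : Subgroup G} {k : ℕ}
    (hP : P ≤ H) (hP' : P' ≤ H) (hc : Nat.card P = 2 ^ k) (hc' : Nat.card P' = 2 ^ k)
    (hmax : ¬ 2 ^ (k + 1) ∣ Nat.card H) :
    ∃ h ∈ H, ∀ x ∈ P, h * x * h⁻¹ ∈ P' := by
  have : Fact (Nat.Prime 2) := ⟨Nat.prime_two⟩
  have hk : (Nat.card H).factorization 2 = k := by
    refine le_antisymm ?_ ((Nat.prime_two.pow_dvd_iff_le_factorization Nat.card_pos.ne').1
      (hc ▸ Subgroup.card_dvd_of_le hP))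
    by_contra hlt
    exact hmax ((Nat.prime_two.pow_dvd_iff_le_factorization Nat.card_pos.ne').2 (by omega))
  have hcard : ∀ Q : Subgroup G, Q ≤ H → Nat.card Q = 2 ^ k →
      Nat.card (Q.subgroupOf H) = 2 ^ (Nat.card H).factorization 2 := fun Q hQ hQc => by
    rw [Nat.card_congr (Subgroup.subgroupOfEquivOfLe hQ).toEquiv, hk, hQc]
  obtain ⟨h, hh⟩ := MulAction.exists_smul_eq H (Sylow.ofCard _ (hcard P hP hc))
    (Sylow.ofCard _ (hcard P' hP' hc'))
  refine ⟨h, h.2, fun x hx => ?_⟩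
  have hmem : h * ⟨x, hP hx⟩ * h⁻¹ ∈ P'.subgroupOf H := by
    have h1 : MulAut.conj h • (⟨x, hP hx⟩ : H) ∈
        MulAut.conj h • ((Sylow.ofCard _ (hcard P hP hc) : Sylow 2 H) : Subgroup H) := by
      exact Subgroup.smul_mem_pointwise_smul _ _ _ hx
    rw [← Sylow.coe_subgroup_smul] at h1
    rw [hh] at h1
    exact h1
  exact hmem

theorem mem_normalizer_of_conj_le {G : Type*} [Group G] [Finite G] {T : Subgroup G} {g : G}
    (h : ∀ x ∈ T, g * x * g⁻¹ ∈ T) : g ∈ Subgroup.normalizer (T : Set G) := by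
  have hle : T.map (MulAut.conj g).toMonoidHom ≤ T := by
    rintro _ ⟨x, hx, rfl⟩
    exact h x hx
  have heq := Subgroup.eq_of_le_of_card_ge hle
    (le_of_eq (Subgroup.card_map_of_injective (MulEquiv.injective _)).symm)
  refine Subgroup.mem_normalizer_iff.2 fun x => ⟨h x, fun hx => ?_⟩
  rw [← heq] at hx
  obtain ⟨y, hy, he⟩ := hx
  exact (MulEquiv.injective (MulAut.conj g) he : y = x) ▸ hy

/-- A group whose order is divisible by `2` but not by `4` has a subgroup of odd order containing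
all elements of odd order, of index two. -/
theorem exists_odd_kernel {L : Type*} [Group L] [Finite L] (h2 : 2 ∣ Nat.card L)
    (h4 : ¬ 4 ∣ Nat.card L) :
    ∃ O : Subgroup L, Odd (Nat.card O) ∧ Nat.card L = 2 * Nat.card O ∧
      ∀ x : L, Odd (orderOf x) → x ∈ O := by
  have : Fact (Nat.Prime 2) := ⟨Nat.prime_two⟩
  let P : Sylow 2 L := Classical.arbitrary _
  have hPc : Nat.card (P : Subgroup L) = 2 := by
    have hle : (Nat.card L).factorization 2 ≤ 1 := by
      by_contra hlt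
      exact h4 ((Nat.prime_two.pow_dvd_iff_le_factorization Nat.card_pos.ne' (k := 2)).2 (by omega))
    have hge := Nat.prime_two.factorization_pos_of_dvd Nat.card_pos.ne' h2
    rw [Sylow.card_eq_multiplicity, show (Nat.card L).factorization 2 = 1 by omega]
    rfl
  have hmin : (Nat.card L).minFac = 2 := (Nat.minFac_eq_two_iff _).2 h2
  have hcyc : IsCyclic P := isCyclic_of_prime_card hPc
  let f := MonoidHom.transferSylow P (IsCyclic.normalizer_le_centralizer hmin hcyc)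
  have hc := MonoidHom.ker_transferSylow_isComplement' P
    (IsCyclic.normalizer_le_centralizer hmin hcyc)
  refine ⟨f.ker, Nat.not_even_iff_odd.1 fun he =>
    MonoidHom.not_dvd_card_ker_transferSylow P _ (even_iff_two_dvd.1 he), ?_, fun x hx => ?_⟩
  · rw [← hc.card_mul_card, hPc, mul_comm]
  · have h1 : orderOf (f x) ∣ orderOf x := orderOf_map_dvd f x
    have h3 : orderOf (f x) ∣ 2 := (orderOf_dvd_natCard (f x)).trans hPc.dvd
    rw [MonoidHom.mem_ker, ← orderOf_eq_one_iff]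
    refine (Nat.dvd_prime Nat.prime_two).1 h3 |>.resolve_right fun e => ?_
    rw [e] at h1
    exact Nat.not_even_iff_odd.2 hx (even_iff_two_dvd.2 h1)

variable {G : Type*} [Group G] [Finite G] {Ω : Type*} [Fintype Ω] [MulAction G Ω]

theorem card_inf_stabilizer (M : Subgroup G) (hMt : IsPretransitive M Ω) (x : Ω) :
    Nat.card (M ⊓ stabilizer G x : Subgroup G) * Fintype.card Ω = Nat.card M := by
  have e : Nat.card (stabilizer M x) = Nat.card (M ⊓ stabilizer G x : Subgroup G) :=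
    Nat.card_congr
      { toFun := fun m => ⟨m.1.1, Subgroup.mem_inf.2 ⟨m.1.2, m.2⟩⟩
        invFun := fun g => ⟨⟨g.1, (Subgroup.mem_inf.1 g.2).1⟩, (Subgroup.mem_inf.1 g.2).2⟩
        left_inv := fun _ => rfl
        right_inv := fun _ => rfl }
  rw [← e, ← Nat.card_eq_fintype_card, ← index_stabilizer_of_transitive M x,
    Subgroup.card_mul_index]

variable (T : Subgroup G)

/-- The fixed point set of `T`. -/
def fixSet : Set Ω := {x | ∀ t ∈ T, t • x = x}

theorem smul_mem_fixSet {g : G} (hg : g ∈ Subgroup.normalizer (T : Set G)) {x : Ω}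
    (hx : x ∈ fixSet T) : g • x ∈ fixSet T := by
  intro t ht
  have h1 : g⁻¹ * t * g ∈ T := (Subgroup.mem_normalizer_iff''.1 hg t).1 ht
  calc t • g • x = g • (g⁻¹ * t * g) • x := by rw [← mul_smul, ← mul_smul]; congr 1; group
    _ = g • x := by rw [hx _ h1]

/-- The permutation induced by the normalizer of `T` on its fixed point set. -/
def fixHom : Subgroup.normalizer (T : Set G) →* Equiv.Perm (fixSet (Ω := Ω) T) where
  toFun g :=
    { toFun := fun x => ⟨(g : G) • (x : Ω), smul_mem_fixSet T g.2 x.2⟩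
      invFun := fun x => ⟨(g⁻¹ : G) • (x : Ω), smul_mem_fixSet T (inv_mem g.2) x.2⟩
      left_inv := fun x => Subtype.ext (inv_smul_smul _ _)
      right_inv := fun x => Subtype.ext (smul_inv_smul _ _) }
  map_one' := Equiv.ext fun x => Subtype.ext (one_smul G (x : Ω))
  map_mul' g h := Equiv.ext fun x => Subtype.ext (mul_smul (g : G) (h : G) (x : Ω))

/-- In a doubly transitive group of degree `2` modulo `4` a transitive normal subgroup has
transitive point stabilisers on the remaining points. -/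
theorem transitive_stabilizer (h2 : IsMultiplyPretransitive G Ω 2) (hn : Fintype.card Ω % 4 = 2)
    (M : Subgroup G) [M.Normal] (hMt : IsPretransitive M Ω) (a : Ω) :
    ∀ b c : Ω, b ≠ a → c ≠ a → ∃ m ∈ M, m • a = a ∧ m • b = c := by
  classical
  have : Fact (Nat.Prime 2) := ⟨Nat.prime_two⟩
  have hn0 : 0 < Fintype.card Ω := by omega
  set m := Nat.card (M ⊓ stabilizer G a : Subgroup G) with hm
  have hm0 : m ≠ 0 := Nat.card_pos.ne'
  have hmx : ∀ x : Ω, Nat.card (M ⊓ stabilizer G x : Subgroup G) = m := fun x =>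
    Nat.eq_of_mul_eq_mul_right hn0
      ((card_inf_stabilizer M hMt x).trans (card_inf_stabilizer M hMt a).symm)
  set k := m.factorization 2 with hk
  have hkmax : ¬ 2 ^ (k + 1) ∣ m := Nat.pow_succ_factorization_not_dvd hm0 Nat.prime_two
  have hMmax : ¬ 2 ^ (k + 2) ∣ Nat.card M := by
    intro h
    rw [← card_inf_stabilizer M hMt a] at h
    obtain ⟨o, ho⟩ : ∃ o, Fintype.card Ω = 2 * o := ⟨_, (Nat.mul_div_cancel' (by omega)).symm⟩
    rw [← hm, ho, ← mul_assoc] at h
    have hco : Nat.Coprime (2 ^ (k + 2)) o :=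
      Nat.Coprime.pow_left _ ((Nat.Prime.coprime_iff_not_dvd Nat.prime_two).2 (by omega))
    have h1 := hco.dvd_of_dvd_mul_right h
    rw [pow_succ] at h1
    exact hkmax (Nat.dvd_of_mul_dvd_mul_right (by omega) h1)
  obtain ⟨T, hTle, hTc⟩ : ∃ T : Subgroup G, T ≤ M ⊓ stabilizer G a ∧ Nat.card T = 2 ^ k := by
    obtain ⟨P, hP⟩ := Sylow.exists_subgroup_card_pow_prime (G := (M ⊓ stabilizer G a : Subgroup G))
      2 (Nat.ordProj_dvd m 2)
    exact ⟨P.map (M ⊓ stabilizer G a).subtype, Subgroup.map_subtype_le _,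
      (Subgroup.card_map_of_injective (Subgroup.subtype_injective _)).trans hP⟩
  have hTM : T ≤ M := hTle.trans inf_le_left
  set Φ : Set Ω := fixSet T with hΦ
  have haΦ : a ∈ Φ := fun t ht => (Subgroup.mem_inf.1 (hTle ht)).2
  have hTx : ∀ {x : Ω}, x ∈ Φ → T ≤ M ⊓ stabilizer G x := fun hx t ht =>
    Subgroup.mem_inf.2 ⟨hTM ht, hx t ht⟩
  -- the image of `T` under conjugation
  let T' : G → Subgroup G := fun g => T.map (MulAut.conj g).toMonoidHom
  have hT'c : ∀ g, Nat.card (T' g) = 2 ^ k := fun g =>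
    (Subgroup.card_map_of_injective (MulEquiv.injective _)).trans hTc
  have hT'le : ∀ (g : G) {x : Ω}, x ∈ Φ → T' g ≤ M ⊓ stabilizer G (g • x) := by
    rintro g x hx _ ⟨t, ht, rfl⟩
    refine Subgroup.mem_inf.2 ⟨Subgroup.Normal.conj_mem inferInstance t (hTM ht) g, ?_⟩
    rw [mem_stabilizer_iff, MulEquiv.coe_toMonoidHom, MulAut.conj_apply, mul_smul, mul_smul,
      inv_smul_smul, hx t ht]
  have hnorm : ∀ g h : G, (∀ x ∈ T' g, h * x * h⁻¹ ∈ T) →
      h * g ∈ Subgroup.normalizer (T : Set G) := fun g h hh => mem_normalizer_of_conj_le fun x hx => by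
    have h1 := hh (g * x * g⁻¹) ⟨x, hx, rfl⟩
    rwa [show h * g * x * (h * g)⁻¹ = h * (g * x * g⁻¹) * h⁻¹ by group]
  -- the normalizer is doubly transitive on the fixed points
  have hQ2 : ∀ p q u v : Ω, p ∈ Φ → q ∈ Φ → u ∈ Φ → v ∈ Φ → p ≠ q → u ≠ v →
      ∃ g ∈ Subgroup.normalizer (T : Set G), g • p = u ∧ g • q = v := by
    intro p q u v hp hq hu hv hpq huv
    obtain ⟨g, hgp, hgq⟩ := is_two_pretransitive_iff.1 h2 hpq huv
    have hmax : ¬ 2 ^ (k + 1) ∣
        Nat.card ((M ⊓ stabilizer G u) ⊓ (M ⊓ stabilizer G v) : Subgroup G) := fun h =>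
      hkmax ((h.trans (Subgroup.card_dvd_of_le inf_le_left)).trans (hmx u).dvd)
    obtain ⟨h, hh, hconj⟩ := exists_conj_le (P := T' g) (P' := T)
      (le_inf (hgp ▸ hT'le g hp) (hgq ▸ hT'le g hq)) (le_inf (hTx hu) (hTx hv)) (hT'c g) hTc hmax
    obtain ⟨hhu, hhv⟩ := Subgroup.mem_inf.1 hh
    exact ⟨h * g, hnorm g h hconj, by rw [mul_smul, hgp]; exact (Subgroup.mem_inf.1 hhu).2,
      by rw [mul_smul, hgq]; exact (Subgroup.mem_inf.1 hhv).2⟩
  -- the normalizer in `M` is transitive on the fixed points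
  have hRt : ∀ x ∈ Φ, ∃ g ∈ M ⊓ Subgroup.normalizer (T : Set G), g • a = x := by
    intro x hx
    obtain ⟨⟨g, hgM⟩, hga⟩ := hMt.exists_smul_eq a x
    have hga' : g • a = x := hga
    obtain ⟨h, hh, hconj⟩ := exists_conj_le (P := T' g) (P' := T) (hga' ▸ hT'le g haΦ) (hTx hx)
      (hT'c g) hTc (by rw [hmx x]; exact hkmax)
    obtain ⟨hhM, hhx⟩ := Subgroup.mem_inf.1 hh
    exact ⟨h * g, Subgroup.mem_inf.2 ⟨M.mul_mem hhM hgM, hnorm g h hconj⟩,
      by rw [mul_smul, hga']; exact hhx⟩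
  -- parity
  have hΦ2 : 2 ∣ Nat.card Φ := by
    have h1 := IsPGroup.card_modEq_card_fixedPoints (IsPGroup.of_card hTc : IsPGroup 2 T) (α := Ω)
    have h3 : fixedPoints T Ω = Φ := Set.ext fun x =>
      ⟨fun hx t ht => hx ⟨t, ht⟩, fun hx t => hx t t.2⟩
    rw [h3, Nat.card_eq_fintype_card] at h1
    rw [Nat.ModEq] at h1
    omega
  -- exactly two fixed points
  have hcard : Nat.card Φ = 2 := by
    set Q := Subgroup.normalizer (T : Set G)
    set R : Subgroup Q := M.subgroupOf Q with hR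
    set ψ := (fixHom (Ω := Ω) T).comp R.subtype with hψ
    have : IsPretransitive ψ.range Φ := by
      refine MulAction.IsPretransitive.mk fun x y => ?_
      obtain ⟨g, hg, hgx⟩ := hRt x.1 x.2
      obtain ⟨g', hg', hgy⟩ := hRt y.1 y.2
      obtain ⟨hgM, hgQ⟩ := Subgroup.mem_inf.1 hg
      obtain ⟨hgM', hgQ'⟩ := Subgroup.mem_inf.1 hg'
      let r : R := ⟨⟨g' * g⁻¹, Q.mul_mem hgQ' (Q.inv_mem hgQ)⟩, M.mul_mem hgM' (M.inv_mem hgM)⟩
      refine ⟨⟨ψ r, ⟨r, rfl⟩⟩, Subtype.ext ?_⟩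
      change (g' * g⁻¹) • (x : Ω) = y
      rw [mul_smul, ← hgx, inv_smul_smul, hgy]
    have hdvd : Nat.card Φ ∣ Nat.card ψ.range := by
      rw [← index_stabilizer_of_transitive ψ.range (⟨a, haΦ⟩ : Φ)]
      exact Subgroup.index_dvd_card _
    have h4 : ¬ 4 ∣ Nat.card ψ.range := by
      intro h
      have hTk : 2 ^ k ∣ Nat.card ψ.ker := by
        let ι : T →* ψ.ker :=
          { toFun := fun t => ⟨⟨⟨t, Subgroup.le_normalizer t.2⟩, hTM t.2⟩,
              Equiv.ext fun x => Subtype.ext (x.2 t t.2)⟩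
            map_one' := rfl
            map_mul' := fun _ _ => rfl }
        rw [← hTc]
        exact Subgroup.card_dvd_of_injective ι fun s t hst =>
          Subtype.ext (congrArg (fun z : ψ.ker => (((z : R) : Q) : G)) hst)
      refine hMmax ?_
      have h1 : Nat.card R ∣ Nat.card M :=
        Subgroup.card_dvd_of_injective
          ({ toFun := fun r => ⟨r.1.1, r.2⟩, map_one' := rfl, map_mul' := fun _ _ => rfl } : R →* M)
          fun r s hrs => Subtype.ext (Subtype.ext (congrArg (fun z : M => (z : G)) hrs))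
      refine Dvd.dvd.trans ?_ h1
      rw [← Subgroup.card_mul_index ψ.ker, Subgroup.index_ker, pow_add]
      exact mul_dvd_mul hTk (by simpa using h)
    obtain ⟨O, hOodd, hOc, hOmem⟩ := exists_odd_kernel (hΦ2.trans hdvd) h4
    have hO1 : ∀ o ∈ O, ∀ x : Φ, (o : Equiv.Perm Φ) x = x := by
      intro o ho x
      by_contra hne
      have hall : ∀ z : Φ, ∃ o' : O, (o' : ψ.range) • x = z := by
        intro z
        by_cases hz : z = x
        · exact ⟨1, by rw [hz]; exact one_smul _ x⟩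
        obtain ⟨⟨_, ⟨r, rfl⟩⟩, rfl⟩ : ∃ o' : ψ.range, o' = o := ⟨o, rfl⟩
        obtain ⟨q, hq, hqx, hqy⟩ := hQ2 x.1 ((ψ r x : Φ) : Ω) x.1 z.1 x.2 (ψ r x).2 x.2 z.2
          (fun e => hne (Subtype.ext e.symm)) (fun e => hz (Subtype.ext e.symm))
        let r' : R := ⟨⟨q, hq⟩ * r * ⟨q, hq⟩⁻¹,
          (inferInstance : R.Normal).conj_mem _ r.2 ⟨q, hq⟩⟩
        have hcj : ψ r' = fixHom T ⟨q, hq⟩ * ψ r * (fixHom T ⟨q, hq⟩)⁻¹ := by
          simp [hψ, r', map_mul, map_inv]
        have hord : orderOf (⟨ψ r', ⟨r', rfl⟩⟩ : ψ.range) =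
            orderOf (⟨ψ r, ⟨r, rfl⟩⟩ : ψ.range) := by
          rw [← Subgroup.orderOf_coe, ← Subgroup.orderOf_coe]
          change orderOf (ψ r') = orderOf (ψ r)
          rw [hcj]
          exact orderOf_injective (MulAut.conj (fixHom (Ω := Ω) T ⟨q, hq⟩)).toMonoidHom
            (MulEquiv.injective _) (ψ r)
        refine ⟨⟨⟨ψ r', ⟨r', rfl⟩⟩, hOmem _ ?_⟩, Subtype.ext ?_⟩
        · rw [hord]
          have := orderOf_dvd_natCard (⟨_, ho⟩ : O)
          rw [← Subgroup.orderOf_coe] at this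
          exact hOodd.of_dvd_nat this
        · change (q * ((r : Q) : G) * q⁻¹) • (x : Ω) = z
          rw [mul_smul, mul_smul, inv_smul_eq_iff.2 hqx.symm]
          exact hqy
      have : IsPretransitive O Φ :=
        MulAction.IsPretransitive.mk fun y z => by
          obtain ⟨o₁, ho₁⟩ := hall y
          obtain ⟨o₂, ho₂⟩ := hall z
          refine ⟨o₂ * o₁⁻¹, ?_⟩
          change (o₂ * o₁⁻¹) • y = z
          rw [mul_smul, ← ho₁, ← ho₂]
          exact congrArg (o₂ • ·) (inv_smul_smul o₁ x)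
      have hOd : Nat.card Φ ∣ Nat.card O := by
        rw [← index_stabilizer_of_transitive O x]
        exact Subgroup.index_dvd_card _
      exact Nat.not_even_iff_odd.2 hOodd (even_iff_two_dvd.2 (hΦ2.trans hOd))
    have hObot : O = ⊥ := (Subgroup.eq_bot_iff_forall _).2 fun o ho =>
      Subtype.ext (Equiv.ext (hO1 o ho))
    rw [hOc, hObot, Subgroup.card_bot, mul_one] at hdvd
    exact Nat.dvd_antisymm hdvd hΦ2
  -- conclusion
  rw [Nat.card_coe_set_eq, Set.ncard_eq_two] at hcard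
  obtain ⟨u, v, huv, hΦe⟩ := hcard
  obtain ⟨d, hd, hda, hΦad⟩ : ∃ d ∈ Φ, d ≠ a ∧ ∀ x ∈ Φ, x ≠ a → x = d := by
    have ha' := haΦ
    rw [hΦe] at ha'
    rcases ha' with rfl | ha'
    · exact ⟨v, hΦe ▸ Or.inr rfl, huv.symm, fun x hx hxa => (hΦe ▸ hx).resolve_left hxa⟩
    · obtain rfl : a = v := ha'
      exact ⟨u, hΦe ▸ Or.inl rfl, huv, fun x hx hxa => (hΦe ▸ hx).resolve_right hxa⟩
  have key : ∀ c : Ω, c ≠ a → ∃ m ∈ M, m • a = a ∧ m • c = d := by
    intro c hc
    obtain ⟨g, hga, hgd⟩ := is_two_pretransitive_iff.1 h2 (Ne.symm hda) (Ne.symm hc)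
    obtain ⟨h, hh, hconj⟩ := exists_conj_le (P := T' g) (P' := T) (hga ▸ hT'le g haΦ) hTle
      (hT'c g) hTc hkmax
    obtain ⟨hhM, hha⟩ := Subgroup.mem_inf.1 hh
    refine ⟨h, hhM, hha, hΦad _ ?_ fun e => hc (smul_left_cancel h (e.trans hha.symm))⟩
    rw [← hgd, ← mul_smul]
    exact smul_mem_fixSet T (hnorm g h hconj) hd
  intro b c hb hc
  obtain ⟨m₁, hm₁, h1a, h1b⟩ := key b hb
  obtain ⟨m₂, hm₂, h2a, h2c⟩ := key c hc
  exact ⟨m₂⁻¹ * m₁, M.mul_mem (M.inv_mem hm₂) hm₁,
    by rw [mul_smul, h1a, inv_smul_eq_iff, h2a],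
    by rw [mul_smul, h1b, inv_smul_eq_iff, h2c]⟩

theorem exists_minimal_normal_data [FaithfulSMul G Ω] (h2 : IsMultiplyPretransitive G Ω 2)
    (hn : Fintype.card Ω % 4 = 2) (hn2 : 2 < Fintype.card Ω) :
    ∃ M : Subgroup G, M.Normal ∧ M ≠ ⊥ ∧ (∀ N : Subgroup G, N.Normal → N ≠ ⊥ → M ≤ N) ∧
      IsSimpleGroup M ∧ IsMultiplyPretransitive M Ω 2 ∧
      Subgroup.centralizer (M : Set G) = ⊥ := by
  classical
  have hne : (⊤ : Subgroup G) ≠ ⊥ := fun h => by
    obtain ⟨x, y, hxy⟩ := Fintype.exists_pair_of_one_lt_card (show 1 < Fintype.card Ω by omega)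
    obtain ⟨g, hg, -⟩ := is_two_pretransitive_iff.1 h2 hxy hxy.symm
    have : g ∈ (⊥ : Subgroup G) := h ▸ Subgroup.mem_top g
    rw [Subgroup.mem_bot.1 this, one_smul] at hg
    exact hxy hg
  obtain ⟨M, ⟨hMn, hMb⟩, hMmin'⟩ := (wellFounded_lt (α := Subgroup G)).has_min
    {M | M.Normal ∧ M ≠ ⊥} ⟨⊤, inferInstance, hne⟩
  have hmin : ∀ N : Subgroup G, N.Normal → N ≤ M → N = ⊥ ∨ N = M := fun N hN hle => by
    by_contra! h
    exact hMmin' N ⟨hN, h.1⟩ (lt_of_le_of_ne hle h.2)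
  have hMt := CfsgLib.Perm.normal_transitive_of_two_transitive h2 M hMb
  obtain ⟨a₀⟩ : Nonempty Ω := Fintype.card_pos_iff.1 (by omega)
  have hsemi : ∀ (C : Subgroup G), IsPretransitive C Ω →
      (∀ c ∈ C, ∀ g ∈ M, g * c = c * g) → ∀ x : Ω, stabilizer M x = ⊥ := by
    intro C hC hcomm x
    refine (Subgroup.eq_bot_iff_forall _).2 fun g hg => Subtype.ext ?_
    refine eq_of_smul_eq_smul (α := Ω) fun y => ?_
    obtain ⟨⟨c, hc⟩, hcx⟩ := hC.exists_smul_eq x y
    have hcx' : c • x = y := hcx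
    rw [Subgroup.coe_one, one_smul, ← hcx', ← mul_smul, hcomm c hc g g.2, mul_smul,
      show (g : G) • x = x from hg]
  have hnc : ¬ IsMulCommutative M := by
    intro hc
    have hreg := hsemi M hMt fun c hc' g hg =>
      congrArg Subtype.val (mul_comm' (⟨g, hg⟩ : M) ⟨c, hc'⟩)
    have hcard : Nat.card M = Fintype.card Ω := by
      rw [← Nat.card_eq_fintype_card, ← index_stabilizer_of_transitive M a₀, hreg a₀,
        Subgroup.index_bot]
    have : Fact (Nat.Prime 2) := ⟨Nat.prime_two⟩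
    obtain ⟨u, hu⟩ := exists_prime_orderOf_dvd_card' (G := M) 2 (by omega)
    let M₂ : Subgroup G :=
      { carrier := {g | g ∈ M ∧ g ^ 2 = 1}
        one_mem' := ⟨M.one_mem, one_pow 2⟩
        mul_mem' := fun {x y} hx hy => ⟨M.mul_mem hx.1 hy.1, by
          have hxy : Commute x y := congrArg Subtype.val (mul_comm' (⟨x, hx.1⟩ : M) ⟨y, hy.1⟩)
          rw [hxy.mul_pow, hx.2, hy.2, one_mul]⟩
        inv_mem' := fun {x} hx => ⟨M.inv_mem hx.1, by rw [inv_pow, hx.2, inv_one]⟩ }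
    have hM₂n : M₂.Normal := ⟨fun x hx g =>
      ⟨Subgroup.Normal.conj_mem inferInstance x hx.1 g, by rw [conj_pow, hx.2]; group⟩⟩
    rcases hmin M₂ hM₂n (fun x hx => hx.1) with h | h
    · have hu' : (u : G) ∈ M₂ :=
        ⟨u.2, by rw [← SubmonoidClass.coe_pow, ← hu, pow_orderOf_eq_one]; rfl⟩
      rw [h, Subgroup.mem_bot] at hu'
      rw [show u = 1 from Subtype.ext hu', orderOf_one] at hu
      omega
    · have hp : IsPGroup 2 M := fun x => ⟨1, Subtype.ext (by
        have hx : (x : G) ∈ M₂ := h.symm ▸ x.2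
        simpa using hx.2)⟩
      obtain ⟨j, hj⟩ := hp.exists_card_eq
      rcases lt_trichotomy j 1 with hj1 | rfl | hj1
      · obtain rfl : j = 0 := by omega
        omega
      · omega
      · obtain ⟨i, rfl⟩ := Nat.exists_eq_add_of_le hj1
        rw [hcard, pow_add] at hj
        omega
  have hC : Subgroup.centralizer (M : Set G) = ⊥ := by
    by_contra hC
    have hCn : (Subgroup.centralizer (M : Set G)).Normal := Subgroup.normal_centralizer
    have hCt := CfsgLib.Perm.normal_transitive_of_two_transitive h2 _ hC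
    obtain ⟨x, hx⟩ := CfsgLib.Perm.not_regular_of_nonabelian h2 M hMb hmin hnc
    exact hx (hsemi _ hCt (fun c hc g hg => Subgroup.mem_centralizer_iff.1 hc g hg) x)
  refine ⟨M, hMn, hMb, fun N hN hNb => ?_,
    CfsgLib.Perm.simple_of_minimal h2 M hMb hmin hnc, ?_, hC⟩
  · rcases hmin (M ⊓ N) inferInstance inf_le_left with h | h
    · refine absurd (eq_bot_iff.2 (le_trans (fun x hx => ?_) hC.le)) hNb
      exact Subgroup.mem_centralizer_iff.2 fun g hg =>
        (Subgroup.commute_of_normal_of_disjoint M N hMn hN (disjoint_iff.2 h) g x hg hx).eq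
    · exact inf_eq_left.1 h
  · rw [is_two_pretransitive_iff]
    intro p q u v hpq huv
    obtain ⟨g, hg⟩ := hMt.exists_smul_eq p u
    obtain ⟨m, hm, hmu, hmv⟩ := transitive_stabilizer h2 hn M hMt u (g • q) v
      (fun e => hpq (smul_left_cancel g (hg.trans e.symm))) huv.symm
    exact ⟨⟨m, hm⟩ * g, by rw [mul_smul, hg]; exact hmu, by rw [mul_smul]; exact hmv⟩

end CfsgLib.Recog.TwoModFour
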